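import Mathlib

/-!
# Averaged intertwiners in coprime characteristic
-/

set_option autoImplicit false
set_option linter.style.haveILetI false
set_option linter.unusedSectionVars false

open Module

namespace CfsgLib.HallHigman

variable {K : Type*} [Field K] {Q : Type*} [Group Q]
variable {W : Type*} [AddCommGroup W] [Module K W]
variable {W' : Type*} [AddCommGroup W'] [Module K W']
variable {V : Type*} [AddCommGroup V] [Module K V]

/-- Irreducibility. -/
def IsIrr (ρ : Q →* Module.End K W) : Prop :=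
  Nontrivial W ∧ ∀ U : Submodule K W, (∀ g, ∀ w ∈ U, ρ g w ∈ U) → U = ⊥ ∨ U = ⊤

/-- Intertwiners. -/
def Intw (ρ : Q →* Module.End K W) (ρ' : Q →* Module.End K W') (A : W →ₗ[K] W') : Prop :=
  ∀ g w, A (ρ g w) = ρ' g (A w)

theorem Intw.bijective {ρ : Q →* Module.End K W} {ρ' : Q →* Module.End K W'} {A : W →ₗ[K] W'}
    (h : Intw ρ ρ' A) (hρ : IsIrr ρ) (hρ' : IsIrr ρ') (hA : A ≠ 0) : Function.Bijective A := by
  constructor
  · rw [← LinearMap.ker_eq_bot]
    refine (hρ.2 _ fun g w hw => ?_).resolve_right fun e => hA (LinearMap.ker_eq_top.mp e)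
    rw [LinearMap.mem_ker] at hw ⊢
    rw [h, hw, map_zero]
  · rw [← LinearMap.range_eq_top]
    refine (hρ'.2 _ ?_).resolve_left fun e => hA (LinearMap.range_eq_bot.mp e)
    rintro g _ ⟨w, rfl⟩
    exact ⟨ρ g w, h g w⟩

theorem Intw.injective {ρ : Q →* Module.End K W} {ρ' : Q →* Module.End K W'} {A : W →ₗ[K] W'}
    (h : Intw ρ ρ' A) (hρ : IsIrr ρ) (hA : A ≠ 0) : Function.Injective A := by
  rw [← LinearMap.ker_eq_bot]
  refine (hρ.2 _ fun g w hw => ?_).resolve_right fun e => hA (LinearMap.ker_eq_top.mp e)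
  rw [LinearMap.mem_ker] at hw ⊢
  rw [h, hw, map_zero]

theorem Intw.scalar [IsAlgClosed K] [FiniteDimensional K W] {ρ : Q →* Module.End K W}
    {A : W →ₗ[K] W} (h : Intw ρ ρ A) (hρ : IsIrr ρ) : ∃ c : K, A = c • LinearMap.id := by
  haveI := hρ.1
  obtain ⟨c, hc⟩ := Module.End.exists_eigenvalue A
  refine ⟨c, ?_⟩
  have h' : Intw ρ ρ (A - c • LinearMap.id) := fun g w => by
    simp [h g w]
  by_contra hne
  obtain ⟨v, hv, hv0⟩ := hc.exists_hasEigenvector
  refine hv0 (h'.injective hρ (sub_ne_zero.mpr hne) ?_)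
  rw [map_zero]
  simp [Module.End.mem_eigenspace_iff.mp hv]

theorem scalar_of_comm [IsAlgClosed K] [FiniteDimensional K W] {ρ : Q →* Module.End K W}
    (hρ : IsIrr ρ) {g : Q} (hg : ∀ h : Q, g * h = h * g) : ∃ c : K, ρ g = c • LinearMap.id := by
  refine Intw.scalar (A := ρ g) (fun h w => ?_) hρ
  rw [← Module.End.mul_apply, ← map_mul, hg, map_mul, Module.End.mul_apply]

variable [Fintype Q]

/-- The average. -/
noncomputable def avg (ρ : Q →* Module.End K W) (ρ' : Q →* Module.End K W') (A : W →ₗ[K] W') :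
    W →ₗ[K] W' :=
  ∑ g : Q, (ρ' g ∘ₗ A ∘ₗ ρ g⁻¹)

theorem intw_avg (ρ : Q →* Module.End K W) (ρ' : Q →* Module.End K W') (A : W →ₗ[K] W') :
    Intw ρ ρ' (avg ρ ρ' A) := by
  intro h w
  simp only [avg, LinearMap.sum_apply, LinearMap.comp_apply, map_sum]
  refine Fintype.sum_equiv (Equiv.mulLeft h⁻¹) _ _ fun g => ?_
  simp only [Equiv.coe_mulLeft, mul_inv_rev, inv_inv, map_mul, Module.End.mul_apply]
  rw [← Module.End.mul_apply (ρ' h), ← map_mul, mul_inv_cancel, map_one, Module.End.one_apply]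

theorem trace_avg (ρ : Q →* Module.End K W) (A : W →ₗ[K] W) :
    LinearMap.trace K W (avg ρ ρ A) = (Fintype.card Q : K) * LinearMap.trace K W A := by
  have : ∀ g : Q, LinearMap.trace K W (ρ g ∘ₗ A ∘ₗ ρ g⁻¹) = LinearMap.trace K W A := fun g => by
    rw [← Module.End.mul_eq_comp, ← Module.End.mul_eq_comp, LinearMap.trace_mul_comm, mul_assoc,
      ← map_mul, inv_mul_cancel, map_one, mul_one]
  rw [avg, map_sum, Finset.sum_congr rfl fun g _ => this g, Finset.sum_const, Finset.card_univ,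
    nsmul_eq_mul]

/-- Schur orthogonality for one irreducible module. -/
theorem schur_avg [IsAlgClosed K] [FiniteDimensional K W] {ρ : Q →* Module.End K W} (hρ : IsIrr ρ)
    (hQ : (Fintype.card Q : K) ≠ 0) :
    (finrank K W : K) ≠ 0 ∧ ∀ A : W →ₗ[K] W, avg ρ ρ A =
      ((Fintype.card Q : K) / (finrank K W : K) * LinearMap.trace K W A) • LinearMap.id := by
  haveI := hρ.1
  have key : ∀ A : W →ₗ[K] W, ∃ c : K, avg ρ ρ A = c • LinearMap.id ∧
      c * (finrank K W : K) = (Fintype.card Q : K) * LinearMap.trace K W A := fun A => by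
    obtain ⟨c, hc⟩ := (intw_avg ρ ρ A).scalar hρ
    refine ⟨c, hc, ?_⟩
    have := trace_avg ρ A
    rw [hc, map_smul, LinearMap.trace_id, smul_eq_mul] at this
    exact this
  have hN : (finrank K W : K) ≠ 0 := by
    intro h0
    obtain ⟨v, hv⟩ := exists_ne (0 : W)
    obtain ⟨φ, hφ⟩ := Module.Projective.exists_dual_ne_zero K hv
    obtain ⟨c, -, hc⟩ := key (φ.smulRight v)
    rw [h0, mul_zero, LinearMap.trace_smulRight] at hc
    exact mul_ne_zero hQ hφ hc.symm
  refine ⟨hN, fun A => ?_⟩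
  obtain ⟨c, hc, hc'⟩ := key A
  rw [hc]
  congr 1
  field_simp
  linear_combination hc'

/-- The projector of a matrix coefficient. -/
noncomputable def coeffOp (ρ : Q →* Module.End K W) (φ : Module.Dual K W) (w : W)
    (σ : Q →* Module.End K V) : Module.End K V :=
  ∑ g : Q, φ (ρ g⁻¹ w) • σ g

theorem coeffOp_apply (ρ : Q →* Module.End K W) (φ : Module.Dual K W) (w : W)
    (σ : Q →* Module.End K V) {ρ' : Q →* Module.End K W'} {f : W' →ₗ[K] V} (hf : Intw ρ' σ f)
    (u : W') : coeffOp ρ φ w σ (f u) = f (avg ρ ρ' (φ.smulRight u) w) := by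
  simp only [coeffOp, avg, LinearMap.sum_apply, LinearMap.smul_apply, LinearMap.comp_apply, map_sum,
    LinearMap.smulRight_apply, map_smul]
  exact Finset.sum_congr rfl fun g _ => by rw [hf g u]

theorem avg_eq_zero {ρ : Q →* Module.End K W} {ρ' : Q →* Module.End K W'} (hρ : IsIrr ρ)
    (hρ' : IsIrr ρ') (h : ∀ A : W →ₗ[K] W', Intw ρ ρ' A → ¬ Function.Bijective A)
    (A : W →ₗ[K] W') : avg ρ ρ' A = 0 := by
  by_contra hne
  exact h _ (intw_avg ρ ρ' A) ((intw_avg ρ ρ' A).bijective hρ hρ' hne)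

/-- Fourier inversion in the coefficient space of an irreducible module. -/
theorem sum_trace_smul [IsAlgClosed K] [FiniteDimensional K W] {ρ : Q →* Module.End K W}
    (hρ : IsIrr ρ) (hQ : (Fintype.card Q : K) ≠ 0) (f : Module.End K W) :
    ∑ g : Q, LinearMap.trace K W (f * ρ g⁻¹) • ρ g =
      ((Fintype.card Q : K) / (finrank K W : K)) • f := by
  classical
  set b := Module.finBasis K W
  obtain ⟨-, havg⟩ := schur_avg hρ hQ
  refine LinearMap.ext fun v => ?_
  have htr : ∀ F : Module.End K W, LinearMap.trace K W F = ∑ i, b.coord i (F (b i)) := fun F => by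
    rw [LinearMap.trace_eq_matrix_trace K b, Matrix.trace]
    simp [Matrix.diag, LinearMap.toMatrix_apply]
  simp only [LinearMap.sum_apply, LinearMap.smul_apply]
  calc ∑ g : Q, LinearMap.trace K W (f * ρ g⁻¹) • ρ g v
      = ∑ g : Q, ∑ i, b.coord i (ρ g⁻¹ (f (b i))) • ρ g v := by
        refine Finset.sum_congr rfl fun g _ => ?_
        rw [LinearMap.trace_mul_comm, htr, Finset.sum_smul]
        rfl
    _ = ∑ i, ∑ g : Q, b.coord i (ρ g⁻¹ (f (b i))) • ρ g v := Finset.sum_comm
    _ = ∑ i, avg ρ ρ ((b.coord i).smulRight v) (f (b i)) := by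
        refine Finset.sum_congr rfl fun i _ => ?_
        simp only [avg, LinearMap.sum_apply, LinearMap.comp_apply, LinearMap.smulRight_apply, map_smul]
    _ = ∑ i, ((Fintype.card Q : K) / (finrank K W : K) * b.coord i v) • f (b i) := by
        refine Finset.sum_congr rfl fun i _ => ?_
        rw [havg, LinearMap.trace_smulRight]
        rfl
    _ = ((Fintype.card Q : K) / (finrank K W : K)) • f v := by
        simp only [← smul_smul, ← Finset.smul_sum, ← map_smul, ← map_sum, Module.Basis.coord_apply,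
          b.sum_repr]

end CfsgLib.HallHigman
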