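import Cfsg.Agent.Lib.HallHigman.Schur

/-!
# The degree of an irreducible module of a `q`-group
-/

set_option autoImplicit false
set_option linter.style.haveILetI false
set_option linter.unusedSectionVars false

open Module

namespace CfsgLib.HallHigman

variable {K : Type*} [Field K] [IsAlgClosed K]

/-- An irreducible module of a finite `q`-group over an algebraically closed field has `q`-power
dimension. -/
theorem irr_pgroup_finrank {q : ℕ} [Fact q.Prime] : ∀ (n : ℕ) (Q : Type*) [Group Q] [Finite Q],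
    Nat.card Q = n → IsPGroup q Q → ∀ {W : Type*} [AddCommGroup W] [Module K W] [FiniteDimensional K W]
      (ρ : Q →* Module.End K W), IsIrr ρ → ∃ k : ℕ, finrank K W = q ^ k := by
  intro n
  induction n using Nat.strong_induction_on with
  | _ n IH =>
  intro Q _ _ hn hQ W _ _ _ ρ hρ
  classical
  haveI := hρ.1
  -- reduce to the faithful case
  let N : Subgroup Q := ρ.ker
  by_cases hinj : N = ⊥
  swap
  · haveI : N.Normal := MonoidHom.normal_ker ρ
    let ρ' : Q ⧸ N →* Module.End K W := QuotientGroup.lift N ρ le_rfl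
    have hρ' : IsIrr ρ' := ⟨hρ.1, fun U hU => hρ.2 U fun g w hw => hU (QuotientGroup.mk g) w hw⟩
    refine IH _ ?_ (Q ⧸ N) rfl (hQ.to_quotient N) ρ' hρ'
    have hlt : 1 < Nat.card N := (Subgroup.one_lt_card_iff_ne_bot N).mpr hinj
    have hmul := Subgroup.card_eq_card_quotient_mul_card_subgroup N
    have hpos : 0 < Nat.card (Q ⧸ N) := Nat.card_pos
    rw [← hn, hmul]
    exact (Nat.lt_mul_iff_one_lt_right hpos).mpr hlt
  have hfaith : Function.Injective ρ := (MonoidHom.ker_eq_bot_iff ρ).mp hinj
  -- the commutative case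
  by_cases hab : ∀ g h : Q, g * h = h * g
  · refine ⟨0, ?_⟩
    obtain ⟨v, hv⟩ := exists_ne (0 : W)
    have htop : (K ∙ v) = ⊤ := (hρ.2 _ fun g w hw => by
      obtain ⟨c, hc⟩ := scalar_of_comm hρ (hab g)
      rw [hc]; simpa using Submodule.smul_mem _ c hw).resolve_left (by simpa using hv)
    rw [pow_zero, ← finrank_top K W, ← htop, finrank_span_singleton hv]
  -- an element of the second centre which is not scalar
  haveI := hQ.isNilpotent
  obtain ⟨b, hb, hbn⟩ : ∃ b : Q, (∀ g, ∀ h, b⁻¹ * g⁻¹ * b * g * h = h * (b⁻¹ * g⁻¹ * b * g)) ∧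
      b ∉ Subgroup.center Q := by
    have hZ : Subgroup.center Q ≠ ⊤ := fun e => hab fun g h =>
      (Subgroup.mem_center_iff.mp (e ▸ Subgroup.mem_top g) h).symm
    haveI : Nontrivial (Q ⧸ Subgroup.center Q) := QuotientGroup.nontrivial_iff.mpr hZ
    haveI := (hQ.to_quotient (Subgroup.center Q)).center_nontrivial
    obtain ⟨⟨c, hc⟩, hc1⟩ := exists_ne (1 : Subgroup.center (Q ⧸ Subgroup.center Q))
    obtain ⟨b, rfl⟩ := QuotientGroup.mk_surjective c
    refine ⟨b, fun g h => ?_, fun hb => hc1 (Subtype.ext ((QuotientGroup.eq_one_iff b).mpr hb))⟩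
    have h1 : b⁻¹ * g⁻¹ * b * g ∈ Subgroup.center Q := by
      rw [← QuotientGroup.eq_one_iff]
      simp only [QuotientGroup.mk_mul, QuotientGroup.mk_inv]
      rw [mul_assoc _ (QuotientGroup.mk b : Q ⧸ Subgroup.center Q),
        ← Subgroup.mem_center_iff.mp hc (QuotientGroup.mk g)]
      group
    exact (Subgroup.mem_center_iff.mp h1 h).symm
  have hscal : ∀ g : Q, ∃ ν : K, ρ b * ρ g = ν • (ρ g * ρ b) := by
    intro g
    obtain ⟨c, hc⟩ := scalar_of_comm hρ (g := b⁻¹ * g⁻¹ * b * g) (hb g)
    refine ⟨c, ?_⟩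
    rw [← map_mul, show b * g = g * b * (b⁻¹ * g⁻¹ * b * g) by group, map_mul, hc,
      ← Module.End.one_eq_id, mul_smul_comm, mul_one, map_mul]
  choose ν hν using hscal
  have hunit : ∀ g, ρ g * ρ g⁻¹ = 1 := fun g => by rw [← map_mul, mul_inv_cancel, map_one]
  let S : Subgroup Q := Subgroup.centralizer ({b} : Set Q)
  have hν_eq : ∀ g h, ν g = ν h → h⁻¹ * g ∈ S := by
    intro g h e
    rw [Subgroup.mem_centralizer_singleton_iff]
    apply hfaith
    rw [map_mul, map_mul, map_mul, map_mul]
    calc ρ h⁻¹ * ρ g * ρ b = ρ h⁻¹ * (ρ g * ρ b) := mul_assoc _ _ _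
      _ = ρ b * (ρ h⁻¹ * ρ g) := by
        have hi : ρ h⁻¹ * ρ h = 1 := by rw [← map_mul, inv_mul_cancel, map_one]
        have h3 : ν h • (ρ b * ρ h⁻¹) = ρ h⁻¹ * ρ b := by
          calc ν h • (ρ b * ρ h⁻¹) = ρ h⁻¹ * (ν h • (ρ h * ρ b)) * ρ h⁻¹ := by
                rw [mul_smul_comm, smul_mul_assoc, ← mul_assoc, hi, one_mul]
            _ = ρ h⁻¹ * (ρ b * ρ h) * ρ h⁻¹ := by rw [hν]
            _ = ρ h⁻¹ * ρ b := by rw [mul_assoc, mul_assoc, hunit, mul_one]
        have hνh : ν h ≠ 0 := fun e0 => by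
          have h4 := hν h
          rw [e0, zero_smul, ← map_mul] at h4
          have h5 : (1 : Module.End K W) = 0 := by
            rw [← map_one ρ, ← mul_inv_cancel (b * h), map_mul, h4, zero_mul]
          exact one_ne_zero h5
        apply smul_right_injective _ hνh
        show ν h • (ρ h⁻¹ * (ρ g * ρ b)) = ν h • (ρ b * (ρ h⁻¹ * ρ g))
        rw [← mul_smul_comm, ← e, ← hν, e, ← mul_assoc (ρ b), ← smul_mul_assoc, h3, mul_assoc]
  have hS : S ≠ ⊤ := fun e => hbn (Subgroup.mem_center_iff.mpr fun g =>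
    Subgroup.mem_centralizer_singleton_iff.mp (e ▸ Subgroup.mem_top g : g ∈ S))
  -- the eigenspace
  obtain ⟨c, hc⟩ := Module.End.exists_eigenvalue (ρ b)
  set E := Module.End.eigenspace (ρ b) c with hE
  have hshift : ∀ g, ∀ w ∈ E, ρ g w ∈ Module.End.eigenspace (ρ b) (ν g * c) := by
    intro g w hw
    rw [Module.End.mem_eigenspace_iff]
    rw [hE, Module.End.mem_eigenspace_iff] at hw
    rw [← Module.End.mul_apply, hν, LinearMap.smul_apply, Module.End.mul_apply, hw, map_smul, smul_smul]
  have hSE : ∀ g : S, ∀ w ∈ E, ρ g w ∈ E := by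
    intro g w hw
    rw [hE, Module.End.mem_eigenspace_iff] at hw ⊢
    rw [← Module.End.mul_apply, ← map_mul, ← Subgroup.mem_centralizer_singleton_iff.mp g.2, map_mul,
      Module.End.mul_apply, hw, map_smul]
  -- the sum of translates of a subspace
  letI := Fintype.ofFinite (Q ⧸ S)
  let tr : ∀ U : Submodule K W, ((Q ⧸ S) → U) →ₗ[K] W := fun U =>
    ∑ x : Q ⧸ S, (ρ x.out) ∘ₗ U.subtype ∘ₗ LinearMap.proj x
  have htop : ∀ U : Submodule K W, (∀ g : S, ∀ w ∈ U, ρ g w ∈ U) → U ≠ ⊥ →
      finrank K W ≤ Nat.card (Q ⧸ S) * finrank K U := by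
    intro U hU hne
    have hsingle : ∀ (x : Q ⧸ S) (w : U), tr U (Pi.single x w) = ρ x.out (w : W) := fun x w => by
      simp only [tr, LinearMap.sum_apply, LinearMap.comp_apply, LinearMap.proj_apply]
      rw [Finset.sum_eq_single x (fun y _ hy => by simp [Pi.single_eq_of_ne hy])
        (fun h => absurd (Finset.mem_univ _) h), Pi.single_eq_same]
      rfl
    have hmem : ∀ g : Q, ∀ w ∈ U, ρ g w ∈ LinearMap.range (tr U) := by
      intro g w hw
      obtain ⟨t, ht⟩ := QuotientGroup.mk_out_eq_mul S g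
      refine ⟨Pi.single (g : Q ⧸ S) ⟨ρ (t⁻¹ : S) w, hU t⁻¹ w hw⟩, ?_⟩
      rw [hsingle, ht]
      show ρ (g * t) (ρ ((t⁻¹ : S) : Q) w) = ρ g w
      rw [← Module.End.mul_apply, ← map_mul, Subgroup.coe_inv, mul_inv_cancel_right]
    have hrange : LinearMap.range (tr U) = ⊤ := by
      refine (hρ.2 _ ?_).resolve_left ?_
      · rintro g _ ⟨f, rfl⟩
        simp only [tr, LinearMap.sum_apply, LinearMap.comp_apply, map_sum]
        refine Submodule.sum_mem _ fun x _ => ?_
        rw [← Module.End.mul_apply, ← map_mul]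
        exact hmem _ _ (f x).2
      · intro h
        obtain ⟨w, hw, hw0⟩ := (Submodule.ne_bot_iff U).mp hne
        have := hmem 1 w hw
        rw [h, Submodule.mem_bot, map_one] at this
        exact hw0 this
    have := LinearMap.finrank_range_le (tr U)
    rwa [hrange, finrank_top, Module.finrank_pi_fintype, Finset.sum_const, Finset.card_univ,
      smul_eq_mul, ← Nat.card_eq_fintype_card] at this
  have hlow : Nat.card (Q ⧸ S) * finrank K E ≤ finrank K W := by
    have hinjtr : Function.Injective (tr E) := by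
      rw [← LinearMap.ker_eq_bot, LinearMap.ker_eq_bot']
      intro f hf
      have hμ : Function.Injective fun x : Q ⧸ S => ν x.out * c := by
        intro x y e
        have hc0 : c ≠ 0 := fun e0 => by
          obtain ⟨v, hv, hv0⟩ := hc.exists_hasEigenvector
          refine hv0 ?_
          have h1 := Module.End.mem_eigenspace_iff.mp hv
          rw [e0, zero_smul] at h1
          have : ρ (b⁻¹ * b) v = v := by rw [inv_mul_cancel, map_one]; rfl
          rw [map_mul, Module.End.mul_apply, h1, map_zero] at this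
          exact this.symm
        have h1 := hν_eq _ _ (mul_right_cancel₀ hc0 e)
        rw [← x.out_eq, ← y.out_eq]
        exact (QuotientGroup.eq.mpr h1).symm
      have hind := (Module.End.eigenspaces_iSupIndep (ρ b)).comp hμ
      rw [iSupIndep_iff_finsetSum_eq_zero_imp_eq_zero] at hind
      have hall := hind Finset.univ (fun x => ρ x.out (f x : W))
        (fun x _ => hshift x.out _ (f x).2)
        (by simpa [tr, LinearMap.sum_apply] using hf)
      funext x
      apply Subtype.ext
      have h2 := congrArg (ρ (x.out)⁻¹) (hall x (Finset.mem_univ _))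
      rw [← Module.End.mul_apply, ← map_mul, inv_mul_cancel, map_one, map_zero] at h2
      simpa using h2
    have := LinearMap.finrank_le_finrank_of_injective hinjtr
    rwa [Module.finrank_pi_fintype, Finset.sum_const, Finset.card_univ, smul_eq_mul,
      ← Nat.card_eq_fintype_card] at this
  have hEne : E ≠ ⊥ := hc
  haveI hEnt : Nontrivial E := Submodule.nontrivial_iff_ne_bot.mpr hEne
  let ρE : S →* Module.End K E :=
    { toFun := fun g => (ρ g).restrict (hSE g)
      map_one' := LinearMap.ext fun w => Subtype.ext (by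
        show ρ ((1 : S) : Q) (w : W) = w
        rw [Subgroup.coe_one, map_one]; rfl)
      map_mul' := fun g h => LinearMap.ext fun w => Subtype.ext (by
        show ρ ((g * h : S) : Q) (w : W) = ρ g (ρ h (w : W))
        rw [Subgroup.coe_mul, map_mul]; rfl) }
  have hρE : IsIrr ρE := by
    refine ⟨hEnt, fun U hU => ?_⟩
    by_cases hU0 : U = ⊥
    · exact Or.inl hU0
    right
    set U' := U.map E.subtype with hU'
    have h1 := htop U' (fun g w hw => by
      obtain ⟨w', hw', rfl⟩ := hw
      exact ⟨ρE g w', hU g w' hw', rfl⟩) (fun e => hU0 (by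
        rw [eq_bot_iff]
        intro w hw
        have h2 : (w : W) ∈ U' := ⟨w, hw, rfl⟩
        rw [e, Submodule.mem_bot] at h2
        exact Submodule.mem_bot _ |>.mpr (Subtype.ext h2)))
    rw [hU', Submodule.finrank_map_subtype_eq] at h1
    refine Submodule.eq_top_of_finrank_eq (le_antisymm (Submodule.finrank_le U) ?_)
    exact Nat.le_of_mul_le_mul_left (hlow.trans h1) Nat.card_pos
  have hlt : Nat.card S < n := by
    rw [← hn]
    refine lt_of_le_of_ne (Subgroup.card_le_card_group S) fun e => hS (Subgroup.eq_top_of_card_eq _ e)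
  obtain ⟨k, hk⟩ := IH _ hlt S rfl (hQ.to_subgroup S) ρE hρE
  obtain ⟨l, hl⟩ := hQ.index S
  refine ⟨l + k, ?_⟩
  have hW := le_antisymm (htop E (fun g w hw => hSE g w hw) hEne) hlow
  rw [← S.index_eq_card, hl, hk] at hW
  rw [hW, pow_add]

end CfsgLib.HallHigman
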