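import Cfsg.Agent.Lib.HallHigman.Main
import Cfsg.Agent.Lib.PSolvable.Omega
import Cfsg.Agent.Lib.ZJ.RealElements

/-!
Theorem B of Hall and Higman applied to the Frattini quotient of the `p`-core of a `p`-solvable
group with trivial `p'`-core.
-/

set_option autoImplicit false
set_option linter.style.haveILetI false
set_option linter.unusedSectionVars false

open scoped commutatorElement

namespace CfsgLib.HallHigman

/-- Theorem B over any field of characteristic `p`. -/
theorem theorem_b_field {F : Type*} [Field F] {p : ℕ} [Fact p.Prime] [CharP F p] {V : Type*}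
    [AddCommGroup V] [Module F V] [FiniteDimensional F V] [Nontrivial V] {H : Type*} [Group H]
    [Finite H] (ρ : H →* Module.End F V) (hρ : Function.Injective ρ) (hsol : Cfsg.IsPSolvable p H)
    (hO : Cfsg.pCore p H = ⊥) (x : H) (n : ℕ) (hn : orderOf x = p ^ n) (r : ℕ)
    (hr : (ρ x - 1) ^ r = 0) :
    p ^ n ≤ r ∨ ∃ n₀ q m : ℕ, 1 ≤ n₀ ∧ n₀ ≤ n ∧ q.Prime ∧ 1 ≤ m ∧ p ^ n₀ - 1 = q ^ m ∧
      (∀ Q : Sylow q H, ¬ IsMulCommutative Q) ∧ p ^ (n - n₀) * (p ^ n₀ - 1) ≤ r := by
  classical
  set K := AlgebraicClosure F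
  haveI : CharP K p := charP_of_injective_algebraMap (algebraMap F K).injective p
  set N := Module.finrank F V with hN
  set b := Module.finBasis F V with hb
  haveI : Nonempty (Fin N) := ⟨⟨0, Module.finrank_pos⟩⟩
  let Φ : Module.End F V →+* Module.End K (Fin N → K) :=
    ((Matrix.toLinAlgEquiv' (R := K) (n := Fin N)).toRingEquiv.toRingHom.comp
      (RingHom.mapMatrix (algebraMap F K))).comp (LinearMap.toMatrixAlgEquiv b).toRingEquiv.toRingHom
  have hΦ : Function.Injective Φ := by
    show Function.Injective (fun f => Matrix.toLinAlgEquiv' ((LinearMap.toMatrixAlgEquiv b f).map (algebraMap F K)))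
    exact ((Matrix.toLinAlgEquiv' (R := K) (n := Fin N)).injective.comp
      (Matrix.map_injective (algebraMap F K).injective)).comp (LinearMap.toMatrixAlgEquiv b).injective
  refine theorem_b (Φ.toMonoidHom.comp ρ) (hΦ.comp hρ) hsol hO x n hn r ?_
  show (Φ (ρ x) - 1) ^ r = 0
  rw [← map_one Φ, ← map_sub, ← map_pow, hr, map_zero]

/-- An action by automorphisms on a group of exponent `p`, made linear. -/
noncomputable def endOfAut {G A : Type*} [Group G] [CommGroup A] {p : ℕ} [Module (ZMod p) (Additive A)]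
    (φ : G →* MulAut A) : G →* Module.End (ZMod p) (Additive A) where
  toFun g := AddMonoidHom.toZModLinearMap p (MonoidHom.toAdditive (φ g).toMonoidHom)
  map_one' := LinearMap.ext fun v => by simp
  map_mul' g h := LinearMap.ext fun v => by simp

/-- The exception in Theorem B, with non-abelian Sylow subgroups. -/
def Exception (p : ℕ) (G : Type*) [Group G] : Prop :=
  ∃ n₀ q m : ℕ, 1 ≤ n₀ ∧ q.Prime ∧ 1 ≤ m ∧ p ^ n₀ - 1 = q ^ m ∧
    ∀ Q : Sylow q G, ¬ IsMulCommutative (Q : Subgroup G)

theorem Exception.of_surjective {p : ℕ} {G H : Type*} [Group G] [Finite G] [Group H] (f : G →* H)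
    (hf : Function.Surjective f) (h : Exception p H) : Exception p G := by
  obtain ⟨n₀, q, m, h1, hq, h2, h3, h4⟩ := h
  refine ⟨n₀, q, m, h1, hq, h2, h3, fun Q hQ => ?_⟩
  haveI := Fact.mk hq
  refine h4 (Q.mapSurjective hf) ?_
  refine ⟨⟨fun a b => ?_⟩⟩
  obtain ⟨x, hx, hxa⟩ := a.2
  obtain ⟨y, hy, hyb⟩ := b.2
  refine Subtype.ext ?_
  show (a : H) * b = b * a
  rw [← hxa, ← hyb, ← map_mul, ← map_mul]
  exact congrArg f (congrArg Subtype.val (hQ.is_comm.comm ⟨x, hx⟩ ⟨y, hy⟩))

variable {G : Type*} [Group G] [Finite G] {p : ℕ} [hp : Fact p.Prime]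

theorem endOfAut_apply {G A : Type*} [Group G] [CommGroup A] {p : ℕ} [Module (ZMod p) (Additive A)]
    (φ : G →* MulAut A) (g : G) (a : A) :
    endOfAut (p := p) φ g (Additive.ofMul a) = Additive.ofMul (φ g a) := rfl

/-- The iterated products `a, a · σ a, …` are the partial geometric sums. -/
theorem sum_pow_apply {A : Type*} [CommGroup A] [Module (ZMod p) (Additive A)] {H : Type*} [Group H]
    (φ : H →* MulAut A) (x : H) (a : A) (f : ℕ → A) (h0 : f 0 = 1)
    (hs : ∀ i, f (i + 1) = a * φ x (f i)) (N : ℕ) :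
    Additive.ofMul (f N) =
      (∑ i ∈ Finset.range N, endOfAut (p := p) φ x ^ i) (Additive.ofMul a) := by
  induction N with
  | zero => rw [h0]; rfl
  | succ N ih =>
    rw [hs, ofMul_mul, ← endOfAut_apply (p := p), ih, Finset.sum_range_succ', LinearMap.add_apply,
      pow_zero, Module.End.one_apply, add_comm, LinearMap.sum_apply, LinearMap.sum_apply, map_sum]
    congr 1
    refine Finset.sum_congr rfl fun i _ => ?_
    rw [pow_succ']
    rfl

/-- A faithful action on a group of exponent `p`: a full Jordan block or the exception. -/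
theorem full_block_or_exception {A : Type*} [CommGroup A] [Finite A] (hA : ∀ a : A, a ^ p = 1)
    {H : Type*} [Group H] [Finite H] (φ : H →* MulAut A) (hφ : Function.Injective φ)
    (hsol : Cfsg.IsPSolvable p H) (hO : Cfsg.pCore p H = ⊥) (x : H) (n : ℕ) (hn1 : 1 ≤ n)
    (hx : orderOf x = p ^ n) :
    (∃ a : A, ∀ f : ℕ → A, f 0 = 1 → (∀ i, f (i + 1) = a * φ x (f i)) → f (p ^ n) ≠ 1) ∨
      Exception p H := by
  classical
  letI : Module (ZMod p) (Additive A) :=
    AddCommGroup.zmodModule (n := p) (G := Additive A) fun v =>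
      Additive.toMul.injective (hA (Additive.toMul v))
  haveI : Finite (Additive A) := inferInstanceAs (Finite A)
  haveI : FiniteDimensional (ZMod p) (Additive A) := Module.Finite.of_finite
  let ρ : H →* Module.End (ZMod p) (Additive A) := endOfAut φ
  have ρmk : ∀ g (a : A), ρ g (Additive.ofMul a) = Additive.ofMul (φ g a) := fun g a => rfl
  have hρ : Function.Injective ρ := fun g h e => hφ (MulEquiv.ext fun a =>
    Additive.ofMul.injective (LinearMap.congr_fun e (Additive.ofMul a)))
  haveI : Nontrivial (Additive A) := by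
    by_contra hnt
    rw [not_nontrivial_iff_subsingleton] at hnt
    have h1 : x = 1 := hρ (LinearMap.ext fun v => Subsingleton.elim _ _)
    rw [h1, orderOf_one] at hx
    exact absurd hx.symm (Nat.one_lt_pow (by omega) hp.out.one_lt).ne'
  by_cases hdeg : (ρ x - 1) ^ (p ^ n - 1) = 0
  · right
    rcases theorem_b_field ρ hρ hsol hO x n hx _ hdeg with h | h
    · exact absurd h (by have := Nat.pow_pos (n := n) hp.out.pos; omega)
    · obtain ⟨n₀, q, m, a1, -, a2, a3, a4, a5, -⟩ := h
      exact ⟨n₀, q, m, a1, a2, a3, a4, a5⟩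
  · left
    haveI : CharP (Module.End (ZMod p) (Additive A)) p := charP_end p (Additive A)
    rw [sub_one_pow_eq_geom] at hdeg
    obtain ⟨a, ha⟩ : ∃ a : A, (∑ i ∈ Finset.range (p ^ n), ρ x ^ i) (Additive.ofMul a) ≠ 0 := by
      by_contra hall
      push Not at hall
      exact hdeg (LinearMap.ext fun w => hall (Additive.toMul w))
    refine ⟨a, fun f h0 hs he => ha ?_⟩
    rw [← sum_pow_apply φ x a f h0 hs, he]
    rfl

/-- The faithful action of `G / O_p(G)` on the Frattini quotient of `O_p(G)`. -/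
theorem exists_action (hsol : Cfsg.IsPSolvable p G) (hO : Cfsg.pPrimeCore p G = ⊥) :
    haveI := Fitting.pCore_normal (G := G) p
    ∃ φ : G ⧸ Cfsg.pCore p G →* MulAut (↥(Cfsg.pCore p G) ⧸ frattini ↥(Cfsg.pCore p G)),
      Function.Injective φ ∧
      (∀ (g : G) (a : Cfsg.pCore p G), φ (QuotientGroup.mk g) (QuotientGroup.mk a) =
        QuotientGroup.mk (MulAut.conjNormal g a)) ∧
      (∀ u v : ↥(Cfsg.pCore p G) ⧸ frattini ↥(Cfsg.pCore p G), u * v = v * u) ∧
      ∀ v : ↥(Cfsg.pCore p G) ⧸ frattini ↥(Cfsg.pCore p G), v ^ p = 1 := by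
  classical
  haveI hOn := Fitting.pCore_normal (G := G) p
  set O := Cfsg.pCore p G with hOdef
  have hOp : IsPGroup p O := Fitting.pCore_isPGroup p
  obtain ⟨hcomm, hpow⟩ := PSolvable.commutator_le_frattini hOp
  letI : CommGroup (O ⧸ frattini O) :=
    { (inferInstance : Group (O ⧸ frattini O)) with
      mul_comm := fun a b => by
        obtain ⟨a, rfl⟩ := QuotientGroup.mk'_surjective (frattini O) a
        obtain ⟨b, rfl⟩ := QuotientGroup.mk'_surjective (frattini O) b
        show QuotientGroup.mk' (frattini O) a * QuotientGroup.mk' (frattini O) b = _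
        rw [← map_mul, ← map_mul, QuotientGroup.mk'_apply, QuotientGroup.mk'_apply, QuotientGroup.eq,
          show (a * b)⁻¹ * (b * a) = ⁅b⁻¹, a⁻¹⁆ by rw [commutatorElement_def]; group]
        exact hcomm (Subgroup.commutator_mem_commutator (Subgroup.mem_top _) (Subgroup.mem_top _)) }
  have hexp : ∀ v : O ⧸ frattini O, v ^ p = 1 := by
    intro v
    obtain ⟨a, rfl⟩ := QuotientGroup.mk'_surjective (frattini O) v
    rw [← map_pow, QuotientGroup.mk'_apply]
    exact (QuotientGroup.eq_one_iff _).mpr (hpow a)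
  let act : G → MulAut (O ⧸ frattini O) := fun g =>
    QuotientGroup.congr _ _ (MulAut.conjNormal g) (Subgroup.characteristic_iff_map_eq.mp inferInstance _)
  have actmk : ∀ g (a : O), act g (QuotientGroup.mk a) = QuotientGroup.mk (MulAut.conjNormal g a) :=
    fun g a => rfl
  let η : G →* MulAut (O ⧸ frattini O) :=
    MonoidHom.mk' act fun g h => by
      refine MulEquiv.ext fun v => ?_
      obtain ⟨a, rfl⟩ := QuotientGroup.mk'_surjective (frattini O) v
      show act (g * h) (QuotientGroup.mk a) = act g (act h (QuotientGroup.mk a))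
      rw [actmk, actmk, actmk, map_mul]
      rfl
  have ηmk : ∀ g (a : O), η g (QuotientGroup.mk a) = QuotientGroup.mk (MulAut.conjNormal g a) :=
    fun g a => rfl
  have hker : η.ker = O := by
    have hle : O ≤ η.ker := by
      intro g hg
      rw [MonoidHom.mem_ker]
      refine MulEquiv.ext fun v => ?_
      obtain ⟨a, rfl⟩ := QuotientGroup.mk'_surjective (frattini O) v
      show η g (QuotientGroup.mk a) = _
      rw [ηmk, show MulAut.conjNormal g a = (⟨g, hg⟩ : O) * a * (⟨g, hg⟩ : O)⁻¹ from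
        Subtype.ext (MulAut.conjNormal_apply g a)]
      show QuotientGroup.mk' (frattini O) _ = QuotientGroup.mk' (frattini O) a
      rw [map_mul, map_mul, map_inv, mul_inv_cancel_comm]
    refine le_antisymm (Fitting.le_pCore inferInstance ?_) hle
    intro g
    obtain ⟨k, c, hc, he⟩ := Nat.exists_eq_pow_mul_and_not_dvd (orderOf_pos (g : G)).ne' p hp.out.ne_one
    refine ⟨k, Subtype.ext ?_⟩
    show (g : G) ^ p ^ k = 1
    set a := (g : G) ^ p ^ k with hadef
    have haord : a ^ c = 1 := by rw [hadef, ← pow_mul, ← he, pow_orderOf_eq_one]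
    have hcop : (orderOf a).Coprime p :=
      ((hp.out.coprime_iff_not_dvd.mpr hc).symm).coprime_dvd_left (orderOf_dvd_of_pow_eq_one haord)
    have hcen : Subgroup.zpowers a ≤ Subgroup.centralizer (O : Set G) := by
      refine Coprime.le_centralizer_of_frattini Subgroup.le_normalizer_of_normal ?_ ?_
      · obtain ⟨j, hj⟩ := IsPGroup.iff_card.mp (hOp.to_subgroup (frattini O))
        rw [Nat.card_zpowers, hj]
        exact hcop.pow_right j
      · intro b hb t ht
        have hbK : b ∈ η.ker := Subgroup.zpowers_le.mpr (η.ker.pow_mem g.2 _) hb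
        have h1 := congrArg (fun f : MulAut (O ⧸ frattini O) => f (QuotientGroup.mk (⟨t, ht⟩ : O)))
          (MonoidHom.mem_ker.mp hbK)
        simp only [ηmk, MulAut.one_apply] at h1
        have h3 := inv_mem (Subgroup.Normal.mem_comm (inferInstance : (frattini O).Normal)
          (QuotientGroup.eq.mp h1))
        refine ⟨_, h3, ?_⟩
        simp [mul_assoc]
    have haO : a ∈ O := PSolvable.centralizer_pCore_le hsol hO (hcen (Subgroup.mem_zpowers a))
    obtain ⟨j, hj⟩ := hOp ⟨a, haO⟩
    exact orderOf_eq_one_iff.mp (Nat.eq_one_of_dvd_coprimes (hcop.pow_right j) dvd_rfl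
      (orderOf_dvd_of_pow_eq_one (congrArg Subtype.val hj)))
  let φ : G ⧸ O →* MulAut (O ⧸ frattini O) := QuotientGroup.lift O η hker.ge
  have hφ : Function.Injective φ := by
    rw [injective_iff_map_eq_one]
    intro x hx
    obtain ⟨g, rfl⟩ := QuotientGroup.mk'_surjective O x
    exact (QuotientGroup.eq_one_iff g).mpr (hker ▸ (MonoidHom.mem_ker.mpr hx))
  exact ⟨φ, hφ, ηmk, mul_comm, hexp⟩

/-- The image of `z` on the Frattini quotient of `O_p(G)` has a full Jordan block, or the exception
occurs. -/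
theorem layer (hsol : Cfsg.IsPSolvable p G) (hO : Cfsg.pPrimeCore p G = ⊥) (z : G) (n : ℕ)
    (hn1 : 1 ≤ n) (hk : z ^ p ^ n ∈ Cfsg.pCore p G) (hk' : z ^ p ^ (n - 1) ∉ Cfsg.pCore p G) :
    (∃ v ∈ Cfsg.pCore p G, (v * z) ^ p ^ n * (z ^ p ^ n)⁻¹ ∉
      (frattini ↥(Cfsg.pCore p G)).map (Cfsg.pCore p G).subtype) ∨ Exception p G := by
  classical
  haveI hOn := Fitting.pCore_normal (G := G) p
  obtain ⟨φ, hφ, φmk, hcomm, hexp⟩ := exists_action hsol hO
  set O := Cfsg.pCore p G with hOdef
  letI : CommGroup (O ⧸ frattini O) :=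
    { (inferInstance : Group (O ⧸ frattini O)) with mul_comm := hcomm }
  have hxn : orderOf (QuotientGroup.mk z : G ⧸ O) = p ^ n := by
    obtain ⟨m, rfl⟩ : ∃ m, n = m + 1 := ⟨n - 1, by omega⟩
    refine orderOf_eq_prime_pow (fun h => hk' ?_) ?_
    · rw [← QuotientGroup.mk_pow] at h
      simpa using (QuotientGroup.eq_one_iff _).mp h
    · rw [← QuotientGroup.mk_pow]
      exact (QuotientGroup.eq_one_iff _).mpr hk
  rcases full_block_or_exception hexp φ hφ
    (PSolvable.isPSolvable_of_surjective _ (QuotientGroup.mk'_surjective O) hsol)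
    (le_bot_iff.mp ZJ.pCore_quotient_pCore_le_bot) (QuotientGroup.mk z) n hn1 hxn with ⟨a, ha⟩ | h
  · left
    obtain ⟨v, rfl⟩ := QuotientGroup.mk'_surjective (frattini O) a
    refine ⟨v, v.2, fun hmem => ?_⟩
    let w : ℕ → O := fun N => Nat.rec (motive := fun _ => O) 1 (fun _ u => v * MulAut.conjNormal z u) N
    have hw : ∀ N, (w N : G) = ((v : G) * z) ^ N * (z ^ N)⁻¹ := by
      intro N
      induction N with
      | zero => simp [w]
      | succ N ih =>
        show ((v * MulAut.conjNormal z (w N) : O) : G) = _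
        rw [Subgroup.coe_mul, MulAut.conjNormal_apply, ih, pow_succ', pow_succ' z]
        group
    refine ha (fun N => QuotientGroup.mk (w N)) rfl (fun i => ?_) ?_
    · show QuotientGroup.mk (w (i + 1)) = _
      rw [QuotientGroup.mk'_apply, φmk, ← QuotientGroup.mk_mul]
    obtain ⟨y, hy, he⟩ := hmem
    rw [show w (p ^ n) = y from Subtype.ext ((hw _).trans he.symm)]
    exact (QuotientGroup.eq_one_iff y).mpr hy
  · exact Or.inr (Exception.of_surjective (QuotientGroup.mk' O) (QuotientGroup.mk'_surjective O) h)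

end CfsgLib.HallHigman
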