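import Cfsg.Agent.Lib.HallHigman.Layer

/-!
Bounds on the `p`-length by the exponent of the Sylow `p`-subgroups.
-/

set_option autoImplicit false
set_option linter.style.haveILetI false
set_option linter.unusedSectionVars false

namespace CfsgLib.HallHigman

variable {G : Type*} [Group G] [Finite G] {p : ℕ} [hp : Fact p.Prime]

theorem upperPSeries_even_succ (j : ℕ) :
    (Cfsg.upperPSeries p G (2 * j + 1)).1 =
      (Cfsg.pPrimeCore p (G ⧸ (Cfsg.upperPSeries p G (2 * j)).1)).comap (QuotientGroup.mk' _) := by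
  rw [Cfsg.upperPSeries]
  split_ifs with h
  · rfl
  · exact absurd (even_two_mul j) h

theorem upperPSeries_odd_succ (j : ℕ) :
    (Cfsg.upperPSeries p G (2 * (j + 1))).1 =
      (Cfsg.pCore p (G ⧸ (Cfsg.upperPSeries p G (2 * j + 1)).1)).comap (QuotientGroup.mk' _) := by
  rw [show 2 * (j + 1) = 2 * j + 1 + 1 by ring, Cfsg.upperPSeries]
  split_ifs with h
  · exact absurd h (Nat.not_even_iff_odd.mpr (odd_two_mul_add_one j))
  · rfl

theorem upperPSeries_le_succ' (k : ℕ) :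
    (Cfsg.upperPSeries p G k).1 ≤ (Cfsg.upperPSeries p G (k + 1)).1 := by
  intro x hx
  rw [Cfsg.upperPSeries]
  split_ifs with h
  all_goals
    rw [Subgroup.mem_comap, QuotientGroup.mk'_apply, (QuotientGroup.eq_one_iff x).mpr hx]
    exact one_mem _

theorem pPrimeCore_quotient_odd (j : ℕ) :
    Cfsg.pPrimeCore p (G ⧸ (Cfsg.upperPSeries p G (2 * j + 1)).1) = ⊥ := by
  set U₀ := (Cfsg.upperPSeries p G (2 * j)).1
  set U₁ := (Cfsg.upperPSeries p G (2 * j + 1)).1
  have hle : U₀ ≤ U₁.comap (MonoidHom.id G) := upperPSeries_le_succ' _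
  refine PSolvable.pPrimeCore_eq_bot_of_ker (f := QuotientGroup.map U₀ U₁ (MonoidHom.id G) hle) ?_ ?_
  · intro y
    obtain ⟨x, rfl⟩ := QuotientGroup.mk'_surjective U₁ y
    exact ⟨QuotientGroup.mk' U₀ x, rfl⟩
  · rw [QuotientGroup.ker_map, Subgroup.comap_id]
    show Subgroup.map _ (Cfsg.upperPSeries p G (2 * j + 1)).1 = _
    rw [upperPSeries_even_succ,
      Subgroup.map_comap_eq_self_of_surjective (QuotientGroup.mk'_surjective _)]

/-- A `p`-element of a quotient is the image of a `p`-element. -/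
theorem exists_pElement_lift {H : Type*} [Group H] {f : G →* H} (hf : Function.Surjective f) (y : H)
    (hy : ∃ k, y ^ p ^ k = 1) : ∃ z, f z = y ∧ ∃ k, z ^ p ^ k = 1 := by
  haveI : Finite H := Finite.of_surjective f hf
  obtain ⟨k, hk⟩ := hy
  have hY : IsPGroup p (Subgroup.zpowers y) := by
    rintro ⟨w, hw⟩
    obtain ⟨i, rfl⟩ := Subgroup.mem_zpowers_iff.mp hw
    refine ⟨k, Subtype.ext ?_⟩
    show (y ^ i) ^ p ^ k = 1
    rw [← zpow_natCast, ← zpow_mul, mul_comm, zpow_mul, zpow_natCast, hk, one_zpow]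
  obtain ⟨Q, hQ⟩ := hY.exists_le_sylow
  let P : Sylow p G := default
  obtain ⟨c, hc⟩ := MulAction.exists_smul_eq H (P.mapSurjective hf) Q
  obtain ⟨g, rfl⟩ := hf c
  have h1 : f g⁻¹ * y * f g ∈ ((P : Subgroup G).map f : Subgroup H) := by
    have h0 : y ∈ ((f g • P.mapSurjective hf : Sylow p H) : Subgroup H) := by
      rw [hc]; exact hQ (Subgroup.mem_zpowers y)
    obtain ⟨w, hw, he⟩ := h0
    have he' : f g * w * (f g)⁻¹ = y := he
    rw [show f g⁻¹ * y * f g = w by rw [← he', map_inv]; group]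
    exact hw
  obtain ⟨s, hs, he⟩ := h1
  obtain ⟨k', hk'⟩ := P.isPGroup' ⟨s, hs⟩
  refine ⟨g * s * g⁻¹, ?_, k', ?_⟩
  · rw [map_mul, map_mul, he, map_inv]; group
  · rw [conj_pow, show s ^ p ^ k' = 1 from congrArg Subtype.val hk']; group

/-- Elements killed by `p ^ e` lose one factor at each layer, away from the exception. -/
theorem step (hsol : Cfsg.IsPSolvable p G) (hex : ¬ Exception p G) (j e : ℕ) (he : 1 ≤ e)
    (h : ∀ z : G, (∃ k, z ^ p ^ k = 1) → z ^ p ^ e ∈ (Cfsg.upperPSeries p G (2 * j)).1) :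
    ∀ z : G, (∃ k, z ^ p ^ k = 1) → z ^ p ^ (e - 1) ∈ (Cfsg.upperPSeries p G (2 * (j + 1))).1 := by
  intro z hz
  set U := (Cfsg.upperPSeries p G (2 * j + 1)).1 with hU
  rw [upperPSeries_odd_succ, Subgroup.mem_comap, map_pow]
  set f := QuotientGroup.mk' U with hf
  have hsurj : Function.Surjective f := QuotientGroup.mk'_surjective U
  have hall : ∀ y : G ⧸ U, (∃ k, y ^ p ^ k = 1) → y ^ p ^ e = 1 := by
    intro y hy
    obtain ⟨w, rfl, hw⟩ := exists_pElement_lift hsurj y hy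
    rw [← map_pow]
    exact (QuotientGroup.eq_one_iff _).mpr (upperPSeries_le_succ' _ (h w hw))
  by_contra hno
  obtain ⟨k, hk⟩ := hz
  have hzk : ∃ k, f z ^ p ^ k = 1 := ⟨k, by rw [← map_pow, hk, map_one]⟩
  haveI := Fitting.pCore_normal (G := G ⧸ U) p
  rcases layer (PSolvable.isPSolvable_of_surjective f hsurj hsol) (pPrimeCore_quotient_odd j) (f z) e he
    (by rw [hall _ hzk]; exact one_mem _) hno with ⟨v, hv, hne⟩ | hexc
  · apply hne
    have hvz : ∃ k, (v * f z) ^ p ^ k = 1 := by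
      let P := Cfsg.pCore p (G ⧸ U) ⊔ Subgroup.zpowers (f z)
      have hPp : IsPGroup p P := by
        refine IsPGroup.to_sup_of_normal_left (Fitting.pCore_isPGroup p) ?_
        rintro ⟨w, hw⟩
        obtain ⟨i, rfl⟩ := Subgroup.mem_zpowers_iff.mp hw
        obtain ⟨k, hk⟩ := hzk
        refine ⟨k, Subtype.ext ?_⟩
        show (f z ^ i) ^ p ^ k = 1
        rw [← zpow_natCast, ← zpow_mul, mul_comm i, zpow_mul, zpow_natCast, hk, one_zpow]
      obtain ⟨k, hk⟩ := hPp ⟨_, mul_mem (Subgroup.mem_sup_left hv)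
        (Subgroup.mem_sup_right (Subgroup.mem_zpowers (f z)))⟩
      exact ⟨k, congrArg Subtype.val hk⟩
    rw [hall _ hvz, hall _ hzk, inv_one, mul_one]
    exact one_mem _
  · exact hex (Exception.of_surjective f hsurj hexc)

theorem pLengthLE_of_mem (m : ℕ)
    (h : ∀ z : G, (∃ k, z ^ p ^ k = 1) → z ∈ (Cfsg.upperPSeries p G (2 * m)).1) :
    Cfsg.PLengthLE p m G := by
  set W := (Cfsg.upperPSeries p G (2 * m)).1 with hW
  let S : Sylow p G := default
  have hSW : (S : Subgroup G) ≤ W := fun s hs => h s (by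
    obtain ⟨k, hk⟩ := S.isPGroup' ⟨s, hs⟩
    exact ⟨k, congrArg Subtype.val hk⟩)
  have hidx : ¬ p ∣ W.index := fun hd => Sylow.not_dvd_index S (hd.trans (Subgroup.index_dvd_of_le hSW))
  show (Cfsg.upperPSeries p G (2 * m + 1)).1 = ⊤
  rw [upperPSeries_even_succ]
  have : Cfsg.pPrimeCore p (G ⧸ W) = ⊤ := by
    refine eq_top_iff.mpr (le_sSup ⟨inferInstance, ?_⟩)
    rw [Nat.card_congr Subgroup.topEquiv.toEquiv, ← Subgroup.index_eq_card]
    exact (hp.out.coprime_iff_not_dvd.mpr hidx).symm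
  rw [this, Subgroup.comap_top]

theorem exp_of_sylow (n : ℕ) (hexp : ∀ (P : Sylow p G), ∀ x ∈ (P : Subgroup G), x ^ p ^ n = 1) (z : G)
    (hz : ∃ k, z ^ p ^ k = 1) : z ^ p ^ n = 1 := by
  obtain ⟨k, hk⟩ := hz
  have hY : IsPGroup p (Subgroup.zpowers z) := by
    rintro ⟨w, hw⟩
    obtain ⟨i, rfl⟩ := Subgroup.mem_zpowers_iff.mp hw
    refine ⟨k, Subtype.ext ?_⟩
    show (z ^ i) ^ p ^ k = 1
    rw [← zpow_natCast, ← zpow_mul, mul_comm, zpow_mul, zpow_natCast, hk, one_zpow]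
  obtain ⟨Q, hQ⟩ := hY.exists_le_sylow
  exact hexp Q z (hQ (Subgroup.mem_zpowers z))

/-- Away from the exception the `p`-length is at most the exponent. -/
theorem pLengthLE_of_exp (hsol : Cfsg.IsPSolvable p G) (hex : ¬ Exception p G) (n : ℕ)
    (hexp : ∀ (P : Sylow p G), ∀ x ∈ (P : Subgroup G), x ^ p ^ n = 1) : Cfsg.PLengthLE p n G := by
  have key : ∀ j, j ≤ n → ∀ z : G, (∃ k, z ^ p ^ k = 1) →
      z ^ p ^ (n - j) ∈ (Cfsg.upperPSeries p G (2 * j)).1 := by
    intro j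
    induction j with
    | zero => intro _ z hz; rw [Nat.sub_zero, exp_of_sylow n hexp z hz]; exact one_mem _
    | succ j ih =>
      intro hj
      have := step hsol hex j (n - j) (by omega) (ih (by omega))
      rwa [show n - j - 1 = n - (j + 1) by omega] at this
  refine pLengthLE_of_mem n fun z hz => ?_
  simpa using key n le_rfl z hz

/-- With abelian Sylow subgroups for the other primes there is no exception. -/
theorem not_exception_of_abelian
    (hab : ∀ (q : ℕ) [Fact q.Prime], q ≠ p → ∀ Q : Sylow q G, IsMulCommutative (Q : Subgroup G)) :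
    ¬ Exception p G := by
  rintro ⟨n₀, q, m, h1, hq, h2, h3, h4⟩
  haveI := Fact.mk hq
  refine h4 default (hab q (fun e => ?_) default)
  rw [e] at h3
  have hd : p ∣ p ^ n₀ - 1 := h3 ▸ dvd_pow_self p (by omega)
  have h5 := Nat.dvd_sub (dvd_pow_self p (by omega : n₀ ≠ 0)) hd
  rw [Nat.sub_sub_self (Nat.one_le_pow n₀ p hp.out.pos)] at h5
  exact hp.out.not_dvd_one h5

end CfsgLib.HallHigman
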