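import Cfsg.Agent.Lib.HallHigman.FermatRep
import Cfsg.Agent.Lib.HallHigman.PLength

/-!
Two layers of the upper `p`-series take one factor off the exponent, `p` a Fermat prime.
-/

set_option autoImplicit false
set_option linter.style.haveILetI false
set_option linter.unusedSectionVars false
set_option maxHeartbeats 800000

namespace CfsgLib.HallHigman

variable {G : Type*} [Group G] [Finite G] {p : ℕ} [hp : Fact p.Prime]

theorem isPGroup_pow_mem {K : Subgroup G} (hK : IsPGroup p K) {g : G} (hg : g ∈ K) :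
    ∃ k, g ^ p ^ k = 1 := by
  obtain ⟨k, hk⟩ := hK ⟨g, hg⟩
  exact ⟨k, congrArg Subtype.val hk⟩

theorem pCore_le_sylow_of {K : Type*} [Group K] [Finite K] (P : Sylow p K) : Cfsg.pCore p K ≤ P := by
  haveI := Fitting.pCore_normal (G := K) p
  obtain ⟨Q, hQ⟩ := (Fitting.pCore_isPGroup (G := K) p).exists_le_sylow
  obtain ⟨g, rfl⟩ := MulAction.exists_smul_eq K Q P
  intro x hx
  refine ⟨g⁻¹ * x * g, hQ ?_, by simp [mul_assoc]⟩
  simpa using (Fitting.pCore_normal (G := K) p).conj_mem x hx g⁻¹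

/-- Two layers take one factor off. -/
theorem two_layers (hsol : Cfsg.IsPSolvable p G) (hO : Cfsg.pPrimeCore p G = ⊥) {b : ℕ} (hb : p = 2 ^ b + 1)
    (hb1 : 1 ≤ b) {e : ℕ} (he : 1 ≤ e) (hexp : ∀ z : G, (∃ k, z ^ p ^ k = 1) → z ^ p ^ e = 1) :
    haveI := Fitting.pCore_normal (G := G) p
    haveI := Transfer.pPrimeCore_normal p (G ⧸ Cfsg.pCore p G)
    ∀ z : G, (∃ k, z ^ p ^ k = 1) →
      QuotientGroup.mk' (Cfsg.pPrimeCore p (G ⧸ Cfsg.pCore p G))
        (QuotientGroup.mk' (Cfsg.pCore p G) (z ^ p ^ (e - 1))) ∈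
        Cfsg.pCore p ((G ⧸ Cfsg.pCore p G) ⧸ Cfsg.pPrimeCore p (G ⧸ Cfsg.pCore p G)) := by
  classical
  haveI := Fitting.pCore_normal (G := G) p
  haveI hRn := Transfer.pPrimeCore_normal p (G ⧸ Cfsg.pCore p G)
  obtain ⟨φ, hφ, φmk, hcomm, hA⟩ := exists_action hsol hO
  set O := Cfsg.pCore p G with hOdef
  letI : CommGroup (O ⧸ frattini O) :=
    { (inferInstance : Group (O ⧸ frattini O)) with mul_comm := hcomm }
  letI : Module (ZMod p) (Additive (O ⧸ frattini O)) :=
    AddCommGroup.zmodModule (n := p) (G := Additive (O ⧸ frattini O)) fun v =>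
      Additive.toMul.injective (hA (Additive.toMul v))
  haveI : Finite (Additive (O ⧸ frattini O)) := inferInstanceAs (Finite (O ⧸ frattini O))
  haveI : FiniteDimensional (ZMod p) (Additive (O ⧸ frattini O)) := Module.Finite.of_finite
  set H := G ⧸ O
  let ρ : H →* Module.End (ZMod p) (Additive (O ⧸ frattini O)) := endOfAut φ
  have hρ : Function.Injective ρ := fun g h e' => hφ (MulEquiv.ext fun a =>
    Additive.ofMul.injective (LinearMap.congr_fun e' (Additive.ofMul a)))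
  have hπ : Function.Surjective (QuotientGroup.mk' O) := QuotientGroup.mk'_surjective O
  have hOH : Cfsg.pCore p H = ⊥ := le_bot_iff.mp ZJ.pCore_quotient_pCore_le_bot
  have hsolH : Cfsg.IsPSolvable p H := PSolvable.isPSolvable_of_surjective _ hπ hsol
  have hOp : IsPGroup p O := Fitting.pCore_isPGroup p
  -- the operator equation
  have hr : ∀ x : H, (∃ k, x ^ p ^ k = 1) → (ρ x - 1) ^ (p ^ e - 1) = 0 := by
    intro x hx
    obtain ⟨z, rfl, hz⟩ := exists_pElement_lift hπ x hx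
    rcases subsingleton_or_nontrivial (Additive (O ⧸ frattini O)) with hV | hV
    · exact LinearMap.ext fun v => Subsingleton.elim _ _
    haveI := charP_end p (Additive (O ⧸ frattini O)) (K := ZMod p)
    rw [sub_one_pow_eq_geom]
    refine LinearMap.ext fun v' => ?_
    obtain ⟨v, hv⟩ := QuotientGroup.mk'_surjective (frattini O) (Additive.toMul v')
    have hv' : v' = Additive.ofMul (QuotientGroup.mk' (frattini O) v) := by rw [hv]; rfl
    let w : ℕ → O := fun N => Nat.rec (motive := fun _ => O) 1 (fun _ u => v * MulAut.conjNormal z u) N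
    have hw : ∀ N, Subtype.val (w N) = ((v : G) * z) ^ N * (z ^ N)⁻¹ := by
      intro N
      induction N with
      | zero => simp [w]
      | succ N ih =>
        show ((v * MulAut.conjNormal z (w N) : O) : G) = _
        rw [Subgroup.coe_mul, MulAut.conjNormal_apply, ih, pow_succ', pow_succ' z]
        group
    have hsum := sum_pow_apply (p := p) φ (QuotientGroup.mk z) (QuotientGroup.mk' (frattini O) v)
      (fun N => QuotientGroup.mk (w N)) rfl (fun i => by
        show QuotientGroup.mk (w (i + 1)) = _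
        rw [QuotientGroup.mk'_apply, φmk, ← QuotientGroup.mk_mul]) (p ^ e)
    have hvz : ∃ k, ((v : G) * z) ^ p ^ k = 1 := by
      obtain ⟨k, hk⟩ := hz
      have hzp : IsPGroup p (Subgroup.zpowers z) := by
        rintro ⟨w, hw⟩
        obtain ⟨i, rfl⟩ := Subgroup.mem_zpowers_iff.mp hw
        refine ⟨k, Subtype.ext ?_⟩
        show (z ^ i) ^ p ^ k = 1
        rw [← zpow_natCast, ← zpow_mul, mul_comm i, zpow_mul, zpow_natCast, hk, one_zpow]
      exact isPGroup_pow_mem (IsPGroup.to_sup_of_normal_left hOp hzp)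
        (mul_mem (Subgroup.mem_sup_left v.2) (Subgroup.mem_sup_right (Subgroup.mem_zpowers z)))
    have hw1 : w (p ^ e) = 1 := Subtype.ext (by
      rw [hw, hexp _ hvz, hexp _ hz]; simp)
    show (∑ i ∈ Finset.range (p ^ e), ρ (QuotientGroup.mk z) ^ i) v' = 0
    rw [hv', ← hsum, hw1]
    rfl
  set R := Cfsg.pPrimeCore p H with hRdef
  set f := QuotientGroup.mk' R with hfdef
  have hf : Function.Surjective f := QuotientGroup.mk'_surjective R
  intro z hz
  set x : H := QuotientGroup.mk' O z with hxdef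
  have hxk : ∃ k, x ^ p ^ k = 1 := by
    obtain ⟨k, hk⟩ := hz
    exact ⟨k, by rw [hxdef, ← map_pow, hk, map_one]⟩
  have hxe : x ^ p ^ e = 1 := by rw [hxdef, ← map_pow, hexp z hz, map_one]
  show f (QuotientGroup.mk' O (z ^ p ^ (e - 1))) ∈ _
  rw [map_pow, ← hxdef]
  by_contra hno
  -- the second layer
  have hObar : Cfsg.pPrimeCore p (H ⧸ R) = ⊥ :=
    PSolvable.pPrimeCore_eq_bot_of_ker hf (QuotientGroup.ker_mk' R)
  have hsolbar : Cfsg.IsPSolvable p (H ⧸ R) := PSolvable.isPSolvable_of_surjective f hf hsolH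
  haveI := Fitting.pCore_normal (G := H ⧸ R) p
  obtain ⟨φ₂, hφ₂, φ₂mk, hcomm₂, hA₂⟩ := exists_action hsolbar hObar
  set O₂ := Cfsg.pCore p (H ⧸ R) with hO₂def
  letI : CommGroup (O₂ ⧸ frattini O₂) :=
    { (inferInstance : Group (O₂ ⧸ frattini O₂)) with mul_comm := hcomm₂ }
  letI : Module (ZMod p) (Additive (O₂ ⧸ frattini O₂)) :=
    AddCommGroup.zmodModule (n := p) (G := Additive (O₂ ⧸ frattini O₂)) fun v =>
      Additive.toMul.injective (hA₂ (Additive.toMul v))
  haveI : Finite (Additive (O₂ ⧸ frattini O₂)) := inferInstanceAs (Finite (O₂ ⧸ frattini O₂))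
  haveI : FiniteDimensional (ZMod p) (Additive (O₂ ⧸ frattini O₂)) := Module.Finite.of_finite
  let ρ₂ : (H ⧸ R) ⧸ O₂ →* Module.End (ZMod p) (Additive (O₂ ⧸ frattini O₂)) := endOfAut φ₂
  have hρ₂ : Function.Injective ρ₂ := fun g h e' => hφ₂ (MulEquiv.ext fun a =>
    Additive.ofMul.injective (LinearMap.congr_fun e' (Additive.ofMul a)))
  set x₂ : (H ⧸ R) ⧸ O₂ := QuotientGroup.mk (f x) with hx₂
  have hx₂ne : x₂ ^ p ^ (e - 1) ≠ 1 := fun h => hno (by
    rw [hx₂, ← QuotientGroup.mk_pow, QuotientGroup.eq_one_iff, ← map_pow] at h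
    simpa [map_pow] using h)
  have hx₂ord : orderOf x₂ = p ^ e := by
    obtain ⟨m, rfl⟩ : ∃ m, e = m + 1 := ⟨e - 1, by omega⟩
    refine orderOf_eq_prime_pow (by simpa using hx₂ne) ?_
    rw [hx₂, ← QuotientGroup.mk_pow, ← map_pow, hxe, map_one, QuotientGroup.mk_one]
  haveI : Nontrivial (Additive (O₂ ⧸ frattini O₂)) := by
    by_contra hnt
    rw [not_nontrivial_iff_subsingleton] at hnt
    have h1 : x₂ = 1 := hρ₂ (LinearMap.ext fun v => Subsingleton.elim _ _)
    exact hx₂ne (by rw [h1, one_pow])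
  haveI := charP_end p (Additive (O₂ ⧸ frattini O₂)) (K := ZMod p)
  have hxp : IsPGroup p (Subgroup.zpowers x) := by
    rintro ⟨w, hw⟩
    obtain ⟨i, rfl⟩ := Subgroup.mem_zpowers_iff.mp hw
    refine ⟨e, Subtype.ext ?_⟩
    show (x ^ i) ^ p ^ e = 1
    rw [← zpow_natCast, ← zpow_mul, mul_comm i, zpow_mul, zpow_natCast, hxe, one_zpow]
  obtain ⟨S, hS⟩ := hxp.exists_le_sylow
  set P := p ^ (e - 1) with hPdef
  have hr₂ : (ρ₂ x₂ - 1) ^ (P + (P - 1)) = 0 := by
    rw [pow_add, hPdef, sub_one_pow_prime_pow, sub_one_pow_eq_geom, ← hPdef]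
    refine LinearMap.ext fun v' => ?_
    obtain ⟨v, hv⟩ := QuotientGroup.mk'_surjective (frattini O₂) (Additive.toMul v')
    have hv' : v' = Additive.ofMul (QuotientGroup.mk' (frattini O₂) v) := by rw [hv]; rfl
    obtain ⟨w₀, hw₀, hw₀e⟩ : (v : H ⧸ R) ∈ (S : Subgroup H).map f :=
      pCore_le_sylow_of (S.mapSurjective hf) v.2
    let w : ℕ → O₂ := fun N => Nat.rec (motive := fun _ => O₂) 1 (fun _ u => v * MulAut.conjNormal (f x) u) N
    have hw : ∀ N, Subtype.val (w N) = ((v : H ⧸ R) * f x) ^ N * (f x ^ N)⁻¹ := by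
      intro N
      induction N with
      | zero => simp [w]
      | succ N ih =>
        show ((v * MulAut.conjNormal (f x) (w N) : O₂) : H ⧸ R) = _
        rw [Subgroup.coe_mul, MulAut.conjNormal_apply, ih, pow_succ', pow_succ' (f x)]
        group
    have hsum := sum_pow_apply (p := p) φ₂ x₂ (QuotientGroup.mk' (frattini O₂) v)
      (fun N => QuotientGroup.mk (w N)) rfl (fun i => by
        show QuotientGroup.mk (w (i + 1)) = _
        rw [QuotientGroup.mk'_apply, hx₂, φ₂mk, ← QuotientGroup.mk_mul]) P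
    have hxS : x ∈ (S : Subgroup H) := hS (Subgroup.mem_zpowers x)
    have hc := powers_commute ρ hρ hsolH hOH hb hb1 he hr S.isPGroup'
      ((S : Subgroup H).mul_mem hw₀ hxS) hxS
    have hc' : Commute (((v : H ⧸ R) * f x) ^ P) (f x ^ P) := by
      have := congrArg f hc
      simp only [map_mul, map_pow, hw₀e] at this
      exact this
    have hfix : MulAut.conjNormal (f x ^ P) (w P) = w P := Subtype.ext (by
      rw [MulAut.conjNormal_apply, hw]
      have h1 : Commute (f x ^ P) (((v : H ⧸ R) * f x) ^ P * (f x ^ P)⁻¹) :=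
        hc'.symm.mul_right ((Commute.refl (f x ^ P)).inv_right)
      rw [h1.eq, mul_inv_cancel_right])
    show (ρ₂ x₂ ^ P - 1) ((∑ i ∈ Finset.range P, ρ₂ x₂ ^ i) v') = 0
    rw [hv', ← hsum, LinearMap.sub_apply, Module.End.one_apply, sub_eq_zero, ← map_pow]
    show endOfAut (p := p) φ₂ (x₂ ^ P) (Additive.ofMul (QuotientGroup.mk (w P))) = _
    rw [endOfAut_apply, hx₂, ← QuotientGroup.mk_pow, φ₂mk, hfix]
  have hsolQ : Cfsg.IsPSolvable p ((H ⧸ R) ⧸ O₂) :=
    PSolvable.isPSolvable_of_surjective _ (QuotientGroup.mk'_surjective O₂) hsolbar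
  have hp3 : 3 ≤ p := by
    have := Nat.pow_le_pow_right (n := 2) two_pos hb1
    omega
  have hPpos : 1 ≤ P := Nat.one_le_pow _ _ hp.out.pos
  rcases theorem_b_field ρ₂ hρ₂ hsolQ (le_bot_iff.mp ZJ.pCore_quotient_pCore_le_bot) x₂ e hx₂ord _ hr₂ with
    h | ⟨n₀, q, m, h1, h2, -, -, -, -, h⟩
  · have : p ^ e = p * P := by rw [hPdef, ← pow_succ', Nat.sub_add_cancel he]
    have h3 : 3 * P ≤ p * P := Nat.mul_le_mul_right _ hp3
    omega
  · have h4 : 2 * p ^ (n₀ - 1) ≤ p ^ n₀ - 1 := by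
      have h5 : p ^ n₀ = p * p ^ (n₀ - 1) := by rw [← pow_succ', Nat.sub_add_cancel h1]
      have h6 : 3 * p ^ (n₀ - 1) ≤ p * p ^ (n₀ - 1) := Nat.mul_le_mul_right _ hp3
      have h7 : 1 ≤ p ^ (n₀ - 1) := Nat.one_le_pow _ _ hp.out.pos
      omega
    have h8 : 2 * P ≤ p ^ (e - n₀) * (p ^ n₀ - 1) := by
      refine le_trans (le_of_eq ?_) (Nat.mul_le_mul_left _ h4)
      rw [mul_left_comm, ← pow_add, show e - n₀ + (n₀ - 1) = e - 1 by omega]
    omega

/-- Two surjections with the same kernel give the same preimage of the `p'`-core. -/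
theorem comap_pPrimeCore_le {A B : Type*} [Group A] [Group B] {f : G →* A} {g : G →* B}
    (hf : Function.Surjective f) (hg : Function.Surjective g) (hker : f.ker = g.ker) :
    (Cfsg.pPrimeCore p A).comap f ≤ (Cfsg.pPrimeCore p B).comap g := by
  haveI : Finite A := Finite.of_surjective f hf
  haveI : Finite B := Finite.of_surjective g hg
  rw [← Subgroup.map_le_iff_le_comap]
  have hn : (((Cfsg.pPrimeCore p A).comap f).map g).Normal :=
    ((Transfer.pPrimeCore_normal p A).comap f).map g hg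
  refine Transfer.le_pPrimeCore hn ?_
  have hle : g.ker ≤ (Cfsg.pPrimeCore p A).comap f := by
    rw [← hker]
    intro x hx
    rw [Subgroup.mem_comap, MonoidHom.mem_ker.mp hx]
    exact one_mem _
  have h1 := PSolvable.card_comap_of_surjective hg (((Cfsg.pPrimeCore p A).comap f).map g)
  rw [Subgroup.comap_map_eq, sup_eq_left.mpr hle, PSolvable.card_comap_of_surjective hf, hker] at h1
  rw [← Nat.eq_of_mul_eq_mul_left Nat.card_pos h1]
  exact Transfer.pPrimeCore_coprime p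

/-- Elements killed by `p ^ e` lose one factor in two layers. -/
theorem step_fermat (hsol : Cfsg.IsPSolvable p G) {b : ℕ} (hb : p = 2 ^ b + 1) (hb1 : 1 ≤ b) (j e : ℕ)
    (he : 1 ≤ e) (h : ∀ z : G, (∃ k, z ^ p ^ k = 1) → z ^ p ^ e ∈ (Cfsg.upperPSeries p G (2 * j)).1) :
    ∀ z : G, (∃ k, z ^ p ^ k = 1) → z ^ p ^ (e - 1) ∈ (Cfsg.upperPSeries p G (2 * (j + 2))).1 := by
  intro z hz
  set U := (Cfsg.upperPSeries p G (2 * j + 1)).1 with hU
  set f₁ := QuotientGroup.mk' U with hf₁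
  have hs₁ : Function.Surjective f₁ := QuotientGroup.mk'_surjective U
  have hall : ∀ y : G ⧸ U, (∃ k, y ^ p ^ k = 1) → y ^ p ^ e = 1 := by
    intro y hy
    obtain ⟨w, rfl, hw⟩ := exists_pElement_lift hs₁ y hy
    rw [← map_pow]
    exact (QuotientGroup.eq_one_iff _).mpr (upperPSeries_le_succ' _ (h w hw))
  haveI := Fitting.pCore_normal (G := G ⧸ U) p
  haveI := Transfer.pPrimeCore_normal p ((G ⧸ U) ⧸ Cfsg.pCore p (G ⧸ U))
  have key := two_layers (PSolvable.isPSolvable_of_surjective f₁ hs₁ hsol) (pPrimeCore_quotient_odd j)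
    hb hb1 he hall (f₁ z) (by
      obtain ⟨k, hk⟩ := hz
      exact ⟨k, by rw [← map_pow, hk, map_one]⟩)
  set f₂ := QuotientGroup.mk' (Cfsg.pCore p (G ⧸ U)) with hf₂
  have hs₂ : Function.Surjective f₂ := QuotientGroup.mk'_surjective _
  set f₃ := QuotientGroup.mk' (Cfsg.pPrimeCore p ((G ⧸ U) ⧸ Cfsg.pCore p (G ⧸ U))) with hf₃
  have hs₃ : Function.Surjective f₃ := QuotientGroup.mk'_surjective _
  set Ψ := f₃.comp (f₂.comp f₁) with hΨ
  have hker₂ : (f₂.comp f₁).ker = (Cfsg.upperPSeries p G (2 * (j + 1))).1 := by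
    rw [← MonoidHom.comap_ker, hf₂, QuotientGroup.ker_mk', upperPSeries_odd_succ]
  have hkerΨ : Ψ.ker = (Cfsg.upperPSeries p G (2 * (j + 1) + 1)).1 := by
    rw [hΨ, ← MonoidHom.comap_ker, hf₃, QuotientGroup.ker_mk', upperPSeries_even_succ]
    have e1 : (f₂.comp f₁).ker = (QuotientGroup.mk' (Cfsg.upperPSeries p G (2 * (j + 1))).1).ker := by
      rw [hker₂, QuotientGroup.ker_mk']
    exact le_antisymm (comap_pPrimeCore_le (hs₂.comp hs₁) (QuotientGroup.mk'_surjective _) e1)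
      (comap_pPrimeCore_le (QuotientGroup.mk'_surjective _) (hs₂.comp hs₁) e1.symm)
  rw [show 2 * (j + 2) = 2 * (j + 1 + 1) from rfl, upperPSeries_odd_succ, Subgroup.mem_comap]
  haveI := Fitting.pCore_normal (G := ((G ⧸ U) ⧸ Cfsg.pCore p (G ⧸ U)) ⧸
    Cfsg.pPrimeCore p ((G ⧸ U) ⧸ Cfsg.pCore p (G ⧸ U))) p
  set M := (Cfsg.pCore p (((G ⧸ U) ⧸ Cfsg.pCore p (G ⧸ U)) ⧸
    Cfsg.pPrimeCore p ((G ⧸ U) ⧸ Cfsg.pCore p (G ⧸ U)))).comap Ψ with hM
  have hzM : z ^ p ^ (e - 1) ∈ M := by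
    rw [hM, Subgroup.mem_comap]
    show f₃ (f₂ (f₁ (z ^ p ^ (e - 1)))) ∈ _
    rw [map_pow f₁]
    exact key
  set g := QuotientGroup.mk' (Cfsg.upperPSeries p G (2 * (j + 1) + 1)).1
  have hMp : IsPGroup p (M.map g) := by
    rintro ⟨_, m, hm, rfl⟩
    obtain ⟨k, hk⟩ := isPGroup_pow_mem (Fitting.pCore_isPGroup p) (Subgroup.mem_comap.mp hm)
    refine ⟨k, Subtype.ext ?_⟩
    show g m ^ p ^ k = 1
    rw [← map_pow]
    refine (QuotientGroup.eq_one_iff _).mpr ?_
    rw [← hkerΨ, MonoidHom.mem_ker, map_pow, hk]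
  exact Fitting.le_pCore (((Fitting.pCore_normal p).comap Ψ).map g (QuotientGroup.mk'_surjective _)) hMp
    (Subgroup.mem_map_of_mem g hzM)

/-- For a Fermat prime the `p`-length is at most twice the exponent. -/
theorem pLengthLE_two_mul (hsol : Cfsg.IsPSolvable p G) {b : ℕ} (hb : p = 2 ^ b + 1) (hb1 : 1 ≤ b) (n : ℕ)
    (hexp : ∀ (P : Sylow p G), ∀ x ∈ (P : Subgroup G), x ^ p ^ n = 1) : Cfsg.PLengthLE p (2 * n) G := by
  have key : ∀ k, k ≤ n → ∀ z : G, (∃ i, z ^ p ^ i = 1) →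
      z ^ p ^ (n - k) ∈ (Cfsg.upperPSeries p G (2 * (2 * k))).1 := by
    intro k
    induction k with
    | zero => intro _ z hz; rw [Nat.sub_zero, exp_of_sylow n hexp z hz]; exact one_mem _
    | succ k ih =>
      intro hk
      have := step_fermat hsol hb hb1 (2 * k) (n - k) (by omega) (ih (by omega))
      rwa [show n - k - 1 = n - (k + 1) by omega] at this
  refine pLengthLE_of_mem (2 * n) fun z hz => ?_
  simpa using key n le_rfl z hz

/-- `p`-length bounds are monotone. -/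
theorem pLengthLE_mono {k l : ℕ} (hkl : k ≤ l) (h : Cfsg.PLengthLE p k G) : Cfsg.PLengthLE p l G := by
  have hmono : ∀ i, 2 * k + 1 ≤ i → (Cfsg.upperPSeries p G i).1 = ⊤ := by
    intro i hi
    induction i, hi using Nat.le_induction with
    | base => exact h
    | succ i _ ih => exact top_unique (ih ▸ upperPSeries_le_succ' i)
  exact hmono _ (by omega)

end CfsgLib.HallHigman
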