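import Cfsg.Agent.Lib.HallHigman.PLength

/-!
The upper `p`-series under homomorphisms, subadditivity of the `p`-length, and the bounds of
Hall and Higman on derived length and `p`-length of soluble groups.
-/

set_option autoImplicit false
set_option linter.style.haveILetI false
set_option linter.unusedSectionVars false

namespace CfsgLib.HallHigman

/-- The kind of the `n`th factor of an upper `p`-series. -/
def Factor (p n m : ℕ) : Prop :=
  if Even n then m.Coprime p else ∃ k, m = p ^ k

theorem Factor.of_dvd {p n m m' : ℕ} [hp : Fact p.Prime] (h : Factor p n m) (hd : m' ∣ m) :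
    Factor p n m' := by
  unfold Factor at h ⊢
  split_ifs at h ⊢ with he
  · exact h.coprime_dvd_left hd
  · obtain ⟨k, rfl⟩ := h
    obtain ⟨j, -, hj⟩ := (Nat.dvd_prime_pow hp.out).mp hd
    exact ⟨j, hj⟩

theorem factor_shift {p n m c : ℕ} (hc : Even c) : Factor p (c + n) m ↔ Factor p n m := by
  have h : Even (c + n) ↔ Even n := by simp [Nat.even_add, hc]
  unfold Factor
  simp only [h]

variable {p : ℕ} [hp : Fact p.Prime] {G : Type*} [Group G] [Finite G]

theorem card_map_mk' (U : Subgroup G) [U.Normal] (M : Subgroup G) :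
    Nat.card (M.map (QuotientGroup.mk' U)) = U.relIndex M := by
  rw [← Subgroup.relIndex_bot_left (M.map (QuotientGroup.mk' U)), ← Subgroup.relIndex_comap,
    MonoidHom.comap_bot, QuotientGroup.ker_mk']

/-- The series absorbs normal subgroups with the right kind of relative index. -/
theorem le_upperPSeries_succ (n : ℕ) (M : Subgroup G) [M.Normal]
    (h : Factor p n ((Cfsg.upperPSeries p G n).1.relIndex M)) :
    M ≤ (Cfsg.upperPSeries p G (n + 1)).1 := by
  rw [← card_map_mk'] at h
  have hn : (M.map (QuotientGroup.mk' (Cfsg.upperPSeries p G n).1)).Normal :=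
    Subgroup.Normal.map inferInstance _ (QuotientGroup.mk'_surjective _)
  rw [Cfsg.upperPSeries]
  unfold Factor at h
  split_ifs at h with he
  · rw [if_pos he, ← Subgroup.map_le_iff_le_comap]
    exact Transfer.le_pPrimeCore hn h
  · rw [if_neg he, ← Subgroup.map_le_iff_le_comap]
    obtain ⟨k, hk⟩ := h
    exact Fitting.le_pCore hn (IsPGroup.of_card hk)

theorem factor_relIndex (n : ℕ) :
    Factor p n ((Cfsg.upperPSeries p G n).1.relIndex (Cfsg.upperPSeries p G (n + 1)).1) := by
  rw [← card_map_mk']
  unfold Factor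
  rw [Cfsg.upperPSeries]
  split_ifs with he
  · rw [Subgroup.map_comap_eq_self_of_surjective (QuotientGroup.mk'_surjective _)]
    exact Transfer.pPrimeCore_coprime p
  · rw [Subgroup.map_comap_eq_self_of_surjective (QuotientGroup.mk'_surjective _)]
    exact IsPGroup.iff_card.mp (Fitting.pCore_isPGroup p)

/-- A surjection maps the series into the series, after an even shift. -/
theorem map_upperPSeries_le_shift {Q : Type*} [Group Q] (f : G →* Q) (hf : Function.Surjective f) {c : ℕ}
    (hc : Even c) (h0 : (Cfsg.upperPSeries p G c).1.map f = ⊥) :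
    ∀ n, (Cfsg.upperPSeries p G (c + n)).1.map f ≤ (Cfsg.upperPSeries p Q n).1 := by
  haveI : Finite Q := Finite.of_surjective f hf
  intro n
  induction n with
  | zero => exact h0.le
  | succ n ih =>
    haveI : ((Cfsg.upperPSeries p G (c + n + 1)).1.map f).Normal := Subgroup.Normal.map inferInstance f hf
    refine le_upperPSeries_succ n _ (((factor_shift hc).mp (factor_relIndex (p := p) (G := G) (c + n))).of_dvd ?_)
    refine (Subgroup.relIndex_dvd_of_le_left _ ih).trans ?_
    have e : (Cfsg.upperPSeries p G (c + n + 1)).1 ⊔ f.ker =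
        ((Cfsg.upperPSeries p G (c + n)).1 ⊔ f.ker) ⊔ (Cfsg.upperPSeries p G (c + n + 1)).1 := by
      rw [sup_right_comm, sup_eq_right.mpr (upperPSeries_le_succ' (c + n))]
    rw [show c + (n + 1) = c + n + 1 from rfl, Subgroup.relIndex_map_map, e, Subgroup.relIndex_sup_left]
    exact Subgroup.relIndex_dvd_of_le_left _ le_sup_left

theorem map_upperPSeries_le {Q : Type*} [Group Q] (f : G →* Q) (hf : Function.Surjective f) (n : ℕ) :
    (Cfsg.upperPSeries p G n).1.map f ≤ (Cfsg.upperPSeries p Q n).1 := by
  have h := map_upperPSeries_le_shift (p := p) (G := G) f hf (c := 0) ⟨0, rfl⟩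
    (show (Cfsg.upperPSeries p G 0).1.map f = ⊥ from Subgroup.map_bot f) n
  rwa [Nat.zero_add] at h

theorem upperPSeries_characteristic (n : ℕ) : (Cfsg.upperPSeries p G n).1.Characteristic :=
  Subgroup.characteristic_iff_map_le.mpr fun φ => map_upperPSeries_le φ.toMonoidHom φ.surjective n

theorem pLengthLE_of_surjective {Q : Type*} [Group Q] (f : G →* Q) (hf : Function.Surjective f) {k : ℕ}
    (h : Cfsg.PLengthLE p k G) : Cfsg.PLengthLE p k Q := by
  haveI : Finite Q := Finite.of_surjective f hf
  refine top_unique ((le_of_eq ?_).trans (map_upperPSeries_le (p := p) f hf (2 * k + 1)))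
  rw [show (Cfsg.upperPSeries p G (2 * k + 1)).1 = ⊤ from h, Subgroup.map_top_of_surjective f hf]

theorem pLengthLE_of_injective {H : Type*} [Group H] (f : H →* G) (hf : Function.Injective f) {k : ℕ}
    (h : Cfsg.PLengthLE p k G) : Cfsg.PLengthLE p k H := by
  haveI : Finite H := Finite.of_injective f hf
  have key : ∀ n, (Cfsg.upperPSeries p G n).1.comap f ≤ (Cfsg.upperPSeries p H n).1 := by
    intro n
    induction n with
    | zero =>
      show (⊥ : Subgroup G).comap f ≤ ⊥
      rw [MonoidHom.comap_bot, f.ker_eq_bot_iff.mpr hf]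
    | succ n ih =>
      refine le_upperPSeries_succ n _ ((factor_relIndex (p := p) (G := G) n).of_dvd ?_)
      refine (Subgroup.relIndex_dvd_of_le_left _ ih).trans ?_
      rw [Subgroup.relIndex_comap, Subgroup.map_comap_eq, inf_comm f.range,
        ← Subgroup.inf_relIndex_right (Cfsg.upperPSeries p G n).1, ← inf_assoc,
        inf_eq_left.mpr (upperPSeries_le_succ' n)]
      exact PSolvable.relIndex_inf_dvd _ _ _ (upperPSeries_le_succ' n)
  refine top_unique ((le_of_eq ?_).trans (key (2 * k + 1)))
  rw [show (Cfsg.upperPSeries p G (2 * k + 1)).1 = ⊤ from h, Subgroup.comap_top]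

theorem map_subtype_upperPSeries_le (N : Subgroup G) [N.Normal] (n : ℕ) :
    (Cfsg.upperPSeries p N n).1.map N.subtype ≤ (Cfsg.upperPSeries p G n).1 := by
  induction n with
  | zero => exact (Subgroup.map_bot _).le
  | succ n ih =>
    haveI := upperPSeries_characteristic (p := p) (G := N) (n + 1)
    haveI := PSolvable.normal_map_of_characteristic N (Cfsg.upperPSeries p N (n + 1)).1
    refine le_upperPSeries_succ n _ ((factor_relIndex (p := p) (G := N) n).of_dvd ?_)
    refine (Subgroup.relIndex_dvd_of_le_left _ ih).trans ?_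
    rw [Subgroup.relIndex_map_map_of_injective _ _ N.subtype_injective]

theorem comap_upperPSeries_le {Q : Type*} [Group Q] (f : G →* Q) (hf : Function.Surjective f) {c : ℕ}
    (hc : Even c) (hker : f.ker ≤ (Cfsg.upperPSeries p G (c + 1)).1) :
    ∀ n, (Cfsg.upperPSeries p Q (n + 1)).1.comap f ≤ (Cfsg.upperPSeries p G (c + n + 1)).1 := by
  haveI : Finite Q := Finite.of_surjective f hf
  intro n
  induction n with
  | zero =>
    set M := (Cfsg.upperPSeries p Q 1).1.comap f with hM
    set U := (Cfsg.upperPSeries p G (c + 1)).1 with hU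
    have h1 : (f.ker).relIndex M = Nat.card (Cfsg.upperPSeries p Q 1).1 := by
      rw [← MonoidHom.comap_bot, hM, Subgroup.relIndex_comap,
        Subgroup.map_comap_eq_self_of_surjective hf, Subgroup.relIndex_bot_left]
    have h2 : U.relIndex M ∣ f.ker.relIndex M := Subgroup.relIndex_dvd_of_le_left _ hker
    have h3 : (Nat.card (Cfsg.upperPSeries p Q 1).1).Coprime p := by
      have := factor_relIndex (p := p) (G := Q) 0
      unfold Factor at this
      rw [if_pos ⟨0, rfl⟩] at this
      have e0 : (Cfsg.upperPSeries p Q 0).1 = ⊥ := rfl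
      rwa [e0, Subgroup.relIndex_bot_left] at this
    have hcop : (U.relIndex M).Coprime p := h3.coprime_dvd_left (h1 ▸ h2)
    -- the image of `M` is a normal `p'`-subgroup of a group without one
    haveI : M.Normal := by rw [hM]; infer_instance
    obtain ⟨j, rfl⟩ := even_iff_two_dvd.mp hc
    intro m hm
    have hle : M.map (QuotientGroup.mk' U) ≤ ⊥ := by
      have h4 : Cfsg.pPrimeCore p (G ⧸ U) = ⊥ := pPrimeCore_quotient_odd (p := p) (G := G) j
      rw [← h4]
      refine Transfer.le_pPrimeCore (Subgroup.Normal.map inferInstance _ (QuotientGroup.mk'_surjective U)) ?_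
      rw [card_map_mk']
      exact hcop
    exact (QuotientGroup.eq_one_iff m).mp (Subgroup.mem_bot.mp (hle (Subgroup.mem_map_of_mem _ hm)))
  | succ n ih =>
    rw [show c + (n + 1) + 1 = c + n + 1 + 1 by omega]
    refine le_upperPSeries_succ (c + n + 1) _ ?_
    rw [show c + n + 1 = c + (n + 1) by omega, factor_shift hc]
    refine (factor_relIndex (p := p) (G := Q) (n + 1)).of_dvd ?_
    refine (Subgroup.relIndex_dvd_of_le_left _ ?_).trans (dvd_of_eq ?_) (b := ((Cfsg.upperPSeries p Q (n + 1)).1.comap f).relIndex ((Cfsg.upperPSeries p Q (n + 1 + 1)).1.comap f))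
    · rw [show c + (n + 1) = c + n + 1 by omega]; exact ih
    · rw [Subgroup.relIndex_comap, Subgroup.map_comap_eq_self_of_surjective hf]

/-- Subadditivity. -/
theorem pLengthLE_add (N : Subgroup G) [N.Normal] {a b : ℕ} (hN : Cfsg.PLengthLE p a N)
    (hQ : Cfsg.PLengthLE p b (G ⧸ N)) : Cfsg.PLengthLE p (a + b) G := by
  have hle : N ≤ (Cfsg.upperPSeries p G (2 * a + 1)).1 := by
    have h := map_subtype_upperPSeries_le (p := p) N (2 * a + 1)
    rwa [show (Cfsg.upperPSeries p N (2 * a + 1)).1 = ⊤ from hN, ← MonoidHom.range_eq_map,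
      Subgroup.range_subtype] at h
  have h := comap_upperPSeries_le (p := p) (QuotientGroup.mk' N) (QuotientGroup.mk'_surjective N)
    (c := 2 * a) (even_two_mul a) (by rw [QuotientGroup.ker_mk']; exact hle) (2 * b)
  rw [show (Cfsg.upperPSeries p (G ⧸ N) (2 * b + 1)).1 = ⊤ from hQ, Subgroup.comap_top] at h
  show (Cfsg.upperPSeries p G (2 * (a + b) + 1)).1 = ⊤
  rw [show 2 * (a + b) + 1 = 2 * a + 2 * b + 1 by ring]
  exact top_unique h

theorem pLengthLE_zero_of_coprime (h : (Nat.card G).Coprime p) : Cfsg.PLengthLE p 0 G := by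
  refine top_unique (le_upperPSeries_succ 0 ⊤ ?_)
  unfold Factor
  rw [if_pos ⟨0, rfl⟩, show (Cfsg.upperPSeries p G 0).1 = ⊥ from rfl, Subgroup.relIndex_bot_left,
    Subgroup.card_top]
  exact h

theorem pLengthLE_one_of_isPGroup (h : IsPGroup p G) : Cfsg.PLengthLE p 1 G := by
  have h2 : (⊤ : Subgroup G) ≤ (Cfsg.upperPSeries p G (1 + 1)).1 := by
    refine le_upperPSeries_succ 1 ⊤ ?_
    unfold Factor
    rw [if_neg (by decide)]
    obtain ⟨k, hk⟩ := IsPGroup.iff_card.mp h
    obtain ⟨j, -, hj⟩ := (Nat.dvd_prime_pow hp.out).mp (hk ▸ by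
      rw [Subgroup.relIndex_top_right]; exact Subgroup.index_dvd_card _ :
        (Cfsg.upperPSeries p G 1).1.relIndex ⊤ ∣ p ^ k)
    exact ⟨j, hj⟩
  exact top_unique (h2.trans (upperPSeries_le_succ' _))

end CfsgLib.HallHigman
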