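import Cfsg.Agent.Lib.HallHigman.Jordan
import Cfsg.Agent.Lib.HallHigman.Schur

/-!
# The critical configuration: a unipotent element permuting a coprime irreducible group freely
-/

set_option autoImplicit false
set_option linter.style.haveILetI false
set_option linter.unusedSectionVars false

open Module

namespace CfsgLib.HallHigman

theorem sub_one_pow_eq_geom {R : Type*} [Ring R] {p : ℕ} [Fact p.Prime] [CharP R p] (g : R) (n : ℕ) :
    (g - 1) ^ (p ^ n - 1) = ∑ i ∈ Finset.range (p ^ n), g ^ i := by
  letI := ZMod.algebra R p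
  have h : (Polynomial.X - 1 : Polynomial (ZMod p)) ^ (p ^ n - 1) =
      ∑ i ∈ Finset.range (p ^ n), Polynomial.X ^ i := by
    refine mul_left_cancel₀ (a := (Polynomial.X - 1 : Polynomial (ZMod p)))
      (by simpa using Polynomial.X_sub_C_ne_zero (1 : ZMod p)) ?_
    rw [← pow_succ', Nat.sub_add_cancel (Nat.one_le_pow _ _ (Nat.Prime.pos Fact.out)),
      sub_pow_char_pow, one_pow, mul_geom_sum]
  have := congrArg (Polynomial.aeval g) h
  simpa using this

theorem sub_one_pow_prime_pow {R : Type*} [Ring R] {p : ℕ} [Fact p.Prime] [CharP R p] (g : R)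
    (n : ℕ) : (g - 1) ^ p ^ n = g ^ p ^ n - 1 := by
  rw [sub_pow_char_pow_of_commute p n (Commute.one_right g), one_pow]

theorem charP_end {K : Type*} [Field K] (p : ℕ) [CharP K p] (W : Type*) [AddCommGroup W] [Module K W]
    [Nontrivial W] : CharP (Module.End K W) p :=
  charP_of_injective_algebraMap (RingHom.injective (algebraMap K (Module.End K W))) p

theorem nat_ne_zero_of_coprime {K : Type*} [Field K] {p : ℕ} [CharP K p] [hp : Fact p.Prime] {n : ℕ}
    (h : n.Coprime p) : (n : K) ≠ 0 := fun e =>
  (hp.out.coprime_iff_not_dvd.mp h.symm) ((CharP.cast_eq_zero_iff K p n).mp e)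

variable {K : Type*} [Field K] [IsAlgClosed K] {p : ℕ} [Fact p.Prime] [CharP K p]
variable {W : Type*} [AddCommGroup W] [Module K W] [FiniteDimensional K W]
variable {Q : Type*} [Group Q] [Fintype Q]

/-- The Hall–Higman bound in the critical configuration. -/
theorem bound {ρ : Q →* Module.End K W} (hρ : IsIrr ρ) (hQ : (Fintype.card Q : K) ≠ 0)
    (σ : MulAut Q) (u : Module.End K W) (n : ℕ) (hu : u ^ p ^ n = 1) (hσ : σ ^ p ^ n = 1)
    (hrel : ∀ g, u * ρ g = ρ (σ g) * u)
    (hfree : ∀ i g, 0 < i → i < p ^ n → (σ ^ i) g = g → ∃ c : K, ρ g = c • LinearMap.id)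
    (s : ℕ) (hs : (u - 1) ^ s = 0) (hs' : (u - 1) ^ (s - 1) ≠ 0) :
    finrank K W = 1 ∨ (p ^ n - 1 ≤ s ∧ (s + 1 = p ^ n → finrank K W = s)) := by
  classical
  haveI := hρ.1
  haveI := charP_end p W (K := K)
  haveI := charP_end p (Module.End K W) (K := K)
  set P := p ^ n with hP
  have hPpos : 0 < P := Nat.pow_pos (Nat.Prime.pos Fact.out)
  set v := u ^ (P - 1) with hv
  have huv : u * v = 1 := by rw [hv, ← pow_succ', Nat.sub_add_cancel hPpos, hu]
  have hvu : v * u = 1 := by rw [hv, ← pow_succ, Nat.sub_add_cancel hPpos, hu]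
  -- conjugation
  let cj : Module.End K (Module.End K W) :=
    { toFun := fun f => u * f * v
      map_add' := fun a b => by rw [mul_add, add_mul]
      map_smul' := fun c a => by rw [mul_smul_comm, smul_mul_assoc]; rfl }
  have hcj : ∀ i f, (cj ^ i) f = u ^ i * f * v ^ i := by
    intro i
    induction i with
    | zero => intro f; simp
    | succ i ih =>
      intro f
      rw [pow_succ' cj, Module.End.mul_apply, ih]
      show u * (u ^ i * f * v ^ i) * v = _
      rw [pow_succ' u, pow_succ v]
      simp only [mul_assoc]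
  set T := cj - 1 with hT
  have hTP : T ^ P = 0 := by
    rw [hT, hP, sub_one_pow_prime_pow, sub_eq_zero]
    refine LinearMap.ext fun f => ?_
    rw [hcj, ← hP, hv, ← pow_mul, mul_comm (P - 1), pow_mul, hu, one_pow, one_mul, mul_one]
    rfl
  set Nm := LinearMap.range (T ^ (P - 1)) with hNm
  have hnorm : ∀ f, ∑ i ∈ Finset.range P, u ^ i * f * v ^ i ∈ Nm := fun f => by
    refine ⟨f, ?_⟩
    rw [hT, hP, sub_one_pow_eq_geom, LinearMap.sum_apply]
    exact Finset.sum_congr rfl fun i _ => hcj i f
  -- the powers of `σ`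
  have hpowrel : ∀ i g, u ^ i * ρ g = ρ ((σ ^ i) g) * u ^ i := by
    intro i
    induction i with
    | zero => intro g; simp
    | succ i ih =>
      intro g
      rw [pow_succ' u, mul_assoc, ih, ← mul_assoc, hrel, mul_assoc, pow_succ' σ, MulAut.mul_apply]
  have huvi : ∀ i, u ^ i * v ^ i = 1 := by
    intro i
    induction i with
    | zero => simp
    | succ i ih => rw [pow_succ u, pow_succ' v, mul_assoc, ← mul_assoc u, huv, one_mul, ih]
  -- the fixed points
  have hker : ∀ f, f ∈ LinearMap.ker T → f ∈ (K ∙ (1 : Module.End K W)) ⊔ Nm := by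
    intro f hf
    obtain ⟨hN, -⟩ := schur_avg hρ hQ
    have hfu : u * f * v = f := by
      rw [LinearMap.mem_ker, hT, LinearMap.sub_apply, sub_eq_zero] at hf
      exact hf
    have hvfu : v * f * u = f := by
      conv_lhs => rw [← hfu]
      rw [show v * (u * f * v) * u = (v * u) * f * (v * u) by simp only [mul_assoc], hvu, one_mul,
        mul_one]
    set a : Q → K := fun g => LinearMap.trace K W (f * ρ g⁻¹) with ha
    have hinv : ∀ g, a (σ g) = a g := by
      intro g
      have e : ρ (σ g)⁻¹ = u * ρ g⁻¹ * v := by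
        rw [hrel, mul_assoc, huv, mul_one, map_inv σ g]
      simp only [ha, e]
      rw [← mul_assoc, LinearMap.trace_mul_comm, ← mul_assoc, ← mul_assoc, hvfu]
    have hinv' : ∀ i g, a ((σ ^ i) g) = a g := by
      intro i
      induction i with
      | zero => intro g; rfl
      | succ i ih => intro g; rw [pow_succ', MulAut.mul_apply, hinv, ih]
    set J := (Finset.univ : Finset Q).filter fun g => ∃ c : K, ρ g = c • LinearMap.id with hJ
    have hscal : ∀ g ∈ J, a g • ρ g ∈ (K ∙ (1 : Module.End K W)) := fun g hg => by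
      obtain ⟨c, hc⟩ := (Finset.mem_filter.mp hg).2
      rw [hc, ← mul_smul]
      exact Submodule.smul_mem _ _ (Submodule.mem_span_singleton_self _)
    have horb : ∀ m, ∀ S : Finset Q, S.card = m → (∀ g ∈ S, σ g ∈ S) → (∀ g ∈ S, g ∉ J) →
        ∑ g ∈ S, a g • ρ g ∈ Nm := by
      intro m
      induction m using Nat.strong_induction_on with
      | _ m IH =>
      intro S hSc hSσ hSJ
      rcases S.eq_empty_or_nonempty with rfl | ⟨g0, hg0⟩
      · simp
      set O := (Finset.range P).image fun i => (σ ^ i) g0 with hO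
      have hOS : O ⊆ S := by
        intro x hx
        obtain ⟨i, -, rfl⟩ := Finset.mem_image.mp hx
        clear hx
        induction i with
        | zero => exact hg0
        | succ i ih => rw [pow_succ', MulAut.mul_apply]; exact hSσ _ ih
      have hmemO : ∀ i, (σ ^ i) g0 ∈ O := fun i =>
        Finset.mem_image.mpr ⟨i % P, Finset.mem_range.mpr (Nat.mod_lt _ hPpos), by
          conv_rhs => rw [← Nat.mod_add_div i P, pow_add, pow_mul, hσ, one_pow, mul_one]⟩
      have hinjO : Set.InjOn (fun i => (σ ^ i) g0) (Finset.range P : Set ℕ) := by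
        have key : ∀ i j, i ≤ j → j < P → (σ ^ i) g0 = (σ ^ j) g0 → i = j := by
          intro i j hij hj e
          by_contra hne
          refine hSJ g0 hg0 (Finset.mem_filter.mpr ⟨Finset.mem_univ _,
            hfree (j - i) g0 (by omega) (by omega) ((σ ^ i).injective ?_)⟩)
          rw [← MulAut.mul_apply, ← pow_add, Nat.add_sub_cancel' hij, e]
        intro i hi j hj e
        rw [Finset.coe_range, Set.mem_Iio] at hi hj
        rcases le_total i j with h | h
        exacts [key i j h hj e, (key j i h hi e.symm).symm]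
      rw [← Finset.sum_sdiff hOS]
      refine Submodule.add_mem _ (IH (S \ O).card ?_ _ rfl ?_ ?_) ?_
      · rw [← hSc]
        exact Finset.card_lt_card (Finset.ssubset_iff_of_subset Finset.sdiff_subset |>.mpr
          ⟨g0, hg0, fun h => (Finset.mem_sdiff.mp h).2 (hmemO 0)⟩)
      · intro g hg
        rw [Finset.mem_sdiff] at hg ⊢
        refine ⟨hSσ g hg.1, fun h => hg.2 ?_⟩
        obtain ⟨i, -, hi⟩ := Finset.mem_image.mp h
        have : g = (σ ^ (P - 1 + i)) g0 := by
          rw [pow_add, MulAut.mul_apply, hi, ← MulAut.mul_apply, ← pow_succ,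
            Nat.sub_add_cancel hPpos, hσ, MulAut.one_apply]
        rw [this]; exact hmemO _
      · intro g hg; exact hSJ g (Finset.mem_sdiff.mp hg).1
      · rw [hO, Finset.sum_image hinjO]
        have : ∀ i ∈ Finset.range P, a ((σ ^ i) g0) • ρ ((σ ^ i) g0) =
            a g0 • (u ^ i * ρ g0 * v ^ i) := fun i _ => by
          rw [hinv', hpowrel, mul_assoc, huvi, mul_one]
        rw [Finset.sum_congr rfl this, ← Finset.smul_sum]
        exact Submodule.smul_mem _ _ (hnorm _)
    have hsum := sum_trace_smul hρ hQ f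
    rw [← Finset.sum_add_sum_compl J] at hsum
    have hf' : ((Fintype.card Q : K) / (finrank K W : K)) • f ∈ (K ∙ (1 : Module.End K W)) ⊔ Nm := by
      rw [← hsum]
      refine Submodule.add_mem_sup (Submodule.sum_mem _ hscal)
        (horb _ Jᶜ rfl ?_ fun g hg => Finset.mem_compl.mp hg)
      intro g hg
      rw [Finset.mem_compl, hJ, Finset.mem_filter] at hg ⊢
      refine fun h => hg ⟨Finset.mem_univ _, ?_⟩
      obtain ⟨-, c, hc⟩ := h
      refine ⟨c, ?_⟩
      calc ρ g = v * (u * ρ g) := by rw [← mul_assoc, hvu, one_mul]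
        _ = v * (ρ (σ g) * u) := by rw [hrel]
        _ = c • LinearMap.id := by
          rw [hc, ← Module.End.one_eq_id, smul_mul_assoc, one_mul, mul_smul_comm, hvu]
    exact (Submodule.smul_mem_iff _ (div_ne_zero hQ hN)).mp hf'
  -- dimensions
  have hdimC : finrank K (LinearMap.ker T) ≤ 1 + finrank K Nm := by
    refine (Submodule.finrank_mono hker).trans ((Submodule.finrank_add_le_finrank_add_finrank _ _).trans ?_)
    exact Nat.add_le_add_right (finrank_span_singleton one_ne_zero).le _
  have hhom : homT (u - 1) (u - 1) = LinearMap.ker T := by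
    ext f
    rw [LinearMap.mem_ker, hT, LinearMap.sub_apply, sub_eq_zero, Module.End.one_apply]
    show f * (u - 1) = (u - 1) * f ↔ u * f * v = f
    rw [mul_sub, sub_mul, mul_one, one_mul, sub_left_inj]
    constructor
    · intro e; rw [← e, mul_assoc, huv, mul_one]
    · intro e
      conv_lhs => rw [← e, mul_assoc, hvu, mul_one]
  have hL := sq_le_mul_centralizer (u - 1) hs
  rw [hhom] at hL
  have hN2 := ker_add_norm_le T hPpos hTP
  rw [Module.finrank_linearMap] at hN2
  -- the index is at most the dimension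
  have hsN : s ≤ finrank K W := by
    by_contra hlt
    refine hs' (pow_eq_zero_of_le (show finrank K W ≤ s - 1 by omega) ?_)
    rw [← LinearMap.ker_eq_top, ← top_le_iff]
    have h0 := Module.End.ker_pow_le_ker_pow_finrank (u - 1) s
    rw [hs, LinearMap.ker_zero] at h0
    exact h0
  set N := finrank K W
  set C := finrank K (LinearMap.ker T)
  set R := finrank K Nm
  rcases Nat.lt_or_ge 1 N with hN1 | hN1
  swap
  · left
    have : 0 < N := Module.finrank_pos
    omega
  right
  have hineq : P * C ≤ N * N + (P - 1) := by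
    have h1 : (P - 1) * C ≤ (P - 1) * (1 + R) := Nat.mul_le_mul_left _ hdimC
    have h2 : P * C = C + (P - 1) * C := by
      conv_lhs => rw [show P = 1 + (P - 1) by omega, add_mul, one_mul]
    rw [mul_add, mul_one] at h1
    change C + (P - 1) * R ≤ N * N at hN2
    omega
  have hmain : P * (N * N) ≤ s * (N * N) + s * (P - 1) := by
    calc P * (N * N) = P * N ^ 2 := by rw [sq]
      _ ≤ P * (s * C) := Nat.mul_le_mul_left _ hL
      _ = s * (P * C) := by ring
      _ ≤ s * (N * N + (P - 1)) := Nat.mul_le_mul_left _ hineq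
      _ = _ := mul_add _ _ _
  have hkey : s < P → (P - s) * (N * N) ≤ s * (P - 1) := fun h => by
    obtain ⟨d, hd⟩ := Nat.exists_eq_add_of_le h.le
    rw [show P - s = d by omega]
    rw [show P * (N * N) = s * (N * N) + d * (N * N) by rw [hd, add_mul]] at hmain
    omega
  refine ⟨?_, fun hsP => ?_⟩
  · by_contra hlt
    push Not at hlt
    obtain ⟨d, hd⟩ : ∃ d, P = s + d + 2 := ⟨P - s - 2, by omega⟩
    have h3 := hkey (by omega)
    rw [hd, show s + d + 2 - s = d + 2 by omega, show s + d + 2 - 1 = s + d + 1 by omega] at h3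
    rcases Nat.lt_or_ge s 2 with hs2 | hs2
    · have h4 : (d + 2) * 4 ≤ (d + 2) * (N * N) :=
        Nat.mul_le_mul_left _ (Nat.mul_le_mul hN1 hN1)
      have h5 : s * (s + d + 1) ≤ 1 * (d + 2) := Nat.mul_le_mul (by omega) (by omega)
      omega
    · have h4 : (d + 2) * (s * s) ≤ (d + 2) * (N * N) :=
        Nat.mul_le_mul_left _ (Nat.mul_le_mul hsN hsN)
      have h5 : (d + 2) * (s * s) ≤ s * (s + d + 1) := h4.trans h3
      have h6 : (d + 2) * s ≤ s + d + 1 := by
        rw [← mul_assoc, mul_comm s (s + d + 1)] at h5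
        exact Nat.le_of_mul_le_mul_right h5 (by omega)
      have h7 : (d + 2) * 2 ≤ (d + 2) * s := Nat.mul_le_mul_left _ hs2
      nlinarith
  · have h3 := hkey (by omega)
    rw [← hsP, show s + 1 - s = 1 by omega, one_mul, Nat.add_sub_cancel] at h3
    have : N ≤ s := by
      by_contra hlt
      push Not at hlt
      have := Nat.mul_self_lt_mul_self hlt
      omega
    omega

end CfsgLib.HallHigman
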