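import Cfsg.Agent.Lib.HallHigman.FermatCount
import Cfsg.Agent.Lib.PSolvable.Core
import Cfsg.Agent.Lib.Critical.Basic

/-!
The elements with few moved points in a `p`-group of automorphisms of an elementary abelian
`2`-group generate an abelian group, `p` a Fermat prime.
-/

set_option autoImplicit false
set_option linter.style.haveILetI false
set_option linter.unusedSectionVars false

namespace CfsgLib.HallHigman

variable {p : ℕ} [hp : Fact p.Prime] {X : Type*} [CommGroup X] [Finite X]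

/-- `v ↦ y v / v`. -/
def moveHom (y : MulAut X) : X →* X :=
  MonoidHom.mk' (fun v => y v / v) fun u v => by rw [map_mul, mul_div_mul_comm]

/-- A non-trivial power of an element of `S` that moves fewer than `p ^ n` dimensions. -/
def IsSmall (p : ℕ) (S : Subgroup (MulAut X)) (y : MulAut X) : Prop :=
  ∃ x ∈ S, ∃ n : ℕ, 1 ≤ n ∧ x ^ p ^ n = 1 ∧ y = x ^ p ^ (n - 1) ∧
    Nat.card (moveHom y).range < 2 ^ p ^ n

/-- An automorphism as an additive endomorphism. -/
def endAdd : MulAut X →* AddMonoid.End (Additive X) where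
  toFun g := MonoidHom.toAdditive g.toMonoidHom
  map_one' := rfl
  map_mul' _ _ := rfl

theorem card_moveHom_range (y : MulAut X) :
    Nat.card (AddMonoidHom.range (endAdd y - 1 : AddMonoid.End (Additive X))) =
      Nat.card (moveHom y).range :=
  Nat.card_congr
    { toFun := fun v => ⟨Additive.toMul v.1, by
        obtain ⟨_, u, rfl⟩ := v
        exact ⟨Additive.toMul u, rfl⟩⟩
      invFun := fun v => ⟨Additive.ofMul v.1, by
        obtain ⟨_, u, rfl⟩ := v
        exact ⟨Additive.ofMul u, rfl⟩⟩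
      left_inv := fun _ => rfl
      right_inv := fun _ => rfl }

theorem IsSmall.conj {S : Subgroup (MulAut X)} {y s : MulAut X} (h : IsSmall p S y) (hs : s ∈ S) :
    IsSmall p S (s * y * s⁻¹) := by
  obtain ⟨x, hx, n, hn, hxn, rfl, hcard⟩ := h
  refine ⟨s * x * s⁻¹, S.mul_mem (S.mul_mem hs hx) (S.inv_mem hs), n, hn, ?_, ?_, ?_⟩
  · rw [conj_pow, hxn]; group
  · rw [conj_pow]
  · refine lt_of_le_of_lt (le_of_eq ?_) hcard
    rw [show (moveHom (s * x ^ p ^ (n - 1) * s⁻¹)).range =
      (moveHom (x ^ p ^ (n - 1))).range.map s.toMonoidHom from ?_,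
      Subgroup.card_map_of_injective (f := s.toMonoidHom) s.injective]
    ext v
    constructor
    · rintro ⟨u, rfl⟩
      refine ⟨_, ⟨s.symm u, rfl⟩, ?_⟩
      show s ((x ^ p ^ (n - 1)) (s.symm u) / s.symm u) = s ((x ^ p ^ (n - 1)) (s.symm u)) / u
      rw [map_div, MulEquiv.apply_symm_apply]
    · rintro ⟨_, ⟨u, rfl⟩, rfl⟩
      refine ⟨s u, ?_⟩
      show s ((x ^ p ^ (n - 1)) (s.symm (s u))) / s u = s ((x ^ p ^ (n - 1)) u / u)
      rw [map_div, MulEquiv.symm_apply_apply]

theorem small_commute {b : ℕ} (hb : p = 2 ^ b + 1) (hb1 : 1 ≤ b) (hX : ∀ v : X, v * v = 1)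
    (S : Subgroup (MulAut X)) (hS : IsPGroup p S) {y y' : MulAut X} (hy : IsSmall p S y)
    (hy' : IsSmall p S y') : y * y' = y' * y := by
  classical
  haveI : Finite (MulAut X) := Finite.of_injective (fun g : MulAut X => (g : X → X)) DFunLike.coe_injective
  set T : Set S := {g | IsSmall p S (g : MulAut X)} with hT
  have hmem : ∀ {g : MulAut X}, IsSmall p S g → g ∈ S := by
    rintro _ ⟨x, hx, n, -, -, rfl, -⟩
    exact S.pow_mem hx _
  set N : Subgroup S := Subgroup.closure T with hN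
  haveI hNn : N.Normal := ⟨fun g hg s => by
    induction hg using Subgroup.closure_induction with
    | mem g hg => exact Subgroup.subset_closure ((show IsSmall p S (g : MulAut X) from hg).conj s.2)
    | one => simp
    | mul g h _ _ ihg ihh =>
      rw [show s * (g * h) * s⁻¹ = s * g * s⁻¹ * (s * h * s⁻¹) by group]
      exact N.mul_mem ihg ihh
    | inv g _ ih =>
      rw [show s * g⁻¹ * s⁻¹ = (s * g * s⁻¹)⁻¹ by group]
      exact N.inv_mem ih⟩
  suffices hcomm : ∀ g ∈ N, ∀ h ∈ N, g * h = h * g from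
    congrArg Subtype.val (hcomm ⟨y, hmem hy⟩ (Subgroup.subset_closure hy) ⟨y', hmem hy'⟩
      (Subgroup.subset_closure hy'))
  by_contra hne
  set Z : Subgroup S := (Subgroup.center N).map N.subtype with hZdef
  haveI hZn : Z.Normal := PSolvable.normal_map_of_characteristic N _
  set π := QuotientGroup.mk' Z with hπ
  have hbar : N.map π ≠ ⊥ := by
    intro e
    apply hne
    intro g hg h hh
    have h1 : π g ∈ N.map π := Subgroup.mem_map_of_mem π hg
    rw [e, Subgroup.mem_bot, QuotientGroup.mk'_apply, QuotientGroup.eq_one_iff] at h1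
    obtain ⟨c, hc, hce⟩ := h1
    have h2 := congrArg Subtype.val (Subgroup.mem_center_iff.mp hc ⟨h, hh⟩)
    rw [← hce]
    exact h2.symm
  haveI : Group.IsNilpotent (S ⧸ Z) := (hS.to_quotient Z).isNilpotent
  haveI : (N.map π).Normal := Subgroup.Normal.map inferInstance π (QuotientGroup.mk'_surjective Z)
  obtain ⟨abar, habar, habar1⟩ :=
    (Subgroup.bot_or_exists_ne_one _).resolve_left (Critical.inf_center_ne_bot (N.map π) hbar)
  obtain ⟨⟨a, ha, rfl⟩, hacen⟩ := Subgroup.mem_inf.mp habar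
  have haZ : a ∉ Z := fun h => habar1 ((QuotientGroup.eq_one_iff a).mpr h)
  have hsZ : ∀ s : S, s * a * s⁻¹ * a⁻¹ ∈ Z := fun s => by
    rw [← QuotientGroup.eq_one_iff, ← QuotientGroup.mk'_apply, map_mul, map_mul, map_mul,
      (Subgroup.mem_center_iff.mp hacen (π s)), map_inv, map_inv, mul_inv_cancel_right, mul_inv_cancel]
  have hZc : ∀ c ∈ Z, ∀ g ∈ N, c * g = g * c := by
    rintro _ ⟨c, hc, rfl⟩ g hg
    exact (congrArg Subtype.val (Subgroup.mem_center_iff.mp hc ⟨g, hg⟩)).symm
  obtain ⟨y₀, hy₀, hay₀⟩ : ∃ y₀ ∈ T, a * y₀ ≠ y₀ * a := by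
    by_contra hall
    push Not at hall
    refine haZ ⟨⟨a, ha⟩, Subgroup.mem_center_iff.mpr fun g => Subtype.ext ?_, rfl⟩
    have : ∀ g ∈ N, g * a = a * g := by
      intro g hg
      induction hg using Subgroup.closure_induction with
      | mem g hg => exact (hall g hg).symm
      | one => simp
      | mul g h _ _ ihg ihh => exact (Commute.mul_left ihg ihh : Commute (g * h) a).eq
      | inv g _ ih => exact (Commute.inv_left ih : Commute g⁻¹ a).eq
    exact this g g.2
  obtain ⟨x, hx, n, hn, hxn, hyx, hcard⟩ := (show IsSmall p S (y₀ : MulAut X) from hy₀)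
  set xS : S := ⟨x, hx⟩
  have hy₀N : y₀ ∈ N := Subgroup.subset_closure hy₀
  set z := a * y₀ * a⁻¹ * y₀⁻¹ with hz
  have hzZ : z ∈ Z := by
    have h1 := Z.inv_mem (hsZ y₀)
    rwa [show (y₀ * a * y₀⁻¹ * a⁻¹)⁻¹ = a * y₀ * a⁻¹ * y₀⁻¹ by group] at h1
  have hzN : z ∈ N := N.mul_mem (N.mul_mem (N.mul_mem ha hy₀N) (N.inv_mem ha)) (N.inv_mem hy₀N)
  have hzx : xS * z = z * xS := by
    set u := xS * a * xS⁻¹ * a⁻¹ with hu
    have huZ : u ∈ Z := hsZ xS
    have hxy : Commute xS y₀ := by
      show xS * y₀ = y₀ * xS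
      exact Subtype.ext (by show x * (y₀ : MulAut X) = (y₀ : MulAut X) * x; rw [hyx]; exact (Commute.self_pow x _).eq)
    have h1 : xS * z * xS⁻¹ = (u * a) * y₀ * (u * a)⁻¹ * y₀⁻¹ := by
      calc xS * z * xS⁻¹ = (xS * a * xS⁻¹) * (xS * y₀ * xS⁻¹) * (xS * a * xS⁻¹)⁻¹ * (xS * y₀ * xS⁻¹)⁻¹ := by
            rw [hz]; group
        _ = _ := by rw [hxy.eq, mul_inv_cancel_right, hu, inv_mul_cancel_right]
    have h2 : (u * a) * y₀ * (u * a)⁻¹ * y₀⁻¹ = z := by
      calc (u * a) * y₀ * (u * a)⁻¹ * y₀⁻¹ = u * (z * (y₀ * u⁻¹)) * y₀⁻¹ := by rw [hz]; group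
        _ = u * (z * (u⁻¹ * y₀)) * y₀⁻¹ := by rw [hZc _ (Z.inv_mem huZ) _ hy₀N]
        _ = u * z * u⁻¹ := by group
        _ = z := by rw [hZc u huZ z hzN, mul_inv_cancel_right]
    have h3 := h1.trans h2
    calc xS * z = xS * z * xS⁻¹ * xS := by group
      _ = z * xS := by rw [h3]
  have hza : z * a = a * z := hZc z hzZ a ha
  have hyp : y₀ ^ p = 1 := Subtype.ext (by
    show (y₀ : MulAut X) ^ p = 1
    rw [hyx, ← pow_mul, ← pow_succ, Nat.sub_add_cancel hn, hxn])
  have hzp : z ^ p = 1 := by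
    have hc : Commute z y₀ := hZc z hzZ y₀ hy₀N
    have h1 : (z * y₀) ^ p = 1 := by
      rw [show z * y₀ = a * y₀ * a⁻¹ by rw [hz]; group, conj_pow, hyp]; group
    rwa [hc.mul_pow, hyp, mul_one] at h1
  have hz1 : (z : MulAut X) ≠ 1 := fun e => hay₀ (by
    have : z = 1 := Subtype.ext e
    calc a * y₀ = z * (y₀ * a) := by rw [hz]; group
      _ = y₀ * a := by rw [this, one_mul])
  have hend : Function.Injective (endAdd (X := X)) := fun g h e => MulEquiv.ext fun v =>
    Additive.ofMul.injective (DFunLike.congr_fun e (Additive.ofMul v))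
  have key := moved_card (A := Additive X) hb hb1 (fun v => hX (Additive.toMul v))
    ((toUnits (a : MulAut X)).map endAdd) (endAdd x) (endAdd (y₀ : MulAut X)) (endAdd (z : MulAut X)) n hn
    (by rw [← map_pow, hxn, map_one]) (by rw [← map_pow, hyx])
    (by rw [← map_pow, ← Subgroup.coe_pow, hzp, Subgroup.coe_one, map_one])
    (fun e => hz1 (hend (e.trans endAdd.map_one.symm)))
    (by rw [commute_iff_eq, ← map_mul, ← map_mul]; exact congrArg endAdd (congrArg Subtype.val hzx).symm)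
    (by
      show endAdd _ * endAdd (a : MulAut X) = endAdd (a : MulAut X) * endAdd _
      rw [← map_mul, ← map_mul]; exact congrArg endAdd (congrArg Subtype.val hza))
    (by
      show endAdd (a : MulAut X) * endAdd _ = endAdd _ * endAdd _ * endAdd (a : MulAut X)
      rw [← map_mul, ← map_mul, ← map_mul]
      exact congrArg endAdd (congrArg Subtype.val (show a * y₀ = z * y₀ * a by rw [hz]; group)))
  rw [card_moveHom_range] at key
  omega

end CfsgLib.HallHigman
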