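import Cfsg.Agent.Lib.HallHigman.Bound
import Cfsg.Agent.Lib.HallHigman.Degree
import Cfsg.Agent.Lib.TI.FaithfulDegree
import Cfsg.Agent.Lib.Coprime.Action
import Cfsg.Agent.Lib.Transfer.Sylow

/-!
# Theorem B of Hall and Higman
-/

set_option autoImplicit false
set_option linter.style.haveILetI false
set_option linter.unusedSectionVars false

open Module

namespace CfsgLib.HallHigman

/-- An exponent hitting `p ^ (a - 1)`. -/
theorem exists_mul_modEq {p : ℕ} [hp : Fact p.Prime] {a n j : ℕ} (han : a ≤ n) (hj : ¬ p ^ a ∣ j) :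
    ∃ k : ℕ, j * k ≡ p ^ (a - 1) [MOD p ^ n] := by
  obtain ⟨b, hbn, hb⟩ := (Nat.dvd_prime_pow hp.out).mp (Nat.gcd_dvd_right j (p ^ n))
  have hba : b < a := by
    by_contra hle
    push Not at hle
    exact hj ((pow_dvd_pow p hle).trans (hb ▸ Nat.gcd_dvd_left j (p ^ n)))
  have hlt : j.gcd (p ^ n) < p ^ n := by
    rw [hb]; exact Nat.pow_lt_pow_right hp.out.one_lt (by omega)
  obtain ⟨m, -, hm⟩ := Nat.exists_mul_mod_eq_gcd hlt
  refine ⟨m * p ^ (a - 1 - b), ?_⟩
  have h1 : j * m ≡ p ^ b [MOD p ^ n] := by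
    rw [Nat.ModEq, hm, Nat.mod_eq_of_lt (hb ▸ hlt), hb]
  have := h1.mul_right (p ^ (a - 1 - b))
  rwa [← pow_add, show b + (a - 1 - b) = a - 1 by omega, mul_assoc] at this

variable {H : Type*} [Group H] [Finite H] {p : ℕ} [hp : Fact p.Prime]

/-- A minimal invariant `q`-subgroup moved by the element of order `p`. -/
theorem exists_minimal_moved (hsol : Cfsg.IsPSolvable p H) (hO : Cfsg.pCore p H = ⊥) {x : H} {n : ℕ}
    (hx : orderOf x = p ^ (n + 1)) :
    ∃ (q : ℕ) (Q : Subgroup H), q.Prime ∧ IsPGroup q Q ∧ q ≠ p ∧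
      (∀ g ∈ Q, x * g * x⁻¹ ∈ Q) ∧
      Q ≤ Subgroup.closure {c | ∃ g ∈ Q, c = g⁻¹ * x ^ p ^ n * g * (x ^ p ^ n)⁻¹} ∧
      (∀ c ∈ Q, c * x ^ p ^ n = x ^ p ^ n * c → ∀ g ∈ Q, c * g = g * c) ∧ Q ≠ ⊥ := by
  classical
  set y := x ^ p ^ n with hy
  have hyp : orderOf y = p := by
    rw [hy, orderOf_pow, hx, Nat.gcd_eq_right (pow_dvd_pow p n.le_succ), pow_succ,
      Nat.mul_div_cancel_left _ (Nat.pow_pos hp.out.pos)]
  have hyR : y ∉ Subgroup.centralizer (Cfsg.pPrimeCore p H : Set H) := fun h => by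
    have h1 := TIDegree.centralizer_pPrimeCore_le hsol hO h
    have hcop := Transfer.pPrimeCore_coprime (G := H) p
    have h2 : orderOf (⟨y, h1⟩ : Cfsg.pPrimeCore p H) = p := by rw [← Subgroup.orderOf_coe]; exact hyp
    have h3 := orderOf_dvd_natCard (⟨y, h1⟩ : Cfsg.pPrimeCore p H)
    rw [h2] at h3
    exact (hp.out.coprime_iff_not_dvd.mp hcop.symm) h3
  set R := Cfsg.pPrimeCore p H with hR
  haveI hRn : R.Normal := Transfer.pPrimeCore_normal p H
  set A := Subgroup.zpowers x with hA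
  have hAR : A ≤ Subgroup.normalizer (R : Set H) := Subgroup.le_normalizer_of_normal
  have hAc : (Nat.card A).Coprime (Nat.card R) := by
    rw [hA, Nat.card_zpowers, hx]
    exact (Nat.Coprime.pow_right (n + 1) (Transfer.pPrimeCore_coprime (G := H) p)).symm
  haveI : Group.IsSolvable A := Group.isSolvable_of_comm fun a b => IsCyclic.commutative.is_comm.comm a b
  -- some invariant Sylow subgroup of the core is moved
  obtain ⟨q, hq, P, hPA, hPy⟩ : ∃ q, q.Prime ∧ ∃ P : Subgroup H, (IsPGroup q P ∧ P ≤ R ∧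
      ∀ g ∈ P, x * g * x⁻¹ ∈ P) ∧ ¬ P ≤ Subgroup.centralizer ({y} : Set H) := by
    by_contra hno
    push Not at hno
    apply hyR
    rw [Subgroup.mem_centralizer_iff]
    intro g hg
    have hall : R ≤ Subgroup.centralizer ({y} : Set H) := by
      have hdvd : Nat.card R ∣ Nat.card (R ⊓ Subgroup.centralizer ({y} : Set H) : Subgroup H) := by
        rw [Nat.dvd_iff_prime_pow_dvd_dvd]
        intro q k hq hk
        haveI := Fact.mk hq
        obtain ⟨P, hP⟩ := Coprime.exists_invariant_sylow hAR hAc (Or.inl inferInstance) q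
        set P' := (P : Subgroup R).map R.subtype with hP'
        have hle : P' ≤ R ⊓ Subgroup.centralizer ({y} : Set H) := le_inf (Subgroup.map_subtype_le _)
          (hno q hq P' ⟨P.2.map _, Subgroup.map_subtype_le _, fun g hg =>
            (Subgroup.mem_normalizer_iff.mp (hP (Subgroup.mem_zpowers x)) g).mp hg⟩)
        refine dvd_trans ?_ (Subgroup.card_dvd_of_le hle)
        rw [hP', Subgroup.card_map_of_injective R.subtype_injective, P.card_eq_multiplicity]
        exact pow_dvd_pow q ((hq.pow_dvd_iff_le_factorization Nat.card_pos.ne').mp hk)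
      have := Subgroup.eq_of_le_of_card_ge inf_le_left (Nat.le_of_dvd Nat.card_pos hdvd)
      exact this ▸ inf_le_right
    exact Subgroup.mem_centralizer_singleton_iff.mp (hall hg)
  haveI := Fact.mk hq
  obtain ⟨Q, hQP, hQmin⟩ := Finite.exists_le_minimal
    (p := fun W : Subgroup H => (IsPGroup q W ∧ W ≤ R ∧ ∀ g ∈ W, x * g * x⁻¹ ∈ W) ∧
      ¬ W ≤ Subgroup.centralizer ({y} : Set H)) (a := P) ⟨hPA, hPy⟩
  obtain ⟨⟨hQq, hQR, hQx⟩, hQy⟩ := hQmin.prop
  have hQne : Q ≠ ⊥ := fun e => hQy (e ▸ bot_le)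
  have hqp : q ≠ p := by
    obtain ⟨g, hg, hgne⟩ := Q.bot_or_exists_ne_one.resolve_left hQne
    obtain ⟨k, hk⟩ := hQq ⟨g, hg⟩
    intro e
    subst e
    have hgR : (⟨g, hQR hg⟩ : R) ^ q ^ k = 1 := Subtype.ext (congrArg Subtype.val hk : _)
    have h1 : orderOf (⟨g, hQR hg⟩ : R) ∣ Nat.gcd (q ^ k) (Nat.card R) :=
      Nat.dvd_gcd (orderOf_dvd_of_pow_eq_one hgR) (orderOf_dvd_natCard _)
    rw [(Nat.Coprime.pow_left k (Transfer.pPrimeCore_coprime (G := H) q).symm).gcd_eq_one,
      Nat.dvd_one, orderOf_eq_one_iff] at h1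
    exact hgne (congrArg Subtype.val h1)
  have hyQ : ∀ g ∈ Q, y * g * y⁻¹ ∈ Q := by
    suffices ∀ (i : ℕ), ∀ g ∈ Q, x ^ i * g * (x ^ i)⁻¹ ∈ Q from this _
    intro i
    induction i with
    | zero => intro g hg; simpa using hg
    | succ i ih =>
      intro g hg
      rw [pow_succ', show x * x ^ i * g * (x * x ^ i)⁻¹ = x * (x ^ i * g * (x ^ i)⁻¹) * x⁻¹ by group]
      exact hQx _ (ih g hg)
  have hxy : x * y = y * x := by rw [hy, ← pow_succ, ← pow_succ']
  -- the commutators
  set T := {c | ∃ g ∈ Q, c = g⁻¹ * y * g * y⁻¹} with hT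
  have hTQ : Subgroup.closure T ≤ Q := (Subgroup.closure_le Q).mpr (by
    rintro c ⟨g, hg, rfl⟩
    rw [show g⁻¹ * y * g * y⁻¹ = g⁻¹ * (y * g * y⁻¹) by group]
    exact Q.mul_mem (Q.inv_mem hg) (hyQ g hg))
  have hTx : ∀ c ∈ Subgroup.closure T, x * c * x⁻¹ ∈ Subgroup.closure T := by
    intro c hc
    induction hc using Subgroup.closure_induction with
    | mem c hc =>
      obtain ⟨g, hg, rfl⟩ := hc
      refine Subgroup.subset_closure ⟨x * g * x⁻¹, hQx g hg, ?_⟩
      calc x * (g⁻¹ * y * g * y⁻¹) * x⁻¹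
          = (x * g * x⁻¹)⁻¹ * (x * y * x⁻¹) * (x * g * x⁻¹) * (x * y * x⁻¹)⁻¹ := by group
        _ = _ := by rw [hxy, mul_inv_cancel_right]
    | one => simpa using (Subgroup.closure T).one_mem
    | mul a b _ _ iha ihb =>
      rw [show x * (a * b) * x⁻¹ = (x * a * x⁻¹) * (x * b * x⁻¹) by group]
      exact (Subgroup.closure T).mul_mem iha ihb
    | inv a _ ih =>
      rw [show x * a⁻¹ * x⁻¹ = (x * a * x⁻¹)⁻¹ by group]
      exact (Subgroup.closure T).inv_mem ih
  have hQT : Q ≤ Subgroup.closure T := by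
    by_contra hne
    have hTy : Subgroup.closure T ≤ Subgroup.centralizer ({y} : Set H) := by
      by_contra h
      exact hne (hQmin.le_of_le ⟨⟨hQq.to_le hTQ, hTQ.trans hQR, hTx⟩, h⟩ hTQ)
    refine hQy fun g hg => Subgroup.mem_centralizer_singleton_iff.mpr ?_
    have hc : g⁻¹ * y * g * y⁻¹ ∈ Subgroup.closure T := Subgroup.subset_closure ⟨g, hg, rfl⟩
    set c := g⁻¹ * y * g * y⁻¹ with hcdef
    have hcy : Commute c y := Subgroup.mem_centralizer_singleton_iff.mp (hTy hc)
    have hcp : c ^ p = 1 := by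
      have h1 : (c * y) ^ p = 1 := by
        rw [hcdef, inv_mul_cancel_right, show g⁻¹ * y * g = g⁻¹ * y * (g⁻¹)⁻¹ by rw [inv_inv],
          conj_pow, ← hyp, pow_orderOf_eq_one]
        group
      rw [hcy.mul_pow, ← hyp, pow_orderOf_eq_one, mul_one, hyp] at h1
      exact h1
    obtain ⟨k, hk⟩ := hQq ⟨c, hTQ hc⟩
    have hc1 : c = 1 := by
      have hd : orderOf c ∣ Nat.gcd p (q ^ k) :=
        Nat.dvd_gcd (orderOf_dvd_of_pow_eq_one hcp) (orderOf_dvd_of_pow_eq_one (congrArg Subtype.val hk))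
      rw [(Nat.Coprime.pow_right k ((Nat.coprime_primes hp.out hq).mpr (Ne.symm hqp))).gcd_eq_one,
        Nat.dvd_one, orderOf_eq_one_iff] at hd
      exact hd
    calc g * y = g * (c⁻¹ * (g⁻¹ * y * g)) := by rw [hcdef]; group
      _ = y * g := by rw [hc1]; group
  refine ⟨q, Q, hq, hQq, hqp, hQx, hQT, ?_, hQne⟩
  -- the fixed points are central
  set C := Q ⊓ Subgroup.centralizer ({y} : Set H) with hC
  have hCx : ∀ g ∈ C, x * g * x⁻¹ ∈ C := fun g hg => by
    refine ⟨hQx g hg.1, Subgroup.mem_centralizer_singleton_iff.mpr ?_⟩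
    have h1 : g * y = y * g := Subgroup.mem_centralizer_singleton_iff.mp hg.2
    calc x * g * x⁻¹ * y = x * g * (x⁻¹ * y * x) * x⁻¹ := by group
      _ = x * (g * y) * x⁻¹ := by rw [mul_assoc x⁻¹, ← hxy, inv_mul_cancel_left]; group
      _ = (x * y) * g * x⁻¹ := by rw [h1]; group
      _ = y * (x * g * x⁻¹) := by rw [hxy]; group
  have hnorm : Q ≤ Subgroup.normalizer (C : Set H) := by
    by_contra hne
    have hlt : C < Q := lt_of_le_of_ne inf_le_left fun e => hQy (e ▸ inf_le_right)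
    have h1 := Transfer.lt_inf_normalizer hQq hlt
    set N := Q ⊓ Subgroup.normalizer (C : Set H) with hN
    have hNx : ∀ g ∈ N, x * g * x⁻¹ ∈ N := fun g hg => by
      refine ⟨hQx g hg.1, ?_⟩
      have hxC : x ∈ Subgroup.normalizer (C : Set H) := by
        have hsub : C.map (MulAut.conj x).toMonoidHom ≤ C := by
          rintro _ ⟨c, hc, rfl⟩; exact hCx c hc
        have heq : C.map (MulAut.conj x).toMonoidHom = C := Subgroup.eq_of_le_of_card_ge hsub
          (by rw [Subgroup.card_map_of_injective (MulEquiv.injective _)])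
        rw [Subgroup.mem_normalizer_iff]
        intro c
        refine ⟨fun hc => hCx c hc, fun hc => ?_⟩
        rw [← heq] at hc
        obtain ⟨c', hc', e⟩ := hc
        have : c' = c := (MulAut.conj x).injective e
        exact this ▸ hc'
      exact (Subgroup.normalizer _).mul_mem ((Subgroup.normalizer _).mul_mem hxC hg.2)
        ((Subgroup.normalizer _).inv_mem hxC)
    by_cases hNy : N ≤ Subgroup.centralizer ({y} : Set H)
    · exact h1.not_ge (le_inf inf_le_left hNy)
    · exact hne ((hQmin.le_of_le ⟨⟨hQq.to_le inf_le_left, inf_le_left.trans hQR, hNx⟩, hNy⟩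
        inf_le_left).trans inf_le_right)
  intro c hc hcy g hg
  have hcC : c ∈ C := ⟨hc, Subgroup.mem_centralizer_singleton_iff.mpr hcy⟩
  have hgen : ∀ d ∈ Subgroup.closure T, c * d = d * c := by
    intro d hd
    induction hd using Subgroup.closure_induction with
    | mem d hd =>
      obtain ⟨g, hg, rfl⟩ := hd
      have h1 : g * c * g⁻¹ ∈ C := (Subgroup.mem_normalizer_iff.mp (hnorm hg) c).mp hcC
      have h2 : g * c * g⁻¹ * y = y * (g * c * g⁻¹) := Subgroup.mem_centralizer_singleton_iff.mp h1.2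
      have h3 : Commute c (g⁻¹ * y * g) := by
        show c * (g⁻¹ * y * g) = g⁻¹ * y * g * c
        calc c * (g⁻¹ * y * g) = g⁻¹ * (g * c * g⁻¹ * y) * g := by group
          _ = _ := by rw [h2]; group
      exact (h3.mul_right (Commute.inv_right hcy)).eq
    | one => simp
    | mul a b _ _ iha ihb => exact (Commute.mul_right iha ihb : Commute c (a * b)).eq
    | inv a _ ih => exact (Commute.inv_right ih : Commute c a⁻¹).eq
  exact hgen g (hQT hg)

variable {K : Type*} [Field K] [IsAlgClosed K] [CharP K p]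
variable {V : Type*} [AddCommGroup V] [Module K V] [FiniteDimensional K V] [Nontrivial V]

/-- An irreducible constituent on which a coprime group acts nontrivially. -/
theorem exists_irr_constituent {Q : Type*} [Group Q] [Fintype Q] (ρ : Q →* Module.End K V)
    (hQ : (Fintype.card Q : K) ≠ 0) (hne : ∃ g, ρ g ≠ 1) :
    ∃ U : Submodule K V, ∃ hU : ∀ g, ∀ w ∈ U, ρ g w ∈ U,
      (∀ U' : Submodule K V, U' ≤ U → (∀ g, ∀ w ∈ U', ρ g w ∈ U') → U' = ⊥ ∨ U' = U) ∧ U ≠ ⊥ ∧
      ∃ g, (ρ g).restrict (hU g) ≠ 1 := by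
  classical
  set e : Module.End K V := ∑ g, ρ g with he
  have heg : ∀ g, e * ρ g = e := fun g => by
    rw [he, Finset.sum_mul]
    exact Fintype.sum_equiv (Equiv.mulRight g) _ _ fun h => by
      rw [← map_mul]; rfl
  have hge : ∀ g, ρ g * e = e := fun g => by
    rw [he, Finset.mul_sum]
    exact Fintype.sum_equiv (Equiv.mulLeft g) _ _ fun h => by
      rw [← map_mul]; rfl
  have hker : ∀ g, ∀ w ∈ LinearMap.ker e, ρ g w ∈ LinearMap.ker e := fun g w hw => by
    rw [LinearMap.mem_ker] at hw ⊢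
    rw [← Module.End.mul_apply, heg, hw]
  have hkne : LinearMap.ker e ≠ ⊥ := by
    intro h
    obtain ⟨g, hg⟩ := hne
    apply hg
    refine LinearMap.ext fun w => ?_
    apply LinearMap.ker_eq_bot.mp h
    rw [← Module.End.mul_apply, heg]; rfl
  obtain ⟨U, hUle, hUmin⟩ := exists_minimal_le_of_wellFoundedLT
    (fun W : Submodule K V => W ≠ ⊥ ∧ W ≤ LinearMap.ker e ∧ ∀ g, ∀ w ∈ W, ρ g w ∈ W)
    (LinearMap.ker e) ⟨hkne, le_rfl, hker⟩
  obtain ⟨hU0, hUe, hU⟩ := hUmin.prop
  refine ⟨U, hU, fun U' hle hinv => ?_, hU0, ?_⟩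
  · by_cases h : U' = ⊥
    · exact Or.inl h
    · exact Or.inr (le_antisymm hle (hUmin.le_of_le ⟨h, hle.trans hUe, hinv⟩ hle))
  · by_contra hno
    push Not at hno
    obtain ⟨w, hw, hw0⟩ := (Submodule.ne_bot_iff U).mp hU0
    have h1 : e w = (Fintype.card Q : K) • w := by
      rw [he, LinearMap.sum_apply, Finset.sum_congr rfl fun g _ => show ρ g w = w from
        congrArg Subtype.val (LinearMap.congr_fun (hno g) ⟨w, hw⟩), Finset.sum_const, Finset.card_univ,
        Nat.cast_smul_eq_nsmul]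
    rw [LinearMap.mem_ker.mp (hUe hw)] at h1
    rcases smul_eq_zero.mp h1.symm with h2 | h2
    exacts [hQ h2, hw0 h2]

/-- Theorem B, over an algebraically closed field. -/
theorem theorem_b (ρ : H →* Module.End K V) (hρ : Function.Injective ρ)
    (hsol : Cfsg.IsPSolvable p H) (hO : Cfsg.pCore p H = ⊥) (x : H) (n : ℕ) (hn : orderOf x = p ^ n)
    (r : ℕ) (hr : (ρ x - 1) ^ r = 0) :
    p ^ n ≤ r ∨ ∃ n₀ q m : ℕ, 1 ≤ n₀ ∧ n₀ ≤ n ∧ q.Prime ∧ 1 ≤ m ∧ p ^ n₀ - 1 = q ^ m ∧
      (∀ Q : Sylow q H, ¬ IsMulCommutative Q) ∧ p ^ (n - n₀) * (p ^ n₀ - 1) ≤ r := by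
  classical
  haveI := charP_end p V (K := K)
  rcases Nat.eq_zero_or_pos n with rfl | hn0
  · left
    rcases Nat.eq_zero_or_pos r with rfl | h
    · rw [pow_zero] at hr; exact absurd hr one_ne_zero
    · rw [pow_zero]; exact h
  obtain ⟨n', rfl⟩ : ∃ n', n = n' + 1 := ⟨n - 1, by omega⟩
  obtain ⟨q, Q, hq, hQq, hqp, hQx, hQgen, hQc, hQne⟩ := exists_minimal_moved hsol hO hn
  haveI := Fact.mk hq
  letI := Fintype.ofFinite Q
  have hQ0 : (Fintype.card Q : K) ≠ 0 := by
    obtain ⟨m, hm⟩ := hQq.exists_card_eq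
    rw [← Nat.card_eq_fintype_card, hm]
    exact nat_ne_zero_of_coprime (((Nat.coprime_primes hq hp.out).mpr hqp).pow_left _)
  let ρQ : Q →* Module.End K V := ρ.comp Q.subtype
  obtain ⟨U, hU, hUmin, hU0, g₁, hg₁⟩ := exists_irr_constituent ρQ hQ0 (by
    obtain ⟨g, hg, hg1⟩ := Q.bot_or_exists_ne_one.resolve_left hQne
    exact ⟨⟨g, hg⟩, fun e => hg1 (hρ (by rw [map_one]; exact e))⟩)
  let ρW : Q →* Module.End K U :=
    { toFun := fun g => (ρQ g).restrict (hU g)
      map_one' := LinearMap.ext fun w => Subtype.ext (by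
        show ρQ 1 (w : V) = w
        rw [map_one]; rfl)
      map_mul' := fun g h => LinearMap.ext fun w => Subtype.ext (by
        show ρQ (g * h) (w : V) = ρQ g (ρQ h (w : V))
        rw [map_mul]; rfl) }
  haveI hUnt : Nontrivial U := Submodule.nontrivial_iff_ne_bot.mpr hU0
  have hirr : IsIrr ρW := ⟨hUnt, fun U' hU' => by
    rcases hUmin (U'.map U.subtype) (Submodule.map_subtype_le _ _) (fun g w hw => by
      obtain ⟨w', hw', rfl⟩ := hw
      exact ⟨ρW g w', hU' g w' hw', rfl⟩) with h | h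
    · left; exact Submodule.map_injective_of_injective U.subtype_injective (by rw [h, Submodule.map_bot])
    · right
      exact Submodule.map_injective_of_injective U.subtype_injective
        (by rw [h, Submodule.map_top, Submodule.range_subtype])⟩
  -- conjugation by `x`
  have hQmap : Q.map (MulAut.conj x).toMonoidHom = Q := Subgroup.eq_of_le_of_card_ge
    (by rintro _ ⟨g, hg, rfl⟩; exact hQx g hg)
    (by rw [Subgroup.card_map_of_injective (MulEquiv.injective _)])
  let σ : MulAut Q := (Q.equivMapOfInjective _ (MulEquiv.injective (MulAut.conj x))).trans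
    (MulEquiv.subgroupCongr hQmap)
  have hσ : ∀ g : Q, (σ g : H) = x * g * x⁻¹ := fun g => rfl
  have hσi : ∀ (i : ℕ) (g : Q), ((σ ^ i) g : H) = x ^ i * g * (x ^ i)⁻¹ := by
    intro i
    induction i with
    | zero => intro g; simp
    | succ i ih => intro g; rw [pow_succ', MulAut.mul_apply, hσ, ih, pow_succ' x]; group
  have hσP : σ ^ p ^ (n' + 1) = 1 := MulEquiv.ext fun g => Subtype.ext (by
    rw [hσi, ← hn, pow_orderOf_eq_one]; simp)
  have hrelV : ∀ (i : ℕ) (g : Q), ρ x ^ i * ρQ g = ρQ ((σ ^ i) g) * ρ x ^ i := by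
    intro i g
    show ρ x ^ i * ρ (g : H) = ρ ((σ ^ i) g : H) * ρ x ^ i
    rw [← map_pow, hσi, ← map_mul, ← map_mul, inv_mul_cancel_right]
  -- the stabiliser of the constituent
  let Iso : ℕ → Prop := fun d => ∃ A : U →ₗ[K] U,
    Intw ρW (ρW.comp (σ ^ d).toMonoidHom) A ∧ Function.Bijective A
  have hIsoMul : ∀ d k, Iso d → Iso (d * k) := by
    rintro d k ⟨A, hA, hAb⟩
    induction k with
    | zero => exact ⟨LinearMap.id, fun g w => by simp, Function.bijective_id⟩
    | succ k ih =>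
      obtain ⟨B, hB, hBb⟩ := ih
      refine ⟨A ∘ₗ B, fun g w => ?_, hAb.comp hBb⟩
      show A (B (ρW g w)) = ρW ((σ ^ (d * (k + 1))) g) (A (B w))
      rw [hB g w]
      show A (ρW ((σ ^ (d * k)) g) (B w)) = _
      rw [hA]
      show ρW ((σ ^ d) ((σ ^ (d * k)) g)) _ = _
      rw [← MulAut.mul_apply, ← pow_add, show d + d * k = d * (k + 1) by ring]
  have hIsoMod : ∀ d e, d ≡ e [MOD p ^ (n' + 1)] → Iso d → Iso e := by
    intro d e hde hd
    have : σ ^ d = σ ^ e := pow_eq_pow_iff_modEq.mpr (hde.of_dvd (orderOf_dvd_of_pow_eq_one hσP))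
    show ∃ A : U →ₗ[K] U, Intw ρW (ρW.comp (σ ^ e).toMonoidHom) A ∧ Function.Bijective A
    rw [← this]; exact hd
  have hex : ∃ a, Iso (p ^ a) := ⟨n' + 1, LinearMap.id, fun g w => by
    show ρW g w = ρW ((σ ^ p ^ (n' + 1)) g) w
    rw [hσP]; rfl, Function.bijective_id⟩
  set a := Nat.find hex with ha
  have haIso : Iso (p ^ a) := Nat.find_spec hex
  have han : a ≤ n' + 1 := Nat.find_min' hex ⟨LinearMap.id, fun g w => by
    show ρW g w = ρW ((σ ^ p ^ (n' + 1)) g) w
    rw [hσP]; rfl, Function.bijective_id⟩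
  have hnoniso : ∀ d, ¬ p ^ a ∣ d → ¬ Iso d := by
    intro d hd hiso
    obtain ⟨k, hk⟩ := exists_mul_modEq (n := n' + 1) han hd
    have ha0 : a ≠ 0 := fun e => hd (by rw [e, pow_zero]; exact one_dvd d)
    exact Nat.find_min hex (show a - 1 < a by omega) (hIsoMod _ _ hk (hIsoMul d k hiso))
  -- translates are independent
  have hindep : ∀ (φ : U →ₗ[K] V), Intw ρW ρQ φ → Function.Injective φ → ∀ w : U, w ≠ 0 →
      ∑ i ∈ Finset.range (p ^ a), (ρ x ^ i) (φ w) ≠ 0 := by
    intro φ hφ hφi w hw h0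
    obtain ⟨ψ, hψ⟩ := Module.Projective.exists_dual_ne_zero K hw
    have h1 := congrArg (coeffOp ρW ψ w ρQ) h0
    rw [map_zero, map_sum] at h1
    have hterm : ∀ i, coeffOp ρW ψ w ρQ ((ρ x ^ i) (φ w)) = (ρ x ^ i)
        (φ (avg ρW (ρW.comp ((σ ^ i).symm.toMonoidHom)) (ψ.smulRight w) w)) := by
      intro i
      have hf : Intw (ρW.comp ((σ ^ i).symm.toMonoidHom)) ρQ ((ρ x ^ i) ∘ₗ φ) := by
        intro g v
        show (ρ x ^ i) (φ (ρW ((σ ^ i).symm g) v)) = ρQ g ((ρ x ^ i) (φ v))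
        rw [hφ, ← Module.End.mul_apply, hrelV, MulEquiv.apply_symm_apply, Module.End.mul_apply]
      exact coeffOp_apply ρW ψ w ρQ hf w
    rw [Finset.sum_congr rfl fun i _ => hterm i, Finset.sum_eq_single 0] at h1
    · rw [pow_zero, Module.End.one_apply] at h1
      obtain ⟨hN, havg⟩ := schur_avg hirr hQ0
      have h2 : avg ρW ρW (ψ.smulRight w) w = 0 := hφi (by rw [map_zero]; exact h1)
      rw [havg, LinearMap.trace_smulRight, LinearMap.smul_apply, LinearMap.id_apply,
        smul_eq_zero] at h2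
      rcases h2 with h2 | h2
      · exact mul_ne_zero (div_ne_zero hQ0 hN) hψ h2
      · exact hw h2
    · intro i hi hi0
      rw [Finset.mem_range] at hi
      have hirr' : IsIrr (ρW.comp ((σ ^ i).symm.toMonoidHom)) := ⟨hUnt, fun U' hU' =>
        hirr.2 U' fun g v hv => by
          have := hU' ((σ ^ i) g) v hv
          simpa using this⟩
      rw [avg_eq_zero hirr hirr' ?_, LinearMap.zero_apply, map_zero, map_zero]
      intro A hA hAb
      refine hnoniso i (fun h => absurd (Nat.le_of_dvd (Nat.pos_of_ne_zero hi0) h) (by omega))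
        ⟨(LinearEquiv.ofBijective A hAb).symm.toLinearMap, fun g v => ?_,
          (LinearEquiv.ofBijective A hAb).symm.bijective⟩
      show (LinearEquiv.ofBijective A hAb).symm (ρW g v) =
        ρW ((σ ^ i) g) ((LinearEquiv.ofBijective A hAb).symm v)
      rw [LinearEquiv.symm_apply_eq]
      show ρW g v = A (ρW ((σ ^ i) g) ((LinearEquiv.ofBijective A hAb).symm v))
      rw [hA]
      show ρW g v = ρW ((σ ^ i).symm ((σ ^ i) g)) (A _)
      rw [MulEquiv.symm_apply_apply]
      exact congrArg (ρW g) ((LinearEquiv.ofBijective A hAb).apply_symm_apply v).symm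
    · exact fun h => absurd (Finset.mem_range.mpr (Nat.pow_pos hp.out.pos)) h
  rcases han.lt_or_eq with halt | haeq
  swap
  · -- the constituent has a regular orbit
    left
    by_contra hlt
    push Not at hlt
    obtain ⟨w, hw⟩ := exists_ne (0 : U)
    refine hindep U.subtype (fun g v => rfl) U.subtype_injective w hw ?_
    have h1 : (ρ x - 1) ^ (p ^ a - 1) = 0 := pow_eq_zero_of_le (by rw [haeq]; omega) hr
    rw [sub_one_pow_eq_geom] at h1
    have h2 := LinearMap.congr_fun h1 (U.subtype w)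
    rwa [LinearMap.sum_apply] at h2
  -- the stabiliser acts on the constituent
  obtain ⟨A, hA, hAb⟩ := haIso
  set P' := p ^ (n' + 1 - a) with hP'
  set τ := σ ^ p ^ a with hτ
  have haP : p ^ a * P' = p ^ (n' + 1) := by rw [hP', ← pow_add, Nat.add_sub_cancel' han]
  have hP'pos : 0 < P' := Nat.pow_pos hp.out.pos
  have hτP : τ ^ P' = 1 := by rw [hτ, ← pow_mul, haP, hσP]
  have hApow : ∀ k : ℕ, ∀ g v, (A ^ k) (ρW g v) = ρW ((τ ^ k) g) ((A ^ k) v) := by
    intro k
    induction k with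
    | zero => intro g v; simp
    | succ k ih =>
      intro g v
      rw [pow_succ', Module.End.mul_apply, Module.End.mul_apply, ih, pow_succ', MulAut.mul_apply]
      exact hA _ _
  obtain ⟨c, hc⟩ := Intw.scalar (A := A ^ P') (fun g v => by rw [hApow, hτP]; rfl) hirr
  have hc0 : c ≠ 0 := by
    intro e
    obtain ⟨w, hw⟩ := exists_ne (0 : U)
    refine hw ?_
    have hinj : Function.Injective (A ^ P') := by
      rw [Module.End.coe_pow]; exact hAb.1.iterate P'
    exact hinj (by rw [map_zero, hc, e, zero_smul]; rfl)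
  obtain ⟨d, hd⟩ := IsAlgClosed.exists_pow_nat_eq (k := K) c⁻¹ hP'pos
  set u : Module.End K U := d • A with hu
  have hd0 : d ≠ 0 := fun e => by
    rw [e, zero_pow hP'pos.ne'] at hd; exact inv_ne_zero hc0 hd.symm
  have huP : u ^ P' = 1 := by
    rw [hu, smul_pow, hd, hc, smul_smul, inv_mul_cancel₀ hc0, one_smul]; rfl
  have hurel : ∀ g, u * ρW g = ρW (τ g) * u := by
    intro g
    rw [hu, smul_mul_assoc, mul_smul_comm]
    congr 1
    exact LinearMap.ext fun v => hA g v
  set v' := u ^ (P' - 1) with hv'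
  have huv : u * v' = 1 := by rw [hv', ← pow_succ', Nat.sub_add_cancel hP'pos, huP]
  have hvrel : ∀ g, v' * ρW g = ρW (τ.symm g) * v' := by
    intro g
    have hvu : v' * u = 1 := by rw [hv', ← pow_succ, Nat.sub_add_cancel hP'pos, huP]
    calc v' * ρW g = v' * (ρW (τ (τ.symm g)) * u) * v' := by
          rw [MulEquiv.apply_symm_apply, mul_assoc, mul_assoc, huv, mul_one]
      _ = _ := by rw [← hurel, ← mul_assoc, hvu, one_mul]
  -- a fixed embedding
  set G' := ρ x ^ p ^ a with hG'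
  let L : Module.End K (U →ₗ[K] V) :=
    { toFun := fun φ => G' ∘ₗ φ ∘ₗ v'
      map_add' := fun φ ψ => by rw [LinearMap.add_comp, LinearMap.comp_add]
      map_smul' := fun c φ => by rw [LinearMap.smul_comp, LinearMap.comp_smul]; rfl }
  have hLi : ∀ φ, Intw ρW ρQ φ → Intw ρW ρQ (L φ) := by
    intro φ hφ g v
    show G' (φ (v' (ρW g v))) = ρQ g (G' (φ (v' v)))
    rw [← Module.End.mul_apply v', hvrel, Module.End.mul_apply, hφ, ← Module.End.mul_apply G', hG',
      hrelV, hτ, MulEquiv.apply_symm_apply, Module.End.mul_apply]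
  haveI := charP_end p U (K := K)
  haveI hntUV : Nontrivial (U →ₗ[K] V) := ⟨U.subtype, 0, fun e => by
    obtain ⟨w, hw⟩ := exists_ne (0 : U)
    exact hw (U.subtype_injective (by rw [e]; rfl))⟩
  haveI := charP_end p (U →ₗ[K] V) (K := K)
  have hLP : (L - 1) ^ P' = 0 := by
    rw [hP', sub_one_pow_prime_pow, sub_eq_zero]
    refine LinearMap.ext fun φ => ?_
    have : ∀ k, (L ^ k) φ = (G' ^ k) ∘ₗ φ ∘ₗ (v' ^ k) := by
      intro k
      induction k with
      | zero => rfl
      | succ k ih =>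
        rw [pow_succ', Module.End.mul_apply, ih, pow_succ' G', pow_succ v']
        rfl
    rw [this, ← hP', hG', hv', ← pow_mul, ← pow_mul, haP, ← hn, ← map_pow, pow_orderOf_eq_one,
      map_one, mul_comm (P' - 1), pow_mul, huP, one_pow]
    rfl
  have hL1 : ∀ (k : ℕ) (φ : U →ₗ[K] V), Intw ρW ρQ φ → Intw ρW ρQ (((L - 1) ^ k) φ) := by
    intro k
    induction k with
    | zero => exact fun φ h => h
    | succ k ih =>
      intro φ h g v
      rw [pow_succ', Module.End.mul_apply, LinearMap.sub_apply, Module.End.one_apply,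
        LinearMap.sub_apply, LinearMap.sub_apply, map_sub, hLi _ (ih φ h) g v, ih φ h g v]
  obtain ⟨φ, hφ, hφ0, hφfix⟩ : ∃ φ, Intw ρW ρQ φ ∧ φ ≠ 0 ∧ L φ = φ := by
    set φ₀ := U.subtype
    have h0 : φ₀ ≠ 0 := fun e => by
      obtain ⟨w, hw⟩ := exists_ne (0 : U)
      exact hw (U.subtype_injective (by rw [show U.subtype = 0 from e]; rfl))
    have hexk : ∃ k : ℕ, ((L - 1) ^ k) φ₀ = 0 := ⟨P', by rw [hLP]; rfl⟩
    obtain ⟨k, hk⟩ : ∃ k, Nat.find hexk = k + 1 := by
      refine ⟨Nat.find hexk - 1, ?_⟩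
      have : Nat.find hexk ≠ 0 := fun e => h0 (by
        have := Nat.find_spec hexk
        rwa [e, pow_zero] at this)
      omega
    refine ⟨((L - 1) ^ k) φ₀, hL1 _ _ (fun g v => rfl), Nat.find_min hexk (by omega), ?_⟩
    have := Nat.find_spec hexk
    rwa [hk, pow_succ', Module.End.mul_apply, LinearMap.sub_apply, Module.End.one_apply,
      sub_eq_zero] at this
  have hφi : Function.Injective φ := hφ.injective hirr hφ0
  have hφu : ∀ v, G' (φ v) = φ (u v) := by
    intro v
    have := LinearMap.congr_fun hφfix (u v)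
    rw [← this]
    show G' (φ v) = G' (φ (v' (u v)))
    rw [← Module.End.mul_apply v', hv', ← pow_succ, Nat.sub_add_cancel hP'pos, huP]
    rfl
  have hex2 : ∃ s, (u - 1) ^ s = 0 := ⟨P', by
    rw [hP', sub_one_pow_prime_pow, ← hP', huP, sub_self]⟩
  set s := Nat.find hex2 with hsdef
  have hs : (u - 1) ^ s = 0 := Nat.find_spec hex2
  have hs1 : 1 ≤ s := by
    rcases Nat.eq_zero_or_pos s with e | e
    · rw [e, pow_zero] at hs; exact absurd hs one_ne_zero
    · exact e
  have hs' : (u - 1) ^ (s - 1) ≠ 0 := Nat.find_min hex2 (show s - 1 < s by omega)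
  -- the lower bound
  have hlow : p ^ a * s ≤ r := by
    by_contra hlt
    push Not at hlt
    obtain ⟨w, hw⟩ : ∃ w, ((u - 1) ^ (s - 1)) w ≠ 0 := by
      by_contra hc; push Not at hc; exact hs' (LinearMap.ext hc)
    refine hindep φ hφ hφi _ hw ?_
    have h1 : ((ρ x - 1) ^ (p ^ a - 1) * ((ρ x - 1) ^ p ^ a) ^ (s - 1)) = 0 := by
      rw [← pow_mul, ← pow_add]
      refine pow_eq_zero_of_le ?_ hr
      have : 0 < p ^ a := Nat.pow_pos hp.out.pos
      have : p ^ a * s = p ^ a * (s - 1) + p ^ a := by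
        conv_lhs => rw [show s = s - 1 + 1 by omega, mul_add, mul_one]
      omega
    have h2 : ∀ k : ℕ, ((ρ x ^ p ^ a - 1) ^ k) (φ w) = φ (((u - 1) ^ k) w) := by
      intro k
      induction k with
      | zero => rfl
      | succ k ih =>
        rw [pow_succ', Module.End.mul_apply, ih, pow_succ', Module.End.mul_apply, LinearMap.sub_apply,
          LinearMap.sub_apply, Module.End.one_apply, Module.End.one_apply, map_sub, ← hG', hφu]
    have h3 := LinearMap.congr_fun h1 (φ w)
    rw [Module.End.mul_apply, sub_one_pow_prime_pow, h2, sub_one_pow_eq_geom, LinearMap.sum_apply,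
      LinearMap.zero_apply] at h3
    exact h3
  -- the critical bound
  have hfree : ∀ i g, 0 < i → i < P' → (τ ^ i) g = g → ∃ c : K, ρW g = c • LinearMap.id := by
    intro i g hi hiP hfix
    refine scalar_of_comm hirr fun h => Subtype.ext (hQc g g.2 ?_ h h.2)
    have hcomm : Commute (g : H) (x ^ (p ^ a * i)) := by
      have h1 := congrArg Subtype.val hfix
      rw [hτ, ← pow_mul, hσi] at h1
      exact (mul_inv_eq_iff_eq_mul.mp h1).symm
    obtain ⟨k, hk⟩ := exists_mul_modEq (n := n' + 1) (le_refl (n' + 1))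
      (j := p ^ a * i) (fun h => by
        have := Nat.le_of_dvd (Nat.mul_pos (Nat.pow_pos hp.out.pos) hi) h
        rw [← haP] at this
        exact absurd (Nat.le_of_mul_le_mul_left this (Nat.pow_pos hp.out.pos)) (by omega))
    have hy : x ^ p ^ n' = x ^ (p ^ a * i * k) := by
      rw [pow_eq_pow_iff_modEq, hn]
      exact hk.symm
    rw [hy, pow_mul]
    exact (hcomm.pow_right k).eq
  by_cases hN1 : finrank K U = 1
  · -- degree one is impossible
    exfalso
    apply hg₁
    obtain ⟨w, hw, hspan⟩ := finrank_eq_one_iff'.mp hN1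
    obtain ⟨cu, hcu⟩ := hspan (u w)
    have hucomm : ∀ g, ρW (τ g) = ρW g := by
      intro g
      have hu1 : u = cu • (1 : Module.End K U) := LinearMap.ext fun z => by
        obtain ⟨e, rfl⟩ := hspan z
        show u (e • w) = cu • (e • w)
        rw [map_smul, ← hcu, smul_comm]
      have hcu0 : cu ≠ 0 := fun e => by
        rw [e, zero_smul] at hu1
        rw [hu1, zero_pow hP'pos.ne'] at huP
        exact zero_ne_one huP
      have h1 := hurel g
      rw [hu1, smul_mul_assoc, one_mul, mul_smul_comm, mul_one] at h1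
      exact (smul_right_injective _ hcu0 h1).symm
    have hτk : ∀ k g, ρW ((τ ^ k) g) = ρW g := by
      intro k
      induction k with
      | zero => intro g; rfl
      | succ k ih => intro g; rw [pow_succ', MulAut.mul_apply, hucomm, ih]
    obtain ⟨k, hk⟩ : ∃ k, x ^ p ^ n' = x ^ (p ^ a * k) :=
      ⟨p ^ (n' - a), by rw [← pow_add, Nat.add_sub_cancel' (by omega)]⟩
    have hker : ∀ g : Q, g ∈ ρW.ker := by
      have hle : Subgroup.closure {c | ∃ g ∈ Q, c = g⁻¹ * x ^ p ^ n' * g * (x ^ p ^ n')⁻¹} ≤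
          ρW.ker.map Q.subtype := by
        rw [Subgroup.closure_le]
        rintro _ ⟨g, hg, rfl⟩
        refine ⟨⟨g, hg⟩⁻¹ * (τ ^ k) ⟨g, hg⟩, ?_, ?_⟩
        · rw [SetLike.mem_coe, MonoidHom.mem_ker, map_mul, hτk, ← map_mul, inv_mul_cancel, map_one]
        · show g⁻¹ * ((τ ^ k) ⟨g, hg⟩ : H) = _
          rw [hτ, ← pow_mul, hσi, ← hk]
          simp only [mul_assoc]
      intro g
      obtain ⟨g', hg', e⟩ := hle (hQgen g.2)
      rwa [Subtype.ext e] at hg'
    exact MonoidHom.mem_ker.mp (hker g₁)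
  obtain ⟨hlo, htop⟩ := (bound hirr hQ0 τ u (n' + 1 - a) huP hτP hurel
    (fun i g hi hiP h => hfree i g hi hiP h) s hs hs').resolve_left hN1
  rcases Nat.lt_or_ge s P' with hsP | hsP
  swap
  · left
    calc p ^ (n' + 1) = p ^ a * P' := haP.symm
      _ ≤ p ^ a * s := Nat.mul_le_mul_left _ hsP
      _ ≤ r := hlow
  have hsP1 : s + 1 = P' := by
    change p ^ (n' + 1 - a) - 1 ≤ s at hlo
    omega
  have hNs : finrank K U = s := htop hsP1
  obtain ⟨m, hm⟩ := irr_pgroup_finrank (q := q) _ Q rfl hQq ρW hirr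
  refine Or.inr ⟨n' + 1 - a, q, m, by omega, Nat.sub_le _ _, hq, ?_, ?_, ?_, ?_⟩
  · by_contra hm0
    rw [show m = 0 by omega, pow_zero] at hm
    exact hN1 hm
  · show P' - 1 = q ^ m
    omega
  · intro S hS
    -- an abelian Sylow subgroup forces a one-dimensional constituent
    obtain ⟨S', hS'⟩ := hQq.exists_le_sylow
    obtain ⟨c, hc⟩ := MulAction.exists_smul_eq H S' S
    have hQab : ∀ g h : Q, g * h = h * g := by
      intro g h
      have hmem : ∀ z : Q, c * (z : H) * c⁻¹ ∈ (S : Subgroup H) := fun z => by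
        rw [← hc]
        exact Subgroup.smul_mem_pointwise_smul _ (MulAut.conj c) _ (hS' z.2)
      have h1 := congrArg Subtype.val (hS.is_comm.comm ⟨_, hmem g⟩ ⟨_, hmem h⟩)
      refine Subtype.ext ?_
      show (g : H) * h = h * g
      have h2 : c * ((g : H) * h) * c⁻¹ = c * ((h : H) * g) * c⁻¹ := by
        calc c * ((g : H) * h) * c⁻¹ = c * g * c⁻¹ * (c * h * c⁻¹) := by group
          _ = c * h * c⁻¹ * (c * g * c⁻¹) := h1
          _ = _ := by group
      exact mul_left_cancel (mul_right_cancel h2)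
    obtain ⟨w, hw⟩ := exists_ne (0 : U)
    have htopU : (K ∙ w) = ⊤ := (hirr.2 _ fun g z hz => by
      obtain ⟨e, he⟩ := scalar_of_comm hirr (hQab g)
      rw [he]; simpa using Submodule.smul_mem _ e hz).resolve_left (by simpa using hw)
    exact hN1 (by rw [← finrank_top K U, ← htopU, finrank_span_singleton hw])
  · rw [show n' + 1 - (n' + 1 - a) = a by omega]
    calc p ^ a * (p ^ (n' + 1 - a) - 1) = p ^ a * s := by
          change p ^ a * (P' - 1) = _
          rw [← hsP1, Nat.add_sub_cancel]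
      _ ≤ r := hlow

end CfsgLib.HallHigman
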