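import Mathlib
import Cfsg.Agent.Lib.HallHigman.Main

/-!
Counting for a `p`-group of automorphisms of an elementary abelian `2`-group, `p = 2 ^ b + 1`.
-/

set_option autoImplicit false
set_option linter.style.haveILetI false
set_option linter.unusedSectionVars false

namespace CfsgLib.HallHigman

variable {p : ℕ} [hp : Fact p.Prime]

/-- A permutation of `p`-power order whose last non-trivial power fixes nothing. -/
theorem dvd_card_of_perm {α : Type*} [Finite α] (σ : Equiv.Perm α) (n : ℕ)
    (h1 : σ ^ p ^ n = 1) (h2 : ∀ v, (σ ^ p ^ (n - 1)) v ≠ v) : p ^ n ∣ Nat.card α := by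
  rcases isEmpty_or_nonempty α with he | ⟨⟨v₀⟩⟩
  · rw [Nat.card_of_isEmpty]; exact dvd_zero _
  have hord : orderOf σ = p ^ n := by
    rcases Nat.eq_zero_or_pos n with rfl | hn
    · exact absurd (by rw [Nat.zero_sub, h1]; rfl) (h2 v₀)
    obtain ⟨m, rfl⟩ : ∃ m, n = m + 1 := ⟨n - 1, by omega⟩
    exact orderOf_eq_prime_pow (fun e => h2 v₀ (by rw [Nat.add_sub_cancel, e]; rfl)) h1
  have hfree : ∀ v : α, MulAction.stabilizer (Subgroup.zpowers σ) v = ⊥ := by
    intro v
    rw [eq_bot_iff]
    rintro ⟨g, hg⟩ hfix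
    obtain ⟨i, rfl⟩ := Submonoid.mem_powers_iff _ _ |>.mp (mem_powers_iff_mem_zpowers.mpr hg)
    have hfix' : (σ ^ i) v = v := hfix
    rw [Subgroup.mem_bot]
    refine Subtype.ext ?_
    show σ ^ i = 1
    by_contra hne
    have hi : ¬ p ^ n ∣ i := fun h => hne (orderOf_dvd_iff_pow_eq_one.mp (hord ▸ h))
    obtain ⟨k, hk⟩ := exists_mul_modEq le_rfl hi
    apply h2 v
    rw [show σ ^ p ^ (n - 1) = (σ ^ i) ^ k by
      rw [← pow_mul, pow_eq_pow_iff_modEq, hord]; exact hk.symm]
    have : ∀ m : ℕ, ((σ ^ i) ^ m) v = v := by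
      intro m
      induction m with
      | zero => rfl
      | succ m ih => rw [pow_succ, Equiv.Perm.mul_apply, hfix', ih]
    exact this k
  rw [Nat.card_congr (MulAction.selfEquivOrbitsQuotientProd hfree), Nat.card_prod, Nat.card_zpowers,
    hord]
  exact dvd_mul_left _ _

section Arith

variable {b : ℕ}

theorem two_mul_dvd_of_dvd (hb : p = 2 ^ b + 1) (hb1 : 1 ≤ b) {N : ℕ} (h : p ∣ 2 ^ N - 1) :
    2 * b ∣ N := by
  have hN : ((2 : ZMod p)) ^ N = 1 := by
    have h1 : ((2 ^ N - 1 : ℕ) : ZMod p) = 0 := (ZMod.natCast_eq_zero_iff _ _).mpr h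
    rwa [Nat.cast_sub Nat.one_le_two_pow, Nat.cast_pow, Nat.cast_one, sub_eq_zero] at h1
  have hbneg : ((2 : ZMod p)) ^ b = -1 := by
    have h1 : ((2 ^ b + 1 : ℕ) : ZMod p) = 0 := by rw [← hb]; exact ZMod.natCast_self p
    push_cast at h1
    exact eq_neg_of_add_eq_zero_left h1
  have h2b : ((2 : ZMod p)) ^ (2 * b) = 1 := by rw [mul_comm, pow_mul, hbneg, neg_one_sq]
  set o := orderOf (2 : ZMod p) with ho
  have hob : o ∣ 2 * b := orderOf_dvd_of_pow_eq_one h2b
  have hpo : p ∣ 2 ^ o - 1 := by
    rw [← ZMod.natCast_eq_zero_iff, Nat.cast_sub Nat.one_le_two_pow, Nat.cast_pow, Nat.cast_one,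
      sub_eq_zero]
    exact pow_orderOf_eq_one (2 : ZMod p)
  have ho0 : 0 < o := orderOf_pos_iff.mpr (isOfFinOrder_iff_pow_eq_one.mpr ⟨2 * b, by omega, h2b⟩)
  have hgt : b < o := by
    by_contra hle
    push Not at hle
    have h1 := Nat.le_of_dvd (by have := Nat.one_lt_two_pow ho0.ne'; omega) hpo
    have h2 : (2 : ℕ) ^ o ≤ 2 ^ b := Nat.pow_le_pow_right two_pos hle
    have h3 : 1 ≤ (2 : ℕ) ^ b := Nat.one_le_two_pow
    omega
  obtain ⟨c, hc⟩ := hob
  have hc1 : c = 1 := by
    rcases c with _ | _ | c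
    · omega
    · rfl
    · nlinarith
  rw [show 2 * b = o by rw [hc, hc1, mul_one]]
  exact orderOf_dvd_of_pow_eq_one hN

theorem dvd_of_pow_dvd (hb : p = 2 ^ b + 1) (hb1 : 1 ≤ b) {n N : ℕ} (hn : 1 ≤ n) (hN : N ≠ 0)
    (h : p ^ n ∣ 2 ^ N - 1) : p ^ (n - 1) ∣ N := by
  obtain ⟨k, rfl⟩ := two_mul_dvd_of_dvd hb hb1 (dvd_trans (dvd_pow_self p (by omega)) h)
  have hk : k ≠ 0 := fun e => hN (by rw [e, mul_zero])
  have hodd : Odd p := by
    rw [hb]; exact (Nat.even_pow.mpr ⟨even_two, by omega⟩).add_one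
  have hsq : 2 ^ (2 * b) - 1 = p * (p - 2) := by
    have h2 : 1 ≤ 2 ^ b := Nat.one_le_two_pow
    obtain ⟨d, hd⟩ : ∃ d, 2 ^ b = d + 1 := ⟨2 ^ b - 1, by omega⟩
    rw [mul_comm 2 b, pow_mul, hb, hd, show d + 1 + 1 - 2 = d by omega]
    have : (d + 1) ^ 2 = (d + 1 + 1) * d + 1 := by ring
    omega
  have hnd : ¬ p ∣ p - 2 := fun hd => by
    rcases Nat.eq_zero_or_pos (p - 2) with h0 | h0
    · have := hp.out.two_le
      have : p = 2 := by omega
      rw [this] at hodd
      exact absurd hodd (by decide)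
    · have := Nat.le_of_dvd h0 hd
      omega
  have hx : ¬ p ∣ 2 ^ (2 * b) := fun hd => by
    have := Nat.le_of_dvd two_pos (hp.out.dvd_of_dvd_pow hd)
    have : p = 2 := le_antisymm this hp.out.two_le
    rw [this] at hodd
    exact absurd hodd (by decide)
  have h1 : padicValNat p (2 ^ (2 * b * k) - 1) = 1 + padicValNat p k := by
    have h2 := padicValNat.pow_sub_pow (p := p) (x := 2 ^ (2 * b)) (y := 1) hodd
      (Nat.one_lt_two_pow (by omega)) (by rw [hsq]; exact dvd_mul_right p _) hx hk
    rw [one_pow, ← pow_mul] at h2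
    rw [h2, hsq, padicValNat.mul hp.out.ne_zero (fun e => hnd (by rw [e]; exact dvd_zero p)),
      padicValNat_self, padicValNat.eq_zero_of_not_dvd hnd, add_zero]
  have hne : 2 ^ (2 * b * k) - 1 ≠ 0 := by
    have := Nat.one_lt_two_pow hN
    omega
  have h3 : n ≤ 1 + padicValNat p k := h1 ▸ (padicValNat_dvd_iff_le hne).mp h
  exact ((padicValNat_dvd_iff_le hk).mpr (by omega : n - 1 ≤ padicValNat p k)).mul_left _

/-- The arithmetic contradiction. -/
theorem fermat_arith (hb : p = 2 ^ b + 1) (hb1 : 1 ≤ b) {n r N : ℕ} (hn : 1 ≤ n) (hr : r ≠ 0)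
    (hU : p ∣ 2 ^ r - 1) (hN : N = (p - 1) * r) (hsemi : p ^ n ∣ 2 ^ N - 1) : p ^ n ≤ N := by
  have h2r : 2 ∣ r := (dvd_mul_right 2 b).trans (two_mul_dvd_of_dvd hb hb1 hU)
  have hp3 : 3 ≤ p := by
    have := Nat.pow_le_pow_right (n := 2) two_pos hb1
    omega
  have hPr : p ^ (n - 1) ∣ r := by
    have h := dvd_of_pow_dvd hb hb1 hn (by rw [hN]; exact Nat.mul_ne_zero (by omega) hr) hsemi
    rw [hN] at h
    refine (Nat.Coprime.pow_left _ ?_).dvd_of_dvd_mul_left h
    refine hp.out.coprime_iff_not_dvd.mpr fun hd => ?_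
    have := Nat.le_of_dvd (by omega) hd
    omega
  have h2P : 2 * p ^ (n - 1) ∣ r := Nat.Coprime.mul_dvd_of_dvd_of_dvd
    (Nat.Coprime.pow_right _ ((Nat.coprime_primes Nat.prime_two hp.out).mpr (by omega))) h2r hPr
  have hle := Nat.le_of_dvd (Nat.pos_of_ne_zero hr) h2P
  have hpn : p ^ n = p * p ^ (n - 1) := by rw [← pow_succ', Nat.sub_add_cancel hn]
  rw [hpn, hN]
  calc p * p ^ (n - 1) ≤ (2 * (p - 1)) * p ^ (n - 1) := Nat.mul_le_mul_right _ (by omega)
    _ = (p - 1) * (2 * p ^ (n - 1)) := by ring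
    _ ≤ (p - 1) * r := Nat.mul_le_mul_left _ hle

end Arith

section Count

variable {A : Type*} [AddCommGroup A] [Finite A]

theorem endSum_apply {ι : Type*} (s : Finset ι) (f : ι → AddMonoid.End A) (u : A) :
    (∑ i ∈ s, f i) u = ∑ i ∈ s, f i u :=
  map_sum (AddMonoidHom.mk' (fun g : AddMonoid.End A => g u) fun _ _ => rfl) f s

/-- Two commuting-up-to-`z` elements of order `p` move at least `2 * (p - 1)` dimensions; with a
`p ^ n`-th root of `y` commuting with `z`, at least `p ^ n`. -/
theorem moved_card {b : ℕ} (hb : p = 2 ^ b + 1) (hb1 : 1 ≤ b) (h2 : ∀ v : A, v + v = 0)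
    (a : (AddMonoid.End A)ˣ) (x y z : AddMonoid.End A) (n : ℕ) (hn : 1 ≤ n)
    (hx : x ^ p ^ n = 1) (hxy : y = x ^ p ^ (n - 1)) (hz : z ^ p = 1) (hz1 : z ≠ 1)
    (hzx : Commute z x) (hza : Commute z (a : AddMonoid.End A))
    (hay : (a : AddMonoid.End A) * y = z * y * (a : AddMonoid.End A)) :
    2 ^ p ^ n ≤ Nat.card (AddMonoidHom.range (y - 1 : AddMonoid.End A)) := by
  classical
  haveI : Fact (Nat.Prime 2) := ⟨Nat.prime_two⟩
  have hy : y ^ p = 1 := by rw [hxy, ← pow_mul, ← pow_succ, Nat.sub_add_cancel hn, hx]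
  have hzy : Commute z y := hxy ▸ hzx.pow_right _
  have hodd : ∀ v : A, (p : ℕ) • v = v := fun v => by
    have : p = 2 * 2 ^ (b - 1) + 1 := by rw [← pow_succ', Nat.sub_add_cancel hb1, hb]
    rw [this, add_smul, one_smul, mul_comm, mul_smul, two_nsmul, h2, smul_zero, zero_add]
  set U : AddSubgroup A := AddMonoidHom.range (z - 1 : AddMonoid.End A) with hU
  have hUinv : ∀ f : AddMonoid.End A, Commute z f → ∀ u ∈ U, f u ∈ U := by
    rintro f hf _ ⟨v, rfl⟩
    exact ⟨f v, DFunLike.congr_fun (((hf.sub_left (Commute.one_left f)).eq) :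
      (z - 1) * f = f * (z - 1)) v⟩
  have hnorm : ∀ u ∈ U, (∑ i ∈ Finset.range p, z ^ i : AddMonoid.End A) u = 0 := by
    rintro _ ⟨v, rfl⟩
    show ((∑ i ∈ Finset.range p, z ^ i) * (z - 1) : AddMonoid.End A) v = 0
    rw [geom_sum_mul, hz, sub_self]
    rfl
  have hfpf : ∀ u ∈ U, z u = u → u = 0 := by
    intro u hu hfix
    have h := hnorm u hu
    have hk : ∀ i : ℕ, (z ^ i) u = u := by
      intro i
      induction i with
      | zero => rfl
      | succ i ih => rw [pow_succ]; show (z ^ i) (z u) = u; rw [hfix, ih]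
    rw [endSum_apply, Finset.sum_congr rfl fun i _ => hk i, Finset.sum_const,
      Finset.card_range, hodd] at h
    exact h
  -- eigenspaces of `y` relative to `z`
  let E : ℕ → AddMonoid.End A := fun j => ∑ i ∈ Finset.range p, (y * z ^ (j * (p - 1))) ^ i
  have hpi : ∀ j : ℕ, (y * z ^ j) ^ p = 1 := fun j => by
    rw [(hzy.symm.pow_right j).mul_pow, hy, one_mul, ← pow_mul, mul_comm, pow_mul, hz, one_pow]
  have hzinv : ∀ j, z ^ j * z ^ (j * (p - 1)) = 1 := fun j => by
    rw [← pow_add, show j + j * (p - 1) = p * j by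
      conv_lhs => rw [← Nat.mul_one j, mul_one j]
      rw [mul_comm p]
      obtain ⟨d, hd⟩ : ∃ d, p = d + 1 := ⟨p - 1, by have := hp.out.one_le; omega⟩
      rw [hd, Nat.add_sub_cancel]; ring, pow_mul, hz, one_pow]
  have hzU : ∀ (k : ℕ), ∀ u ∈ U, (z ^ k) u ∈ U := fun k =>
    hUinv _ ((Commute.refl z).pow_right k)
  have haU : ∀ (k : ℕ), ∀ u ∈ U, ((a : AddMonoid.End A) ^ k) u ∈ U := fun k =>
    hUinv _ (hza.pow_right k)
  have hEU : ∀ j, ∀ u ∈ U, E j u ∈ U := fun j =>
    hUinv _ (Commute.sum_right _ _ _ fun i _ => (hzy.mul_right ((Commute.refl z).pow_right _)).pow_right i)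
  have hEeig : ∀ j, ∀ u, y (E j u) = (z ^ j) (E j u) := by
    intro j u
    have h1 : (y * z ^ (j * (p - 1)) - 1) * E j = 0 := by rw [mul_geom_sum, hpi, sub_self]
    have h3 : y * z ^ (j * (p - 1)) * E j = E j := by rwa [sub_mul, one_mul, sub_eq_zero] at h1
    have h4 : y * E j = z ^ j * E j := by
      calc y * E j = z ^ j * z ^ (j * (p - 1)) * (y * E j) := by rw [hzinv, one_mul]
        _ = z ^ j * ((z ^ (j * (p - 1)) * y) * E j) := by noncomm_ring
        _ = z ^ j * E j := by rw [(hzy.pow_left _).eq, h3]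
    exact DFunLike.congr_fun h4 u
  have hEsum : ∀ u ∈ U, ∑ j ∈ Finset.range p, E j u = u := by
    intro u hu
    simp only [E, endSum_apply]
    rw [Finset.sum_comm, Finset.sum_eq_single 0]
    · simp only [pow_zero]
      show ∑ _x ∈ Finset.range p, u = u
      rw [Finset.sum_const, Finset.card_range, hodd]
    · intro i hi hi0
      have hin : i < p := Finset.mem_range.mp hi
      have hw : (z ^ ((p - 1) * i)) ≠ 1 := fun e => by
        have h1 := orderOf_dvd_of_pow_eq_one e
        rw [orderOf_eq_prime hz hz1] at h1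
        rcases hp.out.dvd_mul.mp h1 with h | h
        · have := Nat.le_of_dvd (by have := hp.out.two_le; omega) h
          omega
        · exact absurd (Nat.le_of_dvd (Nat.pos_of_ne_zero hi0) h) (by omega)
      have hexp : ∀ j, (y * z ^ (j * (p - 1))) ^ i = y ^ i * (z ^ ((p - 1) * i)) ^ j := fun j => by
        rw [(hzy.symm.pow_right _).mul_pow, ← pow_mul, ← pow_mul]
        congr 2
        ring
      simp only [hexp]
      show ∑ j ∈ Finset.range p, (y ^ i) (((z ^ ((p - 1) * i)) ^ j) u) = 0
      rw [← map_sum, ← endSum_apply]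
      suffices h : (∑ j ∈ Finset.range p, (z ^ ((p - 1) * i)) ^ j : AddMonoid.End A) u = 0 by
        rw [h, map_zero]
      set w := z ^ ((p - 1) * i) with hwdef
      set s := (∑ j ∈ Finset.range p, w ^ j : AddMonoid.End A) u with hs
      have hsU : s ∈ U := hUinv _ (Commute.sum_right _ _ _ fun j _ =>
        ((Commute.refl z).pow_right _).pow_right j) u hu
      have hws : w s = s := by
        have h1 : (w - 1) * (∑ j ∈ Finset.range p, w ^ j) = 0 := by
          rw [mul_geom_sum, hwdef, ← pow_mul, mul_comm, pow_mul, hz, one_pow, sub_self]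
        exact DFunLike.congr_fun (sub_eq_zero.mp (by rwa [sub_mul, one_mul] at h1)) u
      -- a fixed point of a non-trivial power of `z` is fixed by `z`
      obtain ⟨k, hk⟩ := exists_mul_modEq (p := p) (a := 1) (n := 1) (j := (p - 1) * i) le_rfl
        (by rw [pow_one]; exact fun h => hw (by
          obtain ⟨c, hc⟩ := h; rw [hwdef, hc, pow_mul, hz, one_pow]))
      refine hfpf s hsU ?_
      have hzk : z = w ^ k := by
        rw [hwdef, ← pow_mul]
        conv_lhs => rw [← pow_one z]
        rw [pow_eq_pow_mod _ hz, pow_eq_pow_mod ((p - 1) * i * k) hz]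
        have hk' : (p - 1) * i * k % p = 1 % p := by simpa [Nat.ModEq] using hk
        rw [hk']
      rw [hzk]
      have : ∀ m : ℕ, (w ^ m) s = s := by
        intro m
        induction m with
        | zero => rfl
        | succ m ih => rw [pow_succ]; show (w ^ m) (w s) = s; rw [hws, ih]
      exact this k
    · intro h; exact absurd (Finset.mem_range.mpr hp.out.pos) h
  set U0 : AddSubgroup A := U ⊓ AddMonoidHom.ker (y - 1 : AddMonoid.End A) with hU0
  have hmem0 : ∀ u, u ∈ U0 ↔ u ∈ U ∧ y u = u := fun u => by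
    show u ∈ U ∧ y u - u = 0 ↔ _
    exact and_congr_right fun _ => sub_eq_zero
  have hshift : ∀ (k : ℕ) (u : A), y u = (z ^ k) u → ∀ m, m ≤ k →
      y (((a : AddMonoid.End A) ^ m) u) = (z ^ (k - m)) (((a : AddMonoid.End A) ^ m) u) := by
    intro k u hu m
    induction m with
    | zero => intro _; simpa using hu
    | succ m ih =>
      intro hm
      have h1 := ih (by omega)
      rw [pow_succ']
      show y ((a : AddMonoid.End A) (((a : AddMonoid.End A) ^ m) u)) = _
      set v := ((a : AddMonoid.End A) ^ m) u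
      have h3 : (a : AddMonoid.End A) (y v) = z (y ((a : AddMonoid.End A) v)) := DFunLike.congr_fun hay v
      rw [h1, show k - m = k - (m + 1) + 1 by omega] at h3
      have h4 : (a : AddMonoid.End A) ((z ^ (k - (m + 1) + 1)) v) =
          (z ^ (k - (m + 1) + 1)) ((a : AddMonoid.End A) v) :=
        (DFunLike.congr_fun (hza.pow_left (k - (m + 1) + 1)).eq v).symm
      rw [h4, pow_succ'] at h3
      have hzinj : Function.Injective z := fun c d h => by
        have : (z ^ p) c = (z ^ p) d := by
          rw [show p = p - 1 + 1 by have := hp.out.one_le; omega, pow_succ]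
          exact congrArg (z ^ (p - 1) : AddMonoid.End A) h
        rwa [hz] at this
      exact (hzinj h3).symm
  have hainj : ∀ k : ℕ, Function.Injective ((a : AddMonoid.End A) ^ k) := fun k c d h => by
    have := congrArg (((a⁻¹ ^ k : (AddMonoid.End A)ˣ) : AddMonoid.End A)) h
    rw [← Units.val_pow_eq_pow_val] at this
    have e : (((a⁻¹ ^ k : (AddMonoid.End A)ˣ) : AddMonoid.End A)) * ((a ^ k : (AddMonoid.End A)ˣ)) = 1 := by
      rw [← Units.val_mul, inv_pow, inv_mul_cancel, Units.val_one]
    exact (DFunLike.congr_fun e c).symm.trans (this.trans (DFunLike.congr_fun e d))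
  have hcardU : Nat.card U = Nat.card U0 ^ p := by
    have hPhi : ∀ (u : U) (j : Fin p), ((a : AddMonoid.End A) ^ (j : ℕ)) (E j u) ∈ U0 := fun u j =>
      (hmem0 _).mpr ⟨haU _ _ (hEU _ _ u.2), by
        rw [hshift j _ (hEeig j u) j le_rfl, Nat.sub_self, pow_zero]; rfl⟩
    let Φ : U → (Fin p → U0) := fun u j => ⟨_, hPhi u j⟩
    have hinj : Function.Injective Φ := fun u u' h => by
      refine Subtype.ext ?_
      rw [← hEsum u u.2, ← hEsum u' u'.2]
      refine Finset.sum_congr rfl fun j hj => ?_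
      exact hainj j (congrArg Subtype.val (congrFun h ⟨j, Finset.mem_range.mp hj⟩))
    have hle := Nat.card_le_card_of_injective Φ hinj
    rw [Nat.card_fun, Nat.card_fin] at hle
    refine le_antisymm hle ?_
    -- the other direction, by spreading the fixed points
    let ai : AddMonoid.End A := ((a⁻¹ : (AddMonoid.End A)ˣ) : AddMonoid.End A)
    have hzai : Commute z ai := hza.units_inv_right
    have hPsi : ∀ (v : Fin p → U0), ∑ j : Fin p, (ai ^ (j : ℕ)) (v j) ∈ U := fun v =>
      U.sum_mem fun j _ => hUinv _ (hzai.pow_right _) _ ((hmem0 _).mp (v j).2).1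
    let Ψ : (Fin p → U0) → U := fun v => ⟨_, hPsi v⟩
    have haiy : ai * y = z ^ (p - 1) * y * ai := by
      have h1 : (a : AddMonoid.End A) * (z ^ (p - 1) * y * ai) = y := by
        rw [← mul_assoc, ← mul_assoc, (hza.pow_left _).symm.eq, mul_assoc (z ^ (p - 1)), hay,
          ← mul_assoc, ← mul_assoc, ← pow_succ, Nat.sub_add_cancel hp.out.one_le, hz, one_mul,
          mul_assoc]
        exact (congrArg (y * ·) (Units.mul_inv a)).trans (mul_one y)
      calc ai * y = ai * ((a : AddMonoid.End A) * (z ^ (p - 1) * y * ai)) := by rw [h1]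
        _ = _ := by rw [← mul_assoc ai, show ai * (a : AddMonoid.End A) = 1 from Units.inv_mul a, one_mul]
    have heig : ∀ (m : ℕ) (v : A), y v = v → y ((ai ^ m) v) = (z ^ m) ((ai ^ m) v) := by
      intro m v hv
      induction m with
      | zero => exact hv
      | succ m ih =>
        rw [pow_succ']
        show y (ai ((ai ^ m) v)) = (z ^ (m + 1)) (ai ((ai ^ m) v))
        set c := (ai ^ m) v
        have h5 : ai (y c) = (z ^ (p - 1)) (y (ai c)) := DFunLike.congr_fun haiy c
        rw [ih] at h5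
        have h6 : ai ((z ^ m) c) = (z ^ m) (ai c) := (DFunLike.congr_fun (hzai.pow_left m).eq c).symm
        rw [h6] at h5
        calc y (ai c) = (z ^ p) (y (ai c)) := by rw [hz]; rfl
          _ = (z * z ^ (p - 1)) (y (ai c)) := by rw [← pow_succ', Nat.sub_add_cancel hp.out.one_le]
          _ = z ((z ^ m) (ai c)) := congrArg z h5.symm
          _ = _ := by rw [pow_succ']; rfl
    have hinj' : Function.Injective Ψ := by
      intro v v' h
      have hd : ∑ j : Fin p, (ai ^ (j : ℕ)) ((v j : A) - v' j) = 0 := by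
        simp only [map_sub, Finset.sum_sub_distrib]
        exact sub_eq_zero.mpr (congrArg Subtype.val h)
      funext j
      refine Subtype.ext (sub_eq_zero.mp ?_)
      have hk : ∀ k : Fin p, E j ((ai ^ (k : ℕ)) ((v k : A) - v' k)) =
          if k = j then (ai ^ (k : ℕ)) ((v k : A) - v' k) else 0 := by
        intro k
        set c := (ai ^ (k : ℕ)) ((v k : A) - v' k) with hc
        have hvU : ((v k : A) - v' k) ∈ U0 := U0.sub_mem (v k).2 (v' k).2
        have hcU : c ∈ U := hUinv _ (hzai.pow_right _) _ ((hmem0 _).mp hvU).1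
        have hce : y c = (z ^ (k : ℕ)) c := heig k _ ((hmem0 _).mp hvU).2
        set w := z ^ ((k : ℕ) + (j : ℕ) * (p - 1)) with hw
        have hEc : E j c = (∑ i ∈ Finset.range p, w ^ i : AddMonoid.End A) c := by
          simp only [E, endSum_apply]
          refine Finset.sum_congr rfl fun i hi => ?_
          clear hi
          induction i with
          | zero => rfl
          | succ i ih =>
            rw [pow_succ' (y * _), pow_succ' w]
            show y ((z ^ ((j : ℕ) * (p - 1))) (((y * z ^ ((j : ℕ) * (p - 1))) ^ i) c)) = w ((w ^ i) c)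
            rw [ih]
            show (y * z ^ ((j : ℕ) * (p - 1))) ((w ^ i) c) = _
            have hcomm : Commute (y * z ^ ((j : ℕ) * (p - 1))) (w ^ i) :=
              ((hzy.symm.pow_right _).mul_left (((Commute.refl z).pow_pow _ _))).pow_right i
            rw [show (y * z ^ ((j : ℕ) * (p - 1))) ((w ^ i) c) = (w ^ i) ((y * z ^ ((j : ℕ) * (p - 1))) c)
              from DFunLike.congr_fun hcomm.eq c]
            rw [show (y * z ^ ((j : ℕ) * (p - 1))) c = (z ^ ((j : ℕ) * (p - 1))) (y c) from
              DFunLike.congr_fun (hzy.symm.pow_right _).eq c, hce]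
            have hw' : z ^ ((j : ℕ) * (p - 1)) * z ^ (k : ℕ) = w := by rw [hw, ← pow_add, add_comm]
            exact (congrArg (w ^ i) (DFunLike.congr_fun hw' c)).trans
              (DFunLike.congr_fun ((Commute.refl w).pow_left i).eq c)
        split_ifs with hkj
        · rw [hEc, show w = 1 from ?_]
          · simp only [one_pow, Finset.sum_const, Finset.card_range]
            show (p • (1 : AddMonoid.End A)) c = c
            exact hodd c
          · rw [hw, hkj]
            exact (pow_add z _ _).trans (hzinv j)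
        · rw [hEc]
          refine hfpf _ (hUinv _ (Commute.sum_right _ _ _ fun i _ =>
            ((Commute.refl z).pow_right _).pow_right i) c hcU) ?_
          obtain ⟨l, hl⟩ := exists_mul_modEq (p := p) (a := 1) (n := 1)
            (j := (k : ℕ) + (j : ℕ) * (p - 1)) le_rfl (by
              rw [pow_one]
              intro hdvd
              apply hkj
              have h7 : ((k : ℕ) : ZMod p) = ((j : ℕ) : ZMod p) := by
                have h8 := (ZMod.natCast_eq_zero_iff _ _).mpr hdvd
                push_cast [Nat.cast_sub hp.out.one_le] at h8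
                rw [ZMod.natCast_self, zero_sub, mul_neg, mul_one, ← sub_eq_add_neg] at h8
                exact sub_eq_zero.mp h8
              rw [ZMod.natCast_eq_natCast_iff, Nat.ModEq, Nat.mod_eq_of_lt k.2, Nat.mod_eq_of_lt j.2] at h7
              exact Fin.ext h7)
          set S := (∑ i ∈ Finset.range p, w ^ i : AddMonoid.End A)
          have hwS : w * S = S := by
            have h1 : (w - 1) * S = 0 := by
              rw [mul_geom_sum, hw, ← pow_mul, mul_comm, pow_mul, hz, one_pow, sub_self]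
            rwa [sub_mul, one_mul, sub_eq_zero] at h1
          have hzk : z = w ^ l := by
            rw [hw, ← pow_mul]
            conv_lhs => rw [← pow_one z]
            rw [pow_eq_pow_mod _ hz, pow_eq_pow_mod (((k : ℕ) + (j : ℕ) * (p - 1)) * l) hz]
            have hl' : ((k : ℕ) + (j : ℕ) * (p - 1)) * l % p = 1 % p := by simpa [Nat.ModEq] using hl
            rw [hl']
          have : ∀ m : ℕ, w ^ m * S = S := by
            intro m
            induction m with
            | zero => rw [pow_zero, one_mul]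
            | succ m ih => rw [pow_succ, mul_assoc, hwS, ih]
          rw [hzk]
          exact DFunLike.congr_fun (this l) c
      have h9 := congrArg (E j) hd
      rw [map_sum, map_zero, Finset.sum_congr rfl fun k _ => hk k, Finset.sum_ite_eq' Finset.univ j,
        if_pos (Finset.mem_univ j)] at h9
      have h10 := congrArg (((a : AddMonoid.End A) ^ (j : ℕ))) h9
      rw [map_zero] at h10
      change ((a : AddMonoid.End A) ^ (j : ℕ) * ai ^ (j : ℕ)) _ = 0 at h10
      rwa [show (a : AddMonoid.End A) ^ (j : ℕ) * ai ^ (j : ℕ) = 1 by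
        rw [← Units.val_pow_eq_pow_val, ← Units.val_pow_eq_pow_val, ← Units.val_mul, inv_pow,
          mul_inv_cancel, Units.val_one]] at h10
    have := Nat.card_le_card_of_injective Ψ hinj'
    rwa [Nat.card_fun, Nat.card_fin] at this
  -- the moved part
  let g : U →+ A := (y - 1 : AddMonoid.End A).comp U.subtype
  set R := g.range with hR
  have hker : Nat.card g.ker = Nat.card U0 := Nat.card_congr
    { toFun := fun v => ⟨v.1.1, v.1.2, v.2⟩
      invFun := fun v => ⟨⟨v.1, v.2.1⟩, v.2.2⟩
      left_inv := fun _ => rfl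
      right_inv := fun _ => rfl }
  have hcardR : Nat.card R = Nat.card U0 ^ (p - 1) := by
    have h1 := g.ker.card_mul_index
    rw [AddSubgroup.index_ker, ← hR, hker, hcardU] at h1
    have hpos : 0 < Nat.card U0 := Nat.card_pos
    have h2 : Nat.card U0 ^ p = Nat.card U0 * Nat.card U0 ^ (p - 1) := by
      rw [← pow_succ', Nat.sub_add_cancel hp.out.one_le]
    rw [h2] at h1
    exact Nat.eq_of_mul_eq_mul_left hpos h1
  obtain ⟨r, hr⟩ : ∃ r, Nat.card U0 = 2 ^ r := by
    have hP : IsPGroup 2 (Multiplicative U0) := fun v => ⟨1, by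
      apply Multiplicative.toAdd.injective
      rw [toAdd_pow, toAdd_one, pow_one, two_nsmul]
      exact Subtype.ext (h2 _)⟩
    obtain ⟨r, hr⟩ := IsPGroup.iff_card.mp hP
    exact ⟨r, (Nat.card_congr Multiplicative.ofAdd).trans hr⟩
  have hr0 : r ≠ 0 := by
    rintro rfl
    rw [pow_zero] at hr
    apply hz1
    have hUbot : Nat.card U = 1 := by rw [hcardU, hr, one_pow]
    refine AddMonoidHom.ext fun v => ?_
    have hv : (z - 1 : AddMonoid.End A) v ∈ U := ⟨v, rfl⟩
    rw [AddSubgroup.card_eq_one.mp hUbot, AddSubgroup.mem_bot] at hv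
    exact sub_eq_zero.mp hv
  have hpU : p ∣ 2 ^ r - 1 := by
    rw [← hr]
    let zU : {v : U0 // v ≠ 0} → {v : U0 // v ≠ 0} := fun v => ⟨⟨z v.1, (hmem0 _).mpr ⟨
      hUinv z (Commute.refl z) _ ((hmem0 _).mp v.1.2).1, by
        rw [show y (z (v.1 : A)) = z (y v.1) from (DFunLike.congr_fun hzy.eq (v.1 : A)).symm,
          ((hmem0 _).mp v.1.2).2]⟩⟩, fun e => v.2 (Subtype.ext (hfpf _ ((hmem0 _).mp v.1.2).1 (by
            have e' : z (v.1 : A) = 0 := congrArg Subtype.val e
            have : (z ^ p) (v.1 : A) = 0 := by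
              rw [show p = p - 1 + 1 by have := hp.out.one_le; omega, pow_succ]
              show (z ^ (p - 1)) (z (v.1 : A)) = 0
              rw [e', map_zero]
            rw [hz] at this
            rw [e']; exact this.symm)))⟩
    have hval : ∀ (k : ℕ) (v), (((zU^[k]) v).1 : A) = (z ^ k) (v.1 : A) := by
      intro k v
      induction k with
      | zero => rfl
      | succ k ih => rw [Function.iterate_succ_apply', pow_succ']; exact congrArg z ih
    have hzp : ∀ v, zU^[p] v = v := fun v => Subtype.ext (Subtype.ext (by rw [hval, hz]; rfl))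
    let σ : Equiv.Perm {v : U0 // v ≠ 0} :=
      ⟨zU, zU^[p - 1], fun v => by
        rw [← Function.iterate_succ_apply, show (p - 1).succ = p by have := hp.out.one_le; omega, hzp],
        fun v => by
        rw [← Function.iterate_succ_apply' zU, show (p - 1).succ = p by have := hp.out.one_le; omega,
          hzp]⟩
    have hσ : ∀ k : ℕ, ⇑(σ ^ k) = zU^[k] := fun k => Equiv.Perm.coe_pow σ k
    have h := dvd_card_of_perm (p := p) σ 1 (Equiv.ext fun v => by rw [pow_one, hσ, hzp]; rfl)
      fun v hv => by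
        rw [Nat.sub_self, pow_zero, hσ] at hv
        refine v.2 (Subtype.ext (hfpf _ ((hmem0 _).mp v.1.2).1 ?_))
        exact congrArg (fun w : {v : U0 // v ≠ 0} => (w.1 : A)) hv
    rw [pow_one] at h
    convert h using 1
    haveI := Fintype.ofFinite U0
    simp [Nat.card_eq_fintype_card, Fintype.card_subtype_compl]
  have hsemi : p ^ n ∣ 2 ^ ((p - 1) * r) - 1 := by
    rw [mul_comm, pow_mul, ← hr, ← hcardR]
    have hxR : ∀ v ∈ R, x v ∈ R := by
      rintro _ ⟨u, rfl⟩
      refine ⟨⟨x u, hUinv x hzx _ u.2⟩, ?_⟩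
      have : Commute x (y - 1) := ((hxy ▸ Commute.self_pow x _ : Commute x y)).sub_right (Commute.one_right x)
      exact DFunLike.congr_fun this.eq.symm (u : A)
    have hfix : ∀ v ∈ R, y v = v → v = 0 := by
      rintro _ ⟨u, rfl⟩ hv
      set v := g u with hvdef
      have hk : ∀ i : ℕ, (y ^ i) (u : A) = (u : A) + i • v := by
        intro i
        induction i with
        | zero => simp
        | succ i ih =>
          have : y v = v := hv
          rw [pow_succ']
          show y ((y ^ i) (u : A)) = _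
          rw [ih, map_add, map_nsmul, this, succ_nsmul', ← add_assoc]
          congr 1
          show y (u : A) = (u : A) + (y (u : A) - (u : A))
          abel
      have := hk p
      rw [hy, hodd] at this
      exact add_left_cancel (this.symm.trans (add_zero (u : A)).symm)
    let xR : {v : R // v ≠ 0} → {v : R // v ≠ 0} := fun v => ⟨⟨x v.1, hxR _ v.1.2⟩, fun e => v.2 (by
      have e' : x (v.1 : A) = 0 := congrArg Subtype.val e
      have : (x ^ p ^ n) (v.1 : A) = 0 := by
        rw [show p ^ n = p ^ n - 1 + 1 by have := Nat.one_le_pow n p hp.out.pos; omega, pow_succ]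
        show (x ^ (p ^ n - 1)) (x (v.1 : A)) = 0
        rw [e', map_zero]
      rw [hx] at this
      exact Subtype.ext this)⟩
    have hval : ∀ (k : ℕ) (v), (((xR^[k]) v).1 : A) = (x ^ k) (v.1 : A) := by
      intro k v
      induction k with
      | zero => rfl
      | succ k ih => rw [Function.iterate_succ_apply', pow_succ']; exact congrArg x ih
    have hxp : ∀ v, xR^[p ^ n] v = v := fun v => Subtype.ext (Subtype.ext (by rw [hval, hx]; rfl))
    have hpn1 : (p ^ n - 1).succ = p ^ n := by have := Nat.one_le_pow n p hp.out.pos; omega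
    let σ : Equiv.Perm {v : R // v ≠ 0} :=
      ⟨xR, xR^[p ^ n - 1], fun v => by rw [← Function.iterate_succ_apply, hpn1, hxp],
        fun v => by rw [← Function.iterate_succ_apply' xR, hpn1, hxp]⟩
    have hσ : ∀ k : ℕ, ⇑(σ ^ k) = xR^[k] := fun k => Equiv.Perm.coe_pow σ k
    have h := dvd_card_of_perm (p := p) σ n (Equiv.ext fun v => by rw [hσ, hxp]; rfl)
      fun v hv => by
        rw [hσ] at hv
        refine v.2 (Subtype.ext (hfix _ v.1.2 ?_))
        rw [hxy, ← hval]
        exact congrArg (fun w : {v : R // v ≠ 0} => (w.1 : A)) hv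
    convert h using 1
    haveI := Fintype.ofFinite R
    simp [Nat.card_eq_fintype_card, Fintype.card_subtype_compl]
  have hfinal := fermat_arith hb hb1 hn hr0 hpU rfl hsemi
  calc 2 ^ p ^ n ≤ 2 ^ ((p - 1) * r) := Nat.pow_le_pow_right two_pos hfinal
    _ = Nat.card R := by rw [hcardR, hr, ← pow_mul, mul_comm]
    _ ≤ _ := Nat.le_of_dvd Nat.card_pos (AddSubgroup.card_dvd_of_le (by
        rintro _ ⟨u, rfl⟩; exact ⟨(u : A), rfl⟩))

end Count

end CfsgLib.HallHigman
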