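import Mathlib

/-!
A common isotropic vector of a few bilinear forms over `ZMod 2` (Chevalley–Warning).
-/

set_option autoImplicit false
set_option linter.style.haveILetI false
set_option linter.unusedSectionVars false

namespace CfsgLib.HallHigman

theorem exists_isotropic {M : Type*} [CommGroup M] [Finite M] (hM : ∀ v : M, v * v = 1) (k : ℕ)
    (B : Fin k → M → M → ZMod 2) (hl : ∀ i u v w, B i (u * v) w = B i u w + B i v w)
    (hr : ∀ i u v w, B i u (v * w) = B i u v + B i u w) (hcard : 2 ^ (2 * k) < Nat.card M) :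
    ∃ u : M, u ≠ 1 ∧ ∀ i, B i u u = 0 := by
  classical
  haveI : Fact (Nat.Prime 2) := ⟨Nat.prime_two⟩
  letI : Module (ZMod 2) (Additive M) :=
    AddCommGroup.zmodModule (n := 2) (G := Additive M) fun v => by
      rw [two_nsmul]; exact hM (Additive.toMul v)
  haveI : Finite (Additive M) := inferInstanceAs (Finite M)
  haveI : FiniteDimensional (ZMod 2) (Additive M) := Module.Finite.of_finite
  set d := Module.finrank (ZMod 2) (Additive M) with hd
  set e := Module.finBasis (ZMod 2) (Additive M) with he
  have hMd : Nat.card M = 2 ^ d := by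
    have := Module.natCard_eq_pow_finrank (K := ZMod 2) (V := Additive M)
    rw [Nat.card_zmod] at this
    exact (Nat.card_congr Additive.ofMul).trans this
  let β : Fin k → Additive M →ₗ[ZMod 2] Additive M →ₗ[ZMod 2] ZMod 2 := fun i =>
    AddMonoidHom.toZModLinearMap 2
      (AddMonoidHom.mk' (fun u => AddMonoidHom.toZModLinearMap 2
        (AddMonoidHom.mk' (fun v => B i (Additive.toMul u) (Additive.toMul v))
          fun v w => hr i _ _ _)) fun u v => LinearMap.ext fun w => hl i _ _ _)
  let f : Fin k → MvPolynomial (Fin d) (ZMod 2) := fun i =>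
    ∑ j, ∑ l, MvPolynomial.C (β i (e j) (e l)) * MvPolynomial.X j * MvPolynomial.X l
  have hdeg : ∀ i, (f i).totalDegree ≤ 2 := fun i => by
    refine MvPolynomial.totalDegree_finsetSum_le fun j _ =>
      MvPolynomial.totalDegree_finsetSum_le fun l _ => ?_
    refine (MvPolynomial.totalDegree_mul _ _).trans ?_
    have h1 := MvPolynomial.totalDegree_mul (MvPolynomial.C (β i (e j) (e l))) (MvPolynomial.X j)
    rw [MvPolynomial.totalDegree_C, MvPolynomial.totalDegree_X] at h1
    rw [MvPolynomial.totalDegree_X]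
    omega
  have hsum : (∑ i, (f i).totalDegree) < Fintype.card (Fin d) := by
    refine lt_of_le_of_lt (Finset.sum_le_sum fun i _ => hdeg i) ?_
    rw [Finset.sum_const, Finset.card_univ, Fintype.card_fin, Fintype.card_fin, smul_eq_mul, mul_comm]
    rw [hMd] at hcard
    exact (Nat.pow_lt_pow_iff_right (by norm_num)).mp hcard
  have h := char_dvd_card_solutions_of_fintype_sum_lt 2 hsum
  have heval : ∀ (c : Fin d → ZMod 2) i, MvPolynomial.eval c (f i) =
      β i (∑ j, c j • e j) (∑ l, c l • e l) := fun c i => by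
    simp only [f, map_sum, MvPolynomial.eval_mul, MvPolynomial.eval_C, MvPolynomial.eval_X,
      LinearMap.sum_apply, map_smul, LinearMap.smul_apply, smul_eq_mul, Finset.mul_sum]
    rw [Finset.sum_comm]
    exact Finset.sum_congr rfl fun l _ => Finset.sum_congr rfl fun j _ => by ring
  have h0 : ∀ i, MvPolynomial.eval (0 : Fin d → ZMod 2) (f i) = 0 := fun i => by
    rw [heval]; simp
  let Sol := {c : Fin d → ZMod 2 // ∀ i, MvPolynomial.eval c (f i) = 0}
  have h' : 2 ∣ Nat.card Sol := by rw [Nat.card_eq_fintype_card]; convert h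
  haveI : Nonempty Sol := ⟨⟨0, h0⟩⟩
  haveI : Nontrivial Sol := Finite.one_lt_card_iff_nontrivial.mp (by
    have := Nat.le_of_dvd Nat.card_pos h'
    omega)
  obtain ⟨⟨c, hc⟩, hne⟩ := exists_ne (⟨0, h0⟩ : Sol)
  refine ⟨Additive.toMul (∑ j, c j • e j), fun h1 => hne (Subtype.ext ?_), fun i => ?_⟩
  · have h2 : (∑ j, c j • e j) = 0 := Additive.toMul.injective h1
    funext j
    exact (Fintype.linearIndependent_iff.mp e.linearIndependent c h2 j)
  · have h3 := hc i
    rw [heval] at h3
    exact h3

end CfsgLib.HallHigman
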