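import Cfsg.Agent.Lib.HallHigman.Layer
import Cfsg.Agent.Lib.HallHigman.FermatAbelian
import Cfsg.Agent.Lib.HallHigman.Isotropic

/-!
In a `p`-solvable linear group all whose `p`-elements `x` satisfy `(x - 1) ^ (p ^ e - 1) = 0`, the
powers `x ^ p ^ (e - 1)` of the elements of a `p`-subgroup commute, `p` a Fermat prime.
-/

set_option autoImplicit false
set_option linter.style.haveILetI false
set_option linter.unusedSectionVars false
set_option maxHeartbeats 1200000

open scoped commutatorElement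

namespace CfsgLib.HallHigman

variable {p : ℕ} [hp : Fact p.Prime] {F : Type*} [Field F] [CharP F p] {V : Type*} [AddCommGroup V]
  [Module F V] [FiniteDimensional F V]

/-- Theorem B forbids a moved `q`-group with `q` odd or abelian action. -/
theorem commutes_of_deg {S : Type*} [Group S] [Finite S] (ρ : S →* Module.End F V)
    (hsol : Cfsg.IsPSolvable p S) (hp2 : p ≠ 2) {q : ℕ} [hq : Fact q.Prime] (hqp : q ≠ p) {Q : Subgroup S}
    (hQ : IsPGroup q Q) {x : S} (hxQ : ∀ g ∈ Q, x * g * x⁻¹ ∈ Q) {n : ℕ} (hn : 1 ≤ n)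
    (hr : (ρ x - 1) ^ (p ^ n - 1) = 0)
    (hQ2 : q ≠ 2 ∨ ∀ g ∈ Q, ∀ h ∈ Q, ρ g * ρ h = ρ h * ρ g) :
    ∀ g ∈ Q, ρ (x ^ p ^ (n - 1)) * ρ g = ρ g * ρ (x ^ p ^ (n - 1)) := by
  classical
  rcases subsingleton_or_nontrivial V with hV | hV
  · exact fun g _ => LinearMap.ext fun v => Subsingleton.elim _ _
  by_contra hne
  haveI := charP_end p V (K := F)
  have hxn : ρ x ^ p ^ n = 1 := by
    have h1 : (ρ x - 1) ^ p ^ n = 0 := pow_eq_zero_of_le (Nat.sub_le _ _) hr
    rwa [sub_one_pow_prime_pow, sub_eq_zero] at h1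
  set K := Q ⊔ Subgroup.zpowers x with hK
  have hQK : Q ≤ K := le_sup_left
  have hxK : x ∈ K := Subgroup.mem_sup_right (Subgroup.mem_zpowers x)
  have hxN : x ∈ Subgroup.normalizer (Q : Set S) :=
    Subgroup.mem_normalizer_iff_map_conj_eq.mpr (Subgroup.eq_of_le_of_card_ge
      (by rintro _ ⟨g, hg, rfl⟩; exact hxQ g hg)
      (le_of_eq (Subgroup.card_map_of_injective (f := (MulAut.conj x).toMonoidHom)
        (MulAut.conj x).injective).symm))
  let ρK : K →* Module.End F V := ρ.comp K.subtype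
  let M := K ⧸ ρK.ker
  let σ : M →* Module.End F V := QuotientGroup.lift ρK.ker ρK le_rfl
  have hσ : Function.Injective σ := by
    refine (injective_iff_map_eq_one σ).mpr fun m hm => ?_
    obtain ⟨k, rfl⟩ := QuotientGroup.mk_surjective m
    exact (QuotientGroup.eq_one_iff k).mpr (MonoidHom.mem_ker.mpr hm)
  let π : K →* M := QuotientGroup.mk' ρK.ker
  have hπs : Function.Surjective π := QuotientGroup.mk'_surjective _
  have hσπ : ∀ k : K, σ (π k) = ρ k := fun k => rfl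
  set xK : K := ⟨x, hxK⟩ with hxKdef
  set xM := π xK with hxM
  set QM : Subgroup M := (Q.subgroupOf K).map π with hQM
  haveI hQn : QM.Normal := Subgroup.Normal.map ((Subgroup.normal_subgroupOf_iff_le_normalizer hQK).mpr
    (sup_le Subgroup.le_normalizer (Subgroup.zpowers_le.mpr hxN))) π hπs
  have hQMp : IsPGroup q QM := (hQ.comap_of_injective _ K.subtype_injective).map π
  have hgen : ∀ m : M, ∃ g ∈ QM, ∃ i : ℕ, m = g * xM ^ i := by
    intro m
    obtain ⟨k, rfl⟩ := hπs m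
    have hk : (k : S) ∈ Q ⊔ Subgroup.zpowers x := k.2
    rw [← SetLike.mem_coe, Subgroup.coe_mul_of_right_le_normalizer_left Q _ (Subgroup.zpowers_le.mpr hxN)] at hk
    obtain ⟨g, hg, c, hc, e⟩ := hk
    obtain ⟨i, rfl⟩ := mem_powers_iff_mem_zpowers.mpr hc
    refine ⟨π ⟨g, hQK hg⟩, ⟨⟨g, hQK hg⟩, hg, rfl⟩, i, ?_⟩
    rw [hxM, ← map_pow, ← map_mul]
    exact congrArg π (Subtype.ext e.symm)
  obtain ⟨g₀, hg₀, hne⟩ := not_forall₂.mp hne
  set yM := xM ^ p ^ (n - 1) with hyM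
  have hg₀M : π ⟨g₀, hQK hg₀⟩ ∈ QM := ⟨_, hg₀, rfl⟩
  have hy_ne : yM * π ⟨g₀, hQK hg₀⟩ ≠ π ⟨g₀, hQK hg₀⟩ * yM := fun e => hne (by
    have h1 := congrArg σ e
    rw [map_mul, map_mul, hyM, hxM, ← map_pow, hσπ, hσπ, Subgroup.coe_pow] at h1
    exact h1)
  have hxMn : xM ^ p ^ n = 1 := hσ (by rw [map_one, hxM, map_pow, hσπ]; exact hxn)
  have hord : orderOf xM = p ^ n := by
    obtain ⟨m, rfl⟩ : ∃ m, n = m + 1 := ⟨n - 1, by omega⟩
    refine orderOf_eq_prime_pow (fun e => hy_ne ?_) hxMn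
    rw [hyM, Nat.add_sub_cancel, e, one_mul, mul_one]
  have hcop : ∀ g ∈ QM, ∀ a : ℕ, g ^ p ^ a = 1 → g = 1 := by
    intro g hg a ha
    obtain ⟨k, hk⟩ := hQMp ⟨g, hg⟩
    exact orderOf_eq_one_iff.mp (Nat.eq_one_of_dvd_coprimes
      ((Nat.coprime_primes hq.out hp.out).mpr hqp |>.pow k a)
      (orderOf_dvd_of_pow_eq_one (congrArg Subtype.val hk)) (orderOf_dvd_of_pow_eq_one ha))
  -- no normal `p`-subgroup
  have hO : Cfsg.pCore p M = ⊥ := by
    haveI := Fitting.pCore_normal (G := M) p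
    have hOp : IsPGroup p (Cfsg.pCore p M) := Fitting.pCore_isPGroup p
    rw [eq_bot_iff]
    intro o ho
    rw [Subgroup.mem_bot]
    obtain ⟨g, hg, i, rfl⟩ := hgen o
    have hpow : ∀ w ∈ Cfsg.pCore p M, ∃ a, w ^ p ^ a = 1 := fun w hw => by
      obtain ⟨a, ha⟩ := hOp ⟨w, hw⟩
      exact ⟨a, congrArg Subtype.val ha⟩
    have hcen : ∀ h ∈ QM, g * xM ^ i * h = h * (g * xM ^ i) := by
      intro h hh
      set o := g * xM ^ i
      have h1 : h * o * h⁻¹ * o⁻¹ ∈ QM := by
        rw [show h * o * h⁻¹ * o⁻¹ = h * (o * h⁻¹ * o⁻¹) by group]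
        exact QM.mul_mem hh (hQn.conj_mem _ (QM.inv_mem hh) o)
      have h2 : h * o * h⁻¹ * o⁻¹ ∈ Cfsg.pCore p M :=
        (Cfsg.pCore p M).mul_mem (Subgroup.Normal.conj_mem inferInstance _ ho h) ((Cfsg.pCore p M).inv_mem ho)
      obtain ⟨a, ha⟩ := hpow _ h2
      have h3 := hcop _ h1 a ha
      rw [mul_inv_eq_one, mul_inv_eq_iff_eq_mul] at h3
      exact h3.symm
    by_cases hi : p ^ n ∣ i
    · have h1 : xM ^ i = 1 := orderOf_dvd_iff_pow_eq_one.mp (hord ▸ hi)
      rw [h1, mul_one] at ho ⊢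
      obtain ⟨a, ha⟩ := hpow _ ho
      exact hcop g hg a ha
    · exfalso
      obtain ⟨k, hk⟩ := exists_mul_modEq le_rfl hi
      have hyk : yM = (xM ^ i) ^ k := by
        rw [hyM, ← pow_mul, pow_eq_pow_iff_modEq, hord]; exact hk.symm
      -- conjugation by `xM ^ i` on `QM` is that by `g⁻¹`
      have hinner : ∀ h ∈ QM, xM ^ i * h * (xM ^ i)⁻¹ = g⁻¹ * h * g := by
        intro h hh
        calc xM ^ i * h * (xM ^ i)⁻¹ = g⁻¹ * (g * xM ^ i * h * (g * xM ^ i)⁻¹) * g := by group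
          _ = g⁻¹ * h * g := by rw [hcen h hh, mul_inv_cancel_right]
      have hk' : ∀ (m : ℕ), ∀ h ∈ QM, (xM ^ i) ^ m * h * ((xM ^ i) ^ m)⁻¹ = (g⁻¹) ^ m * h * ((g⁻¹) ^ m)⁻¹ := by
        intro m
        induction m with
        | zero => intro h _; simp
        | succ m ih =>
          intro h hh
          rw [pow_succ, pow_succ (g⁻¹)]
          calc (xM ^ i) ^ m * xM ^ i * h * ((xM ^ i) ^ m * xM ^ i)⁻¹
              = (xM ^ i) ^ m * (xM ^ i * h * (xM ^ i)⁻¹) * ((xM ^ i) ^ m)⁻¹ := by group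
            _ = _ := by
              rw [hinner h hh, ih _ (QM.mul_mem (QM.mul_mem (QM.inv_mem hg) hh) hg)]
              group
      set c := (g⁻¹) ^ k with hc
      have hcQ : c ∈ QM := QM.pow_mem (QM.inv_mem hg) k
      have hyc : ∀ h ∈ QM, yM * h * yM⁻¹ = c * h * c⁻¹ := by rw [hyk, hc]; exact hk' k
      have hcy : Commute c yM := by
        have := hyc c hcQ
        rw [mul_inv_cancel_right, mul_inv_eq_iff_eq_mul] at this
        exact this.symm
      have hyp : yM ^ p = 1 := by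
        rw [hyM, ← pow_mul, ← pow_succ, Nat.sub_add_cancel hn, hxMn]
      have hcp : ∀ h ∈ QM, c ^ p * h = h * c ^ p := by
        intro h hh
        have hm : ∀ (m : ℕ), ∀ h ∈ QM, yM ^ m * h * (yM ^ m)⁻¹ = c ^ m * h * (c ^ m)⁻¹ := by
          intro m
          induction m with
          | zero => intro h _; simp
          | succ m ih =>
            intro h hh
            rw [pow_succ, pow_succ c]
            calc yM ^ m * yM * h * (yM ^ m * yM)⁻¹ = yM ^ m * (yM * h * yM⁻¹) * (yM ^ m)⁻¹ := by group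
              _ = _ := by
                rw [hyc h hh, ih _ (QM.mul_mem (QM.mul_mem hcQ hh) (QM.inv_mem hcQ))]
                group
        have := hm p h hh
        rw [hyp, one_mul, inv_one, mul_one] at this
        calc c ^ p * h = c ^ p * h * (c ^ p)⁻¹ * c ^ p := by group
          _ = h * c ^ p := by rw [← this]
      -- a `q`-element whose `p`-th power centralises `QM` centralises it
      obtain ⟨kk, hkk⟩ := hQMp ⟨c, hcQ⟩
      have hck : c ^ q ^ kk = 1 := congrArg Subtype.val hkk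
      have hcc : ∀ h ∈ QM, c * h = h * c := by
        intro h hh
        obtain ⟨u, -, hu⟩ := Nat.exists_mul_mod_eq_one_of_coprime
          (((Nat.coprime_primes hp.out hq.out).mpr hqp.symm).pow_right kk)
          (Nat.one_lt_pow (fun e => by
            rw [e, pow_zero, pow_one] at hck
            exact hy_ne (by
              have := hyc _ hg₀M
              rwa [hck, one_mul, inv_one, mul_one, mul_inv_eq_iff_eq_mul] at this)) hq.out.one_lt)
        have hce : c = (c ^ p) ^ u := by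
          rw [← pow_mul, pow_eq_pow_mod (p * u) hck, hu, pow_one]
        rw [hce]
        exact (Commute.pow_left (hcp h hh) u).eq
      have := hyc _ hg₀M
      rw [hcc _ hg₀M, mul_inv_cancel_right, mul_inv_eq_iff_eq_mul] at this
      exact hy_ne this
  have hsolM : Cfsg.IsPSolvable p M :=
    PSolvable.isPSolvable_of_surjective π hπs (PSolvable.isPSolvable_subgroup K hsol)
  have hrM : (σ xM - 1) ^ (p ^ n - 1) = 0 := by rw [hxM, hσπ]; exact hr
  rcases theorem_b_field σ hσ hsolM hO xM n hord _ hrM with h | ⟨n₀, q', m, h1, -, hq', hm, heq, hnab, -⟩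
  · have := Nat.one_le_pow n p hp.out.pos
    omega
  haveI := Fact.mk hq'
  -- every Sylow `q'`-subgroup is abelian
  have hq'p : q' ≠ p := fun e => by
    rw [e] at heq
    have hd : p ∣ p ^ n₀ - 1 := heq ▸ dvd_pow_self p (by omega)
    have h5 := Nat.dvd_sub (dvd_pow_self p (by omega : n₀ ≠ 0)) hd
    rw [Nat.sub_sub_self (Nat.one_le_pow n₀ p hp.out.pos)] at h5
    exact hp.out.not_dvd_one h5
  have hq'2 : q' = 2 := by
    by_contra h2
    have hpo : Odd (p ^ n₀) := (hp.out.odd_of_ne_two hp2).pow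
    have hqo : Odd (q' ^ m) := (hq'.odd_of_ne_two h2).pow
    have h1p := Nat.one_le_pow n₀ p hp.out.pos
    rw [← heq] at hqo
    obtain ⟨a, ha⟩ := hpo
    obtain ⟨b, hb⟩ := hqo
    omega
  let R : Sylow q' M := default
  refine hnab R ⟨⟨fun a b => Subtype.ext ?_⟩⟩
  have hin : ∀ r : M, r ∈ (R : Subgroup M) → r ∈ QM ∧ (q' ≠ q → r = 1) := by
    intro r hr'
    obtain ⟨g, hg, i, rfl⟩ := hgen r
    obtain ⟨j, hj⟩ := R.isPGroup' ⟨_, hr'⟩
    have hj' : (g * xM ^ i) ^ q' ^ j = 1 := congrArg Subtype.val hj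
    have hxi : xM ^ i = 1 := by
      have h1 : (QuotientGroup.mk' QM (xM ^ i)) ^ q' ^ j = 1 := by
        have := congrArg (QuotientGroup.mk' QM) hj'
        rwa [map_pow, map_mul, (QuotientGroup.eq_one_iff g).mpr hg |> (fun h => show QuotientGroup.mk' QM g = 1 from h),
          one_mul, map_one] at this
      rw [← map_pow, QuotientGroup.mk'_apply, QuotientGroup.eq_one_iff, ← pow_mul] at h1
      obtain ⟨a, ha⟩ : ∃ a, (xM ^ (i * q' ^ j)) ^ p ^ a = 1 := ⟨n, by
        rw [← pow_mul, mul_comm (i * q' ^ j), pow_mul, hxMn, one_pow]⟩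
      have h2 := hcop _ h1 a ha
      rw [← orderOf_dvd_iff_pow_eq_one, hord] at h2 ⊢
      exact (Nat.Coprime.pow _ _ ((Nat.coprime_primes hp.out hq').mpr hq'p.symm)).dvd_of_dvd_mul_right h2
    rw [hxi, mul_one] at hj' ⊢
    refine ⟨hg, fun hne' => ?_⟩
    obtain ⟨k, hk⟩ := hQMp ⟨g, hg⟩
    exact orderOf_eq_one_iff.mp (Nat.eq_one_of_dvd_coprimes
      ((Nat.coprime_primes hq' hq.out).mpr hne' |>.pow j k)
      (orderOf_dvd_of_pow_eq_one hj') (orderOf_dvd_of_pow_eq_one (congrArg Subtype.val hk)))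
  show (a : M) * b = b * a
  by_cases hqq : q' = q
  · rcases hQ2 with h | h
    · exact absurd (hqq.symm.trans hq'2) h
    obtain ⟨⟨u, huK⟩, huQ, hu⟩ := (hin a a.2).1
    obtain ⟨⟨w, hwK⟩, hwQ, hw⟩ := (hin b b.2).1
    apply hσ
    rw [map_mul, map_mul, ← hu, ← hw, hσπ, hσπ]
    exact h u huQ w hwQ
  · rw [(hin a a.2).2 hqq, (hin b b.2).2 hqq]

variable {H : Type*} [Group H] [Finite H]

/-- The `2`-part: the commutator centralises a class two `2`-group. -/
theorem weight_commutator (ρ : H →* Module.End F V) (hρ : Function.Injective ρ)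
    (hsol : Cfsg.IsPSolvable p H) {b : ℕ} (hb : p = 2 ^ b + 1) (hb1 : 1 ≤ b) {P C : Subgroup H}
    (hP : IsPGroup p P) (hPC : P ≤ Subgroup.normalizer (C : Set H)) (hC : IsPGroup 2 C)
    (hsq : ∀ g ∈ C, g * g ∈ C ⊓ Subgroup.centralizer (C : Set H))
    (hcl : ∀ g ∈ C, ∀ h ∈ C, g * h * g⁻¹ * h⁻¹ ∈ C ⊓ Subgroup.centralizer (C : Set H))
    {e : ℕ} (he : 1 ≤ e) (hr : ∀ x ∈ P, (ρ x - 1) ^ (p ^ e - 1) = 0) {x x' : H} (hx : x ∈ P) (hx' : x' ∈ P)
    {g : H} (hg : g ∈ C) :
    (x ^ p ^ (e - 1) * x' ^ p ^ (e - 1) * (x ^ p ^ (e - 1))⁻¹ * (x' ^ p ^ (e - 1))⁻¹) * g *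
      (x ^ p ^ (e - 1) * x' ^ p ^ (e - 1) * (x ^ p ^ (e - 1))⁻¹ * (x' ^ p ^ (e - 1))⁻¹)⁻¹ = g := by
  classical
  have hp2 : p ≠ 2 := by
    have := Nat.pow_le_pow_right (n := 2) two_pos hb1
    omega
  have hF2 : (2 : F) ≠ 0 := by
    intro h
    have h1 : ((2 : ℕ) : F) = 0 := by simpa using h
    exact hp2 ((Nat.prime_dvd_prime_iff_eq hp.out Nat.prime_two).mp ((CharP.cast_eq_zero_iff F p 2).mp h1))
  have hsmul2 : ∀ v : V, -v = v → v = 0 := fun v h => by
    have h1 : (2 : F) • v = 0 := by rw [two_smul]; nth_rewrite 1 [← h]; exact neg_add_cancel v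
    exact (smul_eq_zero.mp h1).resolve_left hF2
  haveI := Fact.mk Nat.prime_two
  set Z := C ⊓ Subgroup.centralizer (C : Set H) with hZ
  have hZc : ∀ z ∈ Z, ∀ h ∈ C, h * z = z * h := fun z hz h hh =>
    Subgroup.mem_centralizer_iff.mp (Subgroup.mem_inf.mp hz).2 h hh
  have hZC : Z ≤ C := inf_le_left
  have hPn : ∀ s ∈ P, ∀ h ∈ C, s * h * s⁻¹ ∈ C := fun s hs h hh =>
    (Subgroup.mem_normalizer_iff.mp (hPC hs) h).mp hh
  have hPZ : ∀ s ∈ P, ∀ z ∈ Z, s * z * s⁻¹ ∈ Z := fun s hs z hz => by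
    refine ⟨hPn s hs z (hZC hz), Subgroup.mem_centralizer_iff.mpr fun h hh => ?_⟩
    have h1 := hZc z hz _ (hPn s⁻¹ (P.inv_mem hs) h hh)
    calc h * (s * z * s⁻¹) = s * (s⁻¹ * h * s⁻¹⁻¹ * z) * s⁻¹ := by group
      _ = s * (z * (s⁻¹ * h * s⁻¹⁻¹)) * s⁻¹ := by rw [h1]
      _ = s * z * s⁻¹ * h := by group
  -- the powers centralise the centre
  have hyZ : ∀ s ∈ P, ∀ z ∈ Z, s ^ p ^ (e - 1) * z = z * s ^ p ^ (e - 1) := by
    intro s hs z hz
    apply hρ
    rw [map_mul, map_mul]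
    exact commutes_of_deg ρ hsol hp2 (q := 2) (Ne.symm hp2) (hC.to_le hZC) (hPZ s hs) he (hr s hs)
      (Or.inr fun u hu v hv => by rw [← map_mul, ← map_mul, hZc v hv u (hZC hu)]) z hz
  set c := x ^ p ^ (e - 1) * x' ^ p ^ (e - 1) * (x ^ p ^ (e - 1))⁻¹ * (x' ^ p ^ (e - 1))⁻¹ with hcdef
  have hcP : c ∈ P := P.mul_mem (P.mul_mem (P.mul_mem (P.pow_mem hx _) (P.pow_mem hx' _))
    (P.inv_mem (P.pow_mem hx _))) (P.inv_mem (P.pow_mem hx' _))
  have hcZ : ∀ z ∈ Z, c * z = z * c := fun z hz =>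
    (Commute.mul_left (Commute.mul_left (Commute.mul_left (hyZ x hx z hz) (hyZ x' hx' z hz))
      (Commute.inv_left (hyZ x hx z hz))) (Commute.inv_left (hyZ x' hx' z hz))).eq
  suffices hmain : c * g * c⁻¹ * g⁻¹ ∈ Z by
    -- a `p`-element acting trivially on `C / Z` and on `Z`
    set d := c * g * c⁻¹ * g⁻¹ with hd
    have hk : ∀ k : ℕ, c ^ k * g * (c ^ k)⁻¹ = d ^ k * g := by
      intro k
      induction k with
      | zero => simp
      | succ k ih =>
        rw [pow_succ' c, show c * c ^ k * g * (c * c ^ k)⁻¹ = c * (c ^ k * g * (c ^ k)⁻¹) * c⁻¹ by group,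
          ih, show c * (d ^ k * g) * c⁻¹ = (c * d ^ k * c⁻¹) * (d * g) by rw [hd]; group,
          hcZ _ (Z.pow_mem hmain k), mul_inv_cancel_right, ← mul_assoc, ← pow_succ]
    obtain ⟨k, hk'⟩ := hP ⟨c, hcP⟩
    have h1 := hk (p ^ k)
    rw [show c ^ p ^ k = 1 from congrArg Subtype.val hk', one_mul, inv_one, mul_one] at h1
    have hdp : d ^ p ^ k = 1 := (mul_eq_right.mp h1.symm)
    obtain ⟨j, hj⟩ := (hC.to_le hZC) ⟨d, hmain⟩
    have hd1 : d = 1 := orderOf_eq_one_iff.mp (Nat.eq_one_of_dvd_coprimes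
      (((Nat.coprime_primes hp.out Nat.prime_two).mpr hp2).pow k j)
      (orderOf_dvd_of_pow_eq_one hdp) (orderOf_dvd_of_pow_eq_one (congrArg Subtype.val hj)))
    calc c * g * c⁻¹ = d * g := by rw [hd]; group
      _ = g := by rw [hd1, one_mul]
  by_contra hnot
  set a₀ := c * g * c⁻¹ * g⁻¹ with ha₀
  have ha₀C : a₀ ∈ C := C.mul_mem (hPn c hcP g hg) (C.inv_mem hg)
  obtain ⟨b₀, hb₀C, hb₀⟩ : ∃ b₀ ∈ C, a₀ * b₀ * a₀⁻¹ * b₀⁻¹ ≠ 1 := by
    by_contra hall
    push Not at hall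
    refine hnot ⟨ha₀C, Subgroup.mem_centralizer_iff.mpr fun h hh => ?_⟩
    have h1 := hall h hh
    rw [mul_inv_eq_one, mul_inv_eq_iff_eq_mul] at h1
    exact h1.symm
  set d₀ := a₀ * b₀ * a₀⁻¹ * b₀⁻¹ with hd₀
  -- the commutator group
  have hcm : ∀ a b h : H, a ∈ C → b ∈ C → h ∈ C → (a * b) * h * (a * b)⁻¹ * h⁻¹ =
      (a * h * a⁻¹ * h⁻¹) * (b * h * b⁻¹ * h⁻¹) := by
    intro a b h ha hb hh
    have h1 := hZc _ (hcl b hb h hh) a ha
    have h2 := hZc _ (hcl b hb h hh) (a * h * a⁻¹ * h⁻¹) (hZC (hcl a ha h hh))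
    calc (a * b) * h * (a * b)⁻¹ * h⁻¹ = a * (b * h * b⁻¹ * h⁻¹) * (h * a⁻¹ * h⁻¹) := by group
      _ = (b * h * b⁻¹ * h⁻¹) * (a * h * a⁻¹ * h⁻¹) := by rw [h1]; group
      _ = _ := h2.symm
  have hsq1 : ∀ a ∈ C, ∀ h ∈ C, (a * h * a⁻¹ * h⁻¹) * (a * h * a⁻¹ * h⁻¹) = 1 := by
    intro a ha h hh
    rw [← hcm a a h ha ha hh, ← hZc (a * a) (hsq a ha) h hh]
    group
  set D := Subgroup.closure {d | ∃ a ∈ C, ∃ h ∈ C, d = a * h * a⁻¹ * h⁻¹} with hD
  have hDZ : D ≤ Z := (Subgroup.closure_le _).mpr (by rintro _ ⟨a, ha, h, hh, rfl⟩; exact hcl a ha h hh)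
  have hcmD : ∀ a ∈ C, ∀ h ∈ C, a * h * a⁻¹ * h⁻¹ ∈ D := fun a ha h hh =>
    Subgroup.subset_closure ⟨a, ha, h, hh, rfl⟩
  have hDc : ∀ d ∈ D, ∀ d' ∈ D, d' * d = d * d' := fun d hd d' hd' => hZc d (hDZ hd) d' (hZC (hDZ hd'))
  have hD2 : ∀ d ∈ D, d * d = 1 := by
    intro d hd
    induction hd using Subgroup.closure_induction with
    | mem d hd => obtain ⟨a, ha, h, hh, rfl⟩ := hd; exact hsq1 a ha h hh
    | one => exact one_mul 1
    | mul u v hu hv ihu ihv =>
      rw [mul_assoc, ← mul_assoc v u v, hDc u hu v hv, mul_assoc u v v, ihv, mul_one, ihu]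
    | inv u _ ih => rw [← mul_inv_rev, ih, inv_one]
  have hDinv : ∀ d ∈ D, d⁻¹ = d := fun d hd => inv_eq_of_mul_eq_one_left (hD2 d hd)
  have hd₀D : d₀ ∈ D := hcmD a₀ ha₀C b₀ hb₀C
  -- a weight
  let W0 : Subgroup H → Prop := fun K => ∃ v : V, v ≠ 0 ∧ (∀ k ∈ K, ρ k v = v) ∧ ρ d₀ v = -v
  have hbase : W0 ⊥ := by
    obtain ⟨v, hv⟩ : ∃ v, ρ d₀ v ≠ v := by
      by_contra hall
      push Not at hall
      exact hb₀ (hρ (by rw [map_one]; exact LinearMap.ext hall))
    refine ⟨ρ d₀ v - v, sub_ne_zero.mpr hv, fun k hk => by rw [Subgroup.mem_bot.mp hk, map_one]; rfl, ?_⟩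
    rw [map_sub, ← Module.End.mul_apply, ← map_mul, hD2 d₀ hd₀D, map_one, Module.End.one_apply, neg_sub]
  haveI : Finite (Subgroup H) := Finite.of_injective (fun K => (K : Set H)) SetLike.coe_injective
  obtain ⟨K, ⟨hKD, hdK, hKW⟩, hKmax⟩ :=
    (Set.toFinite {K : Subgroup H | K ≤ D ∧ d₀ ∉ K ∧ W0 K}).exists_maximal
      ⟨⊥, bot_le, fun h => hb₀ (Subgroup.mem_bot.mp h), hbase⟩
  have hext : ∀ d ∈ D, d ∉ K → d₀ ∉ K ⊔ Subgroup.zpowers d ∨ d * d₀ ∈ K := by
    intro d hd _
    by_contra hcon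
    push Not at hcon
    obtain ⟨hmem, hdd⟩ := hcon
    have hle : K ⊔ Subgroup.zpowers d ≤
        { carrier := {u | u ∈ D ∧ (u ∈ K ∨ d * u ∈ K)}
          one_mem' := ⟨D.one_mem, Or.inl K.one_mem⟩
          mul_mem' := fun {u v} hu hv => ⟨D.mul_mem hu.1 hv.1, by
            rcases hu.2 with h1 | h1 <;> rcases hv.2 with h2 | h2
            · exact Or.inl (K.mul_mem h1 h2)
            · refine Or.inr ?_
              rw [show d * (u * v) = u * (d * v) by rw [← mul_assoc, ← mul_assoc, hDc u hu.1 d hd]]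
              exact K.mul_mem h1 h2
            · exact Or.inr (by rw [← mul_assoc]; exact K.mul_mem h1 h2)
            · refine Or.inl ?_
              rw [show u * v = (d * u) * (d * v) by
                rw [← mul_assoc, mul_assoc d u d, ← hDc u hu.1 d hd, ← mul_assoc, hD2 d hd, one_mul]]
              exact K.mul_mem h1 h2⟩
          inv_mem' := fun {u} hu => ⟨D.inv_mem hu.1, by rw [hDinv u hu.1]; exact hu.2⟩ : Subgroup H } :=
      sup_le (fun u hu => ⟨hKD hu, Or.inl hu⟩)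
        (Subgroup.zpowers_le.mpr ⟨hd, Or.inr (by rw [hD2 d hd]; exact K.one_mem)⟩)
    rcases (hle hmem).2 with h | h
    · exact hdK h
    · exact hdd h
  have hindex : ∀ d ∈ D, d ∈ K ∨ d * d₀ ∈ K := by
    intro d hd
    by_contra hcon
    push Not at hcon
    obtain ⟨hdnK, hdd⟩ := hcon
    obtain ⟨v, hv, hfix, hneg⟩ := hKW
    have hdv : ρ d (ρ d v) = v := by
      rw [← Module.End.mul_apply, ← map_mul, hD2 d hd, map_one, Module.End.one_apply]
    have hcomm : ∀ k ∈ D, ∀ u, ρ k (ρ d u) = ρ d (ρ k u) := fun k hk u => by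
      rw [← Module.End.mul_apply, ← map_mul, hDc d hd k hk, map_mul, Module.End.mul_apply]
    have key : ∀ (d' : H), d' ∈ D → d' ∉ K → d₀ ∉ K ⊔ Subgroup.zpowers d' → ∀ w : V, w ≠ 0 →
        (∀ k ∈ K, ρ k w = w) → ρ d₀ w = -w → ρ d' w = w → False := by
      intro d' hd' hd'K hno w hw hwf hwn hwd
      refine hd'K (hKmax ⟨sup_le hKD (Subgroup.zpowers_le.mpr hd'), hno, w, hw, ?_, hwn⟩ le_sup_left
        (Subgroup.mem_sup_right (Subgroup.mem_zpowers d')))
      let St : Subgroup H :=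
        { carrier := {u | ρ u w = w}
          one_mem' := by show ρ 1 w = w; rw [map_one]; rfl
          mul_mem' := fun {u u'} (hu : ρ u w = w) (hu' : ρ u' w = w) => by
            show ρ (u * u') w = w
            rw [map_mul, Module.End.mul_apply, hu', hu]
          inv_mem' := fun {u} (hu : ρ u w = w) => by
            show ρ u⁻¹ w = w
            conv_lhs => rw [← hu]
            rw [← Module.End.mul_apply, ← map_mul, inv_mul_cancel, map_one]
            rfl }
      exact fun k hk => (sup_le (c := St) hwf (Subgroup.zpowers_le.mpr hwd)) hk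
    by_cases hplus : v + ρ d v = 0
    · have hdv' : ρ d v = -v := eq_neg_of_add_eq_zero_right hplus
      have hd'D : d * d₀ ∈ D := D.mul_mem hd hd₀D
      rcases hext _ hd'D hdd with h | h
      · refine key _ hd'D hdd h v hv hfix hneg ?_
        rw [map_mul, Module.End.mul_apply, hneg, map_neg, hdv', neg_neg]
      · rw [mul_assoc, hD2 d₀ hd₀D, mul_one] at h; exact hdnK h
    · rcases hext _ hd hdnK with h | h
      · refine key d hd hdnK h (v + ρ d v) hplus (fun k hk => ?_) ?_ ?_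
        · rw [map_add, hfix k hk, hcomm k (hKD hk), hfix k hk]
        · rw [map_add, hneg, hcomm d₀ hd₀D, hneg, map_neg, neg_add]
        · rw [map_add, hdv, add_comm]
      · exact hdd h
  let sg : H → F := fun d => if d ∈ K then 1 else -1
  have hKmul : ∀ d ∈ D, ∀ d' ∈ D, d ∉ K → d' ∉ K → d * d' ∈ K := by
    intro d hd d' hd' h h'
    have h1 := K.mul_mem ((hindex d hd).resolve_left h) ((hindex d' hd').resolve_left h')
    rwa [show d * d₀ * (d' * d₀) = d * d' by
      rw [hDc d₀ hd₀D d' hd', ← mul_assoc, mul_assoc d d₀ d₀, hD2 d₀ hd₀D, mul_one]] at h1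
  have hsg : ∀ d ∈ D, ∀ d' ∈ D, sg (d * d') = sg d * sg d' := by
    intro d hd d' hd'
    simp only [sg]
    by_cases h : d ∈ K <;> by_cases h' : d' ∈ K
    · rw [if_pos h, if_pos h', if_pos (K.mul_mem h h'), one_mul]
    · rw [if_pos h, if_neg h', if_neg (fun e => h' ((K.mul_mem_cancel_left h).mp e)), one_mul]
    · rw [if_neg h, if_pos h', if_neg (fun e => h ((K.mul_mem_cancel_right h').mp e)), mul_one]
    · rw [if_neg h, if_neg h', if_pos (hKmul d hd d' hd' h h'), neg_mul_neg, one_mul]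
  let W : Submodule F V := ⨅ d : D, LinearMap.ker (ρ d - sg d • (1 : Module.End F V))
  have hWmem : ∀ v, v ∈ W ↔ ∀ d ∈ D, ρ d v = sg d • v := fun v => by
    simp only [W, Submodule.mem_iInf, LinearMap.mem_ker, LinearMap.sub_apply, sub_eq_zero,
      LinearMap.smul_apply, Module.End.one_apply, Subtype.forall]
  obtain ⟨v₀, hv₀, hv₀fix, hv₀neg⟩ := hKW
  have hv₀W : v₀ ∈ W := (hWmem v₀).mpr fun d hd => by
    by_cases h : d ∈ K
    · rw [hv₀fix d h]; simp [sg, h]
    · have h1 := hv₀fix _ ((hindex d hd).resolve_left h)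
      rw [map_mul, Module.End.mul_apply, hv₀neg, map_neg] at h1
      rw [eq_comm] at h1
      simp only [sg, if_neg h, neg_one_smul]
      conv_rhs => rw [h1]
      rw [neg_neg]
  -- the stabiliser
  set S := P ⊓ Subgroup.normalizer (K : Set H) with hS
  have hDnorm : ∀ s ∈ P, ∀ d ∈ D, s * d * s⁻¹ ∈ D := by
    intro s hs d hd
    induction hd using Subgroup.closure_induction with
    | mem d hd =>
      obtain ⟨a, ha, h, hh, rfl⟩ := hd
      rw [show s * (a * h * a⁻¹ * h⁻¹) * s⁻¹ =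
        (s * a * s⁻¹) * (s * h * s⁻¹) * (s * a * s⁻¹)⁻¹ * (s * h * s⁻¹)⁻¹ by group]
      exact hcmD _ (hPn s hs a ha) _ (hPn s hs h hh)
    | one => simp
    | mul u v _ _ ihu ihv =>
      rw [show s * (u * v) * s⁻¹ = s * u * s⁻¹ * (s * v * s⁻¹) by group]; exact D.mul_mem ihu ihv
    | inv u _ ih =>
      rw [show s * u⁻¹ * s⁻¹ = (s * u * s⁻¹)⁻¹ by group]; exact D.inv_mem ih
  have hsgS : ∀ s ∈ S, ∀ d, sg (s * d * s⁻¹) = sg d := fun s hs d =>
    if_congr (Subgroup.mem_normalizer_iff.mp (Subgroup.mem_inf.mp hs).2 d).symm rfl rfl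
  have hSW : ∀ s ∈ S, ∀ v ∈ W, ρ s v ∈ W := by
    intro s hs v hv
    rw [hWmem] at hv ⊢
    intro d hd
    have hd' : s⁻¹ * d * s⁻¹⁻¹ ∈ D := hDnorm _ (P.inv_mem (Subgroup.mem_inf.mp hs).1) d hd
    rw [← Module.End.mul_apply, ← map_mul, show d * s = s * (s⁻¹ * d * s⁻¹⁻¹) by group, map_mul,
      Module.End.mul_apply, hv _ hd', map_smul, hsgS _ (S.inv_mem hs)]
  have hCW : ∀ a ∈ C, ∀ v ∈ W, ρ a v ∈ W := by
    intro a ha v hv
    rw [hWmem] at hv ⊢
    intro d hd
    rw [← Module.End.mul_apply, ← map_mul, ← hZc d (hDZ hd) a ha, map_mul, Module.End.mul_apply, hv d hd,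
      map_smul]
  let K1 : Subgroup H := C ⊔ S
  let StW : Subgroup H :=
    { carrier := {u | (∀ v ∈ W, ρ u v ∈ W) ∧ ∀ v ∈ W, ρ u⁻¹ v ∈ W}
      one_mem' := ⟨fun v hv => by rw [map_one]; exact hv, fun v hv => by rw [inv_one, map_one]; exact hv⟩
      mul_mem' := fun {u u'} hu hu' =>
        ⟨fun v hv => by rw [map_mul]; exact hu.1 _ (hu'.1 v hv),
          fun v hv => by rw [mul_inv_rev, map_mul]; exact hu'.2 _ (hu.2 v hv)⟩
      inv_mem' := fun {u} hu => ⟨hu.2, by rw [inv_inv]; exact hu.1⟩ }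
  have hK1 : K1 ≤ StW := sup_le (fun a ha => ⟨hCW a ha, hCW _ (C.inv_mem ha)⟩)
    (fun s hs => ⟨hSW s hs, hSW _ (S.inv_mem hs)⟩)
  let ρW : K1 →* Module.End F W :=
    { toFun := fun u => (ρ u).restrict (hK1 u.2).1
      map_one' := LinearMap.ext fun v => Subtype.ext (by
        show ρ (1 : H) (v : V) = v
        rw [map_one]; rfl)
      map_mul' := fun u u' => LinearMap.ext fun v => Subtype.ext (by
        show ρ ((u : H) * u') (v : V) = ρ u (ρ u' v)
        rw [map_mul]; rfl) }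
  -- the quotient by the radical
  let Rad : Subgroup C :=
    { carrier := {a | ∀ h ∈ C, (a : H) * h * (a : H)⁻¹ * h⁻¹ ∈ K}
      one_mem' := fun h _ => by simp
      mul_mem' := fun {a a'} ha ha' h hh => by
        rw [Subgroup.coe_mul, hcm a a' h a.2 a'.2 hh]; exact K.mul_mem (ha h hh) (ha' h hh)
      inv_mem' := fun {a} ha h hh => by
        have h1 := hcm a _ h a.2 (C.inv_mem a.2) hh
        rw [mul_inv_cancel, one_mul, inv_one, mul_one, mul_inv_cancel] at h1
        rw [Subgroup.coe_inv, eq_inv_of_mul_eq_one_right h1.symm]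
        exact K.inv_mem (ha h hh) }
  have hcomD : ∀ a a' : C, (a : H) * a' * (a : H)⁻¹ * (a' : H)⁻¹ ∈ D := fun a a' => hcmD _ a.2 _ a'.2
  haveI hRn : Rad.Normal := ⟨fun r hr s h hh => by
    have hd : (s : H) * r * (s : H)⁻¹ * (r : H)⁻¹ ∈ Z := hcl _ s.2 _ r.2
    rw [Subgroup.coe_mul, Subgroup.coe_mul, Subgroup.coe_inv,
      show (s : H) * r * (s : H)⁻¹ = ((s : H) * r * (s : H)⁻¹ * (r : H)⁻¹) * r by group,
      hcm _ _ h (hZC hd) r.2 hh, ← hZc _ hd h hh, mul_inv_cancel_right, mul_inv_cancel, one_mul]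
    exact hr h hh⟩
  have hZRad : ∀ a : C, (a : H) ∈ Z → a ∈ Rad := fun a ha h hh => by
    rw [← hZc _ ha h hh, mul_inv_cancel_right, mul_inv_cancel]; exact K.one_mem
  have hXc : ∀ u v : C ⧸ Rad, u * v = v * u := by
    intro u v
    obtain ⟨u, rfl⟩ := QuotientGroup.mk'_surjective Rad u
    obtain ⟨v, rfl⟩ := QuotientGroup.mk'_surjective Rad v
    rw [← map_mul, ← map_mul]
    refine QuotientGroup.eq.mpr (hZRad _ ?_)
    rw [Subgroup.coe_mul, Subgroup.coe_inv, Subgroup.coe_mul, Subgroup.coe_mul,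
      show ((u : H) * v)⁻¹ * ((v : H) * u) = (v : H)⁻¹ * (u : H)⁻¹ * (v : H)⁻¹⁻¹ * (u : H)⁻¹⁻¹ by group]
    exact hcl _ (C.inv_mem v.2) _ (C.inv_mem u.2)
  letI : CommGroup (C ⧸ Rad) := { (inferInstance : Group (C ⧸ Rad)) with mul_comm := hXc }
  have hX2 : ∀ v : C ⧸ Rad, v * v = 1 := by
    intro v
    obtain ⟨v, rfl⟩ := QuotientGroup.mk'_surjective Rad v
    rw [← map_mul]
    exact (QuotientGroup.eq_one_iff _).mpr (hZRad _ (hsq v v.2))
  let conjC : S → MulAut C := fun s => C.normalizerMonoidHom ⟨s, hPC (Subgroup.mem_inf.mp s.2).1⟩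
  have hconjC : ∀ (s : S) (a : C), ((conjC s a : C) : H) = (s : H) * a * (s : H)⁻¹ := fun s a => rfl
  have hRadS : ∀ s : S, ∀ a ∈ Rad, conjC s a ∈ Rad := by
    intro s a ha h hh
    have hsP := (Subgroup.mem_inf.mp s.2).1
    have h1 := ha _ (hPn _ (P.inv_mem hsP) h hh)
    rw [hconjC, show (s : H) * a * (s : H)⁻¹ * h * ((s : H) * a * (s : H)⁻¹)⁻¹ * h⁻¹ =
      (s : H) * ((a : H) * ((s : H)⁻¹ * h * (s : H)⁻¹⁻¹) * (a : H)⁻¹ *
        ((s : H)⁻¹ * h * (s : H)⁻¹⁻¹)⁻¹) * (s : H)⁻¹ by group]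
    exact (Subgroup.mem_normalizer_iff.mp (Subgroup.mem_inf.mp s.2).2 _).mp h1
  let act : S → MulAut (C ⧸ Rad) := fun s => QuotientGroup.congr Rad Rad (conjC s)
    (Subgroup.eq_of_le_of_card_ge (by rintro _ ⟨a, ha, rfl⟩; exact hRadS s a ha)
      (le_of_eq (Subgroup.card_map_of_injective (f := (conjC s).toMonoidHom) (conjC s).injective).symm))
  have hact : ∀ s a, act s (QuotientGroup.mk a) = QuotientGroup.mk (conjC s a) := fun s a => rfl
  let φ : S →* MulAut (C ⧸ Rad) := MonoidHom.mk' act fun s t => MulEquiv.ext fun v => by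
    obtain ⟨v, rfl⟩ := QuotientGroup.mk'_surjective Rad v
    show act (s * t) (QuotientGroup.mk v) = act s (act t (QuotientGroup.mk v))
    rw [hact, hact, hact]
    refine congrArg _ (Subtype.ext ?_)
    rw [hconjC, hconjC, hconjC, Subgroup.coe_mul]
    group
  have hSp : IsPGroup p φ.range :=
    (hP.to_le (inf_le_left : S ≤ P)).of_surjective φ.rangeRestrict φ.rangeRestrict_surjective
  -- small elements
  have hpow1 : ∀ s ∈ P, s ^ p ^ e = 1 := fun s hs => hρ (by
    rcases subsingleton_or_nontrivial V with hV | hV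
    · exact LinearMap.ext fun v => Subsingleton.elim _ _
    haveI := charP_end p V (K := F)
    have h1 : (ρ s - 1) ^ p ^ e = 0 := pow_eq_zero_of_le (Nat.sub_le _ _) (hr s hs)
    rw [sub_one_pow_prime_pow, sub_eq_zero] at h1
    rw [map_pow, h1, map_one])
  have hyS : ∀ s ∈ P, s ^ p ^ (e - 1) ∈ S := fun s hs => by
    refine ⟨P.pow_mem hs _, Subgroup.mem_normalizer_iff_map_conj_eq.mpr ?_⟩
    refine Subgroup.eq_of_le_of_card_ge ?_ (le_of_eq (Subgroup.card_map_of_injective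
      (f := (MulAut.conj (s ^ p ^ (e - 1))).toMonoidHom) (MulAut.conj (s ^ p ^ (e - 1))).injective).symm)
    rintro _ ⟨k, hk, rfl⟩
    show s ^ p ^ (e - 1) * k * (s ^ p ^ (e - 1))⁻¹ ∈ K
    rw [hyZ s hs k (hDZ (hKD hk)), mul_inv_cancel_right]
    exact hk
  have hsmall : ∀ (s : H) (hs : s ∈ P), IsSmall p φ.range (φ ⟨_, hyS s hs⟩) := by
    intro s hs
    have hex : ∃ a, s ^ p ^ a ∈ Subgroup.normalizer (K : Set H) :=
      ⟨e - 1, (Subgroup.mem_inf.mp (hyS s hs)).2⟩
    set a := Nat.find hex with ha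
    have haN := Nat.find_spec hex
    have hae : a ≤ e - 1 := Nat.find_min' hex (Subgroup.mem_inf.mp (hyS s hs)).2
    have hdvd : ∀ i : ℕ, s ^ i ∈ Subgroup.normalizer (K : Set H) → p ^ a ∣ i := by
      intro i hi
      by_contra hnd
      have ha0 : 1 ≤ a := by
        rcases Nat.eq_zero_or_pos a with h | h
        · exact absurd (by rw [h, pow_zero]; exact one_dvd i) hnd
        · exact h
      obtain ⟨k, hk⟩ := exists_mul_modEq (n := e) (by omega : a ≤ e) hnd
      refine Nat.find_min hex (show a - 1 < a by omega) ?_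
      rw [pow_eq_pow_mod (p ^ (a - 1)) (hpow1 s hs), ← hk, ← pow_eq_pow_mod (i * k) (hpow1 s hs), pow_mul]
      exact Subgroup.pow_mem _ hi k
    set n := e - a with hn
    have hn1 : 1 ≤ n := by omega
    have hsplit : p ^ e = p ^ a * p ^ n := by rw [← pow_add]; congr 1; omega
    set x1 : S := ⟨s ^ p ^ a, P.pow_mem hs _, haN⟩ with hx1
    have hxy : φ ⟨_, hyS s hs⟩ = φ x1 ^ p ^ (n - 1) := by
      rw [← map_pow]
      refine congrArg φ (Subtype.ext ?_)
      rw [Subgroup.coe_pow, hx1, ← pow_mul, ← pow_add]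
      show s ^ p ^ (e - 1) = _
      congr 2
      omega
    have hx1p : φ x1 ^ p ^ n = 1 := by
      rw [← map_pow, show x1 ^ p ^ n = 1 from Subtype.ext (by
        rw [Subgroup.coe_pow, hx1, ← pow_mul, ← hsplit]; exact hpow1 s hs), map_one]
    refine ⟨φ x1, ⟨x1, rfl⟩, n, hn1, hx1p, hxy, ?_⟩
    -- orbit sums on the weight space
    have hdeg : ∀ v ∈ W, (∑ j ∈ Finset.range (p ^ n), ρ (s ^ p ^ a) ^ j) v = 0 := by
      intro v hv
      haveI : Nontrivial V := ⟨v₀, 0, hv₀⟩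
      haveI := charP_end p V (K := F)
      have h0 := LinearMap.congr_fun ((sub_one_pow_eq_geom (p := p) (ρ s) e).symm.trans (hr s hs)) v
      rw [LinearMap.sum_apply, LinearMap.zero_apply] at h0
      haveI := Fintype.ofFinite D
      set E : Module.End F V := ∑ d : D, sg d • ρ d with hE
      have hED : ∀ d ∈ D, E * ρ d = sg d • E := by
        intro d hd
        rw [hE, Finset.sum_mul, Finset.smul_sum]
        refine Fintype.sum_equiv (Equiv.mulRight (⟨d, hd⟩ : D)) _ _ fun u => ?_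
        rw [Equiv.coe_mulRight, Subgroup.coe_mul, smul_mul_assoc, ← map_mul, smul_smul,
          hsg _ u.2 _ hd]
        congr 1
        have : sg d * sg d = 1 := by simp only [sg]; split_ifs <;> simp
        rw [mul_comm (sg (u : H)), ← mul_assoc, this, one_mul]
      have hEW : ∀ w ∈ W, E w = (Fintype.card D : F) • w := by
        intro w hw
        rw [hE, LinearMap.sum_apply, Finset.sum_congr rfl (fun (d : D) _ =>
          show (sg d • ρ d) w = w by
            rw [LinearMap.smul_apply, (hWmem w).mp hw d d.2, smul_smul]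
            simp only [sg]; split_ifs <;> simp),
          Finset.sum_const, Finset.card_univ, Nat.cast_smul_eq_nsmul]
      have hEout : ∀ i : ℕ, ¬ p ^ a ∣ i → E ((ρ s ^ i) v) = 0 := by
        intro i hi
        set t := s ^ i with ht
        have htP : t ∈ P := P.pow_mem hs i
        obtain ⟨k, hk, hkK⟩ : ∃ k ∈ K, t * k * t⁻¹ ∉ K := by
          by_contra hall
          push Not at hall
          refine hi (hdvd i (Subgroup.mem_normalizer_iff_map_conj_eq.mpr (Subgroup.eq_of_le_of_card_ge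
            (by rintro _ ⟨k, hk, rfl⟩; exact hall k hk)
            (le_of_eq (Subgroup.card_map_of_injective (f := (MulAut.conj t).toMonoidHom)
              (MulAut.conj t).injective).symm))))
        have hd : t * k * t⁻¹ ∈ D := hDnorm t htP k (hKD hk)
        have h1 : ρ (t * k * t⁻¹) (ρ t v) = ρ t v := by
          rw [← Module.End.mul_apply, ← map_mul, inv_mul_cancel_right, map_mul, Module.End.mul_apply,
            (hWmem v).mp hv k (hKD hk)]
          simp [sg, hk]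
        have h2 := LinearMap.congr_fun (hED _ hd) (ρ t v)
        rw [Module.End.mul_apply, h1, LinearMap.smul_apply] at h2
        simp only [sg, if_neg hkK, neg_one_smul] at h2
        rw [← map_pow]
        exact hsmul2 _ h2.symm
      have h1 := congrArg E h0
      rw [map_sum, map_zero, ← Finset.sum_filter_of_ne (p := fun i => p ^ a ∣ i)
        (fun i _ hne => by by_contra h; exact hne (hEout i h))] at h1
      have hset : (Finset.range (p ^ e)).filter (fun i => p ^ a ∣ i) =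
          (Finset.range (p ^ n)).image (fun j => p ^ a * j) := by
        ext i
        simp only [Finset.mem_filter, Finset.mem_range, Finset.mem_image]
        constructor
        · rintro ⟨hi, j, rfl⟩
          exact ⟨j, Nat.lt_of_mul_lt_mul_left (hsplit ▸ hi), rfl⟩
        · rintro ⟨j, hj, rfl⟩
          exact ⟨hsplit ▸ Nat.mul_lt_mul_of_pos_left hj (Nat.pow_pos hp.out.pos), dvd_mul_right _ _⟩
      rw [hset, Finset.sum_image (fun i _ j _ h => Nat.eq_of_mul_eq_mul_left (Nat.pow_pos hp.out.pos) h),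
        ← map_sum] at h1
      have hin : (∑ j ∈ Finset.range (p ^ n), ρ (s ^ p ^ a) ^ j) v ∈ W := by
        rw [LinearMap.sum_apply]
        refine Submodule.sum_mem W fun j _ => ?_
        rw [← map_pow]
        exact hSW _ (S.pow_mem (⟨P.pow_mem hs _, haN⟩ : s ^ p ^ a ∈ S) j) v hv
      have h3 : (∑ i ∈ Finset.range (p ^ n), (ρ s ^ (p ^ a * i)) v) =
          (∑ j ∈ Finset.range (p ^ n), ρ (s ^ p ^ a) ^ j) v := by
        rw [LinearMap.sum_apply]
        exact Finset.sum_congr rfl fun j _ => by rw [map_pow, pow_mul]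
      rw [h3, hEW _ hin] at h1
      refine (smul_eq_zero.mp h1).resolve_left fun h => ?_
      have hd2 : IsPGroup 2 D := hC.to_le (hDZ.trans hZC)
      obtain ⟨l, hl⟩ := IsPGroup.iff_card.mp hd2
      rw [Nat.card_eq_fintype_card] at hl
      rw [hl, Nat.cast_pow] at h
      exact hF2 (by simpa using (pow_eq_zero_iff'.mp h).1)
    have hrW : ((ρW ⟨s ^ p ^ a, Subgroup.mem_sup_right x1.2⟩) - 1) ^ (p ^ n - 1) = 0 := by
      haveI : Nontrivial W := ⟨⟨v₀, hv₀W⟩, 0, fun h => hv₀ (congrArg Subtype.val h)⟩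
      haveI := charP_end p W (K := F)
      rw [sub_one_pow_eq_geom]
      refine LinearMap.ext fun v => Subtype.ext ?_
      rw [LinearMap.sum_apply, LinearMap.zero_apply, ZeroMemClass.coe_zero, ← hdeg v v.2,
        LinearMap.sum_apply, AddSubmonoidClass.coe_finsetSum]
      refine Finset.sum_congr rfl fun j hj => ?_
      clear hj
      induction j with
      | zero => rfl
      | succ j ih => rw [pow_succ', pow_succ']; exact congrArg (ρ (s ^ p ^ a)) ih
    -- count
    by_contra hbig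
    push Not at hbig
    set Y := φ ⟨_, hyS s hs⟩ with hY
    set M := (moveHom Y).range with hM
    let β : C ⧸ Rad → C ⧸ Rad → ZMod 2 := fun u v =>
      if (u.out : H) * (v.out : H) * (u.out : H)⁻¹ * (v.out : H)⁻¹ ∈ K then 0 else 1
    have hβ : ∀ a a' : C, β (QuotientGroup.mk a) (QuotientGroup.mk a') =
        if (a : H) * a' * (a : H)⁻¹ * (a' : H)⁻¹ ∈ K then 0 else 1 := by
      intro a a'
      obtain ⟨⟨r, hr'⟩, hre⟩ := QuotientGroup.mk_out_eq_mul Rad a
      obtain ⟨⟨r', hr''⟩, hre'⟩ := QuotientGroup.mk_out_eq_mul Rad a'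
      refine if_congr ?_ rfl rfl
      rw [hre, hre']
      show ((a : H) * r) * ((a' : H) * r') * ((a : H) * r)⁻¹ * ((a' : H) * r')⁻¹ ∈ K ↔ _
      rw [hcm a r _ a.2 r.2 (C.mul_mem a'.2 r'.2)]
      have hsymm : ∀ u v : C, (u : H) * v * (u : H)⁻¹ * (v : H)⁻¹ = (v : H) * u * (v : H)⁻¹ * (u : H)⁻¹ :=
        fun u v => by
          rw [← hDinv _ (hcomD v u)]; group
      rw [K.mul_mem_cancel_right (hr' _ (C.mul_mem a'.2 r'.2))]
      have h1 := hsymm a (a' * r')
      rw [Subgroup.coe_mul] at h1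
      rw [h1, hcm a' r' a a'.2 r'.2 a.2, K.mul_mem_cancel_right (hr'' a a.2), ← hsymm a a']
    have hite : ∀ d ∈ D, ∀ d' ∈ D, (if d * d' ∈ K then (0 : ZMod 2) else 1) =
        (if d ∈ K then 0 else 1) + (if d' ∈ K then 0 else 1) := by
      intro d hd d' hd'
      by_cases h : d ∈ K <;> by_cases h' : d' ∈ K
      · rw [if_pos h, if_pos h', if_pos (K.mul_mem h h'), add_zero]
      · rw [if_pos h, if_neg h', if_neg (fun e => h' ((K.mul_mem_cancel_left h).mp e)), zero_add]
      · rw [if_neg h, if_pos h', if_neg (fun e => h ((K.mul_mem_cancel_right h').mp e)), add_zero]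
      · rw [if_neg h, if_neg h', if_pos (hKmul d hd d' hd' h h')]; exact (CharTwo.add_self_eq_zero (1 : ZMod 2)).symm
    have hβl : ∀ u v w, β (u * v) w = β u w + β v w := by
      intro u v w
      obtain ⟨u, rfl⟩ := QuotientGroup.mk_surjective u
      obtain ⟨v, rfl⟩ := QuotientGroup.mk_surjective v
      obtain ⟨w, rfl⟩ := QuotientGroup.mk_surjective w
      rw [← QuotientGroup.mk_mul, hβ, hβ, hβ, Subgroup.coe_mul, hcm u v w u.2 v.2 w.2,
        hite _ (hcomD u w) _ (hcomD v w)]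
    have hβsymm : ∀ u v, β u v = β v u := by
      intro u v
      obtain ⟨u, rfl⟩ := QuotientGroup.mk_surjective u
      obtain ⟨v, rfl⟩ := QuotientGroup.mk_surjective v
      rw [hβ, hβ]
      refine if_congr ?_ rfl rfl
      rw [← K.inv_mem_iff]
      rw [show ((u : H) * v * (u : H)⁻¹ * (v : H)⁻¹)⁻¹ = (v : H) * u * (v : H)⁻¹ * (u : H)⁻¹ by group]
    have hβr : ∀ u v w, β u (v * w) = β u v + β u w := fun u v w => by
      rw [hβsymm, hβl, hβsymm u v, hβsymm u w]
    set k := (p ^ n - 1) / 2 with hk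
    have hcard : 2 ^ (2 * k) < Nat.card M :=
      lt_of_lt_of_le (Nat.pow_lt_pow_right (by norm_num) (by
        have := Nat.one_le_pow n p hp.out.pos; omega)) hbig
    obtain ⟨u, hu1, hu⟩ := exists_isotropic (M := M) (fun v => Subtype.ext (hX2 v)) k
      (fun i u v => β (u : C ⧸ Rad) ((φ x1 ^ ((i : ℕ) + 1)) (v : C ⧸ Rad)))
      (fun i u v w => by show β ((u * v : M) : C ⧸ Rad) _ = _; rw [Subgroup.coe_mul, hβl])
      (fun i u v w => by
        show β _ ((φ x1 ^ ((i : ℕ) + 1)) ((v * w : M) : C ⧸ Rad)) = _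
        rw [Subgroup.coe_mul, map_mul, hβr]) hcard
    obtain ⟨a', ha'⟩ := QuotientGroup.mk_surjective (u : C ⧸ Rad)
    set t := s ^ p ^ a with ht
    have htS : t ∈ S := x1.2
    have htn : t ^ p ^ n = 1 := by rw [ht, ← pow_mul, ← hsplit]; exact hpow1 s hs
    have hφi : ∀ i : ℕ, ∀ w : C, (φ x1 ^ i) (QuotientGroup.mk w) =
        QuotientGroup.mk (⟨t ^ i * w * (t ^ i)⁻¹, hPn _ (P.pow_mem (Subgroup.mem_inf.mp htS).1 i) _ w.2⟩ : C) := by
      intro i w
      rw [← map_pow]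
      show act (x1 ^ i) _ = _
      rw [hact]
      exact congrArg _ (Subtype.ext (hconjC _ _))
    have hhalf : ∀ i, i ≤ k → (a' : H) * (t ^ i * a' * (t ^ i)⁻¹) * (a' : H)⁻¹ *
        (t ^ i * a' * (t ^ i)⁻¹)⁻¹ ∈ K := by
      intro i hi
      rcases Nat.eq_zero_or_pos i with rfl | hi0
      · simp
      have h1 := hu ⟨i - 1, by omega⟩
      simp only [show i - 1 + 1 = i by omega, ← ha', hφi, hβ] at h1
      by_contra hK'
      rw [if_neg hK'] at h1
      exact one_ne_zero h1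
    have hall : ∀ i, (a' : H) * (t ^ i * a' * (t ^ i)⁻¹) * (a' : H)⁻¹ * (t ^ i * a' * (t ^ i)⁻¹)⁻¹ ∈ K := by
      intro i
      rw [pow_eq_pow_mod i htn]
      set j := i % p ^ n
      have hj : j < p ^ n := Nat.mod_lt _ (Nat.pow_pos hp.out.pos)
      rcases Nat.lt_or_ge k j with hkj | hkj
      swap
      · exact hhalf j hkj
      have hpo : Odd (p ^ n) := (hp.out.odd_of_ne_two hp2).pow
      obtain ⟨m, hm⟩ := hpo
      set j' := p ^ n - j
      have h1 := hhalf j' (by omega)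
      have hjj : t ^ j * t ^ j' = 1 := by rw [← pow_add, show j + j' = p ^ n by omega, htn]
      have hinv : t ^ j' = (t ^ j)⁻¹ := eq_inv_of_mul_eq_one_right hjj
      rw [hinv, inv_inv] at h1
      have h2 := K.inv_mem ((Subgroup.mem_normalizer_iff.mp
        (Subgroup.pow_mem _ (Subgroup.mem_inf.mp htS).2 j) _).mp h1)
      rw [show (t ^ j * ((a' : H) * ((t ^ j)⁻¹ * a' * t ^ j) * (a' : H)⁻¹ * ((t ^ j)⁻¹ * a' * t ^ j)⁻¹) *
        (t ^ j)⁻¹)⁻¹ = (a' : H) * (t ^ j * a' * (t ^ j)⁻¹) * (a' : H)⁻¹ *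
          (t ^ j * a' * (t ^ j)⁻¹)⁻¹ by group] at h2
      exact h2
    -- the orbit generates a subgroup acting commutatively
    set T := {w : H | ∃ i : ℕ, w = t ^ i * a' * (t ^ i)⁻¹} with hT
    have hTC : Subgroup.closure T ≤ C := (Subgroup.closure_le C).mpr (by
      rintro _ ⟨i, rfl⟩; exact hPn _ (P.pow_mem (Subgroup.mem_inf.mp htS).1 i) _ a'.2)
    have hTT : ∀ g ∈ T, ∀ h ∈ T, g * h * g⁻¹ * h⁻¹ ∈ K := by
      rintro _ ⟨i, rfl⟩ _ ⟨j, rfl⟩
      obtain ⟨l, hl⟩ : ∃ l, t ^ i * t ^ l = t ^ j := ⟨(p ^ n - i % p ^ n) + j, by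
        rw [pow_eq_pow_mod i htn, ← pow_add, ← add_assoc,
          Nat.add_sub_cancel' (Nat.mod_lt i (Nat.pow_pos hp.out.pos)).le, pow_add, htn, one_mul]⟩
      rw [← hl, show t ^ i * (a' : H) * (t ^ i)⁻¹ * (t ^ i * t ^ l * a' * (t ^ i * t ^ l)⁻¹) *
        (t ^ i * (a' : H) * (t ^ i)⁻¹)⁻¹ * (t ^ i * t ^ l * a' * (t ^ i * t ^ l)⁻¹)⁻¹ =
        t ^ i * ((a' : H) * (t ^ l * a' * (t ^ l)⁻¹) * (a' : H)⁻¹ * (t ^ l * a' * (t ^ l)⁻¹)⁻¹) *
          (t ^ i)⁻¹ by group]
      exact (Subgroup.mem_normalizer_iff.mp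
        (Subgroup.pow_mem _ (Subgroup.mem_inf.mp htS).2 i) _).mp (hall l)
    have hQK1 : Subgroup.closure T ≤ K1 := hTC.trans le_sup_left
    have hcommW : ∀ g ∈ (Subgroup.closure T).subgroupOf K1, ∀ h ∈ (Subgroup.closure T).subgroupOf K1,
        ρW g * ρW h = ρW h * ρW g := by
      have base : ∀ g ∈ T, ∀ h ∈ T, ∀ v ∈ W, ρ (g * h) v = ρ (h * g) v := by
        intro g hg' h hh v hv
        rw [show g * h = (g * h * g⁻¹ * h⁻¹) * (h * g) by group, map_mul, Module.End.mul_apply]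
        have hhC := hTC (Subgroup.subset_closure hh)
        have hgC := hTC (Subgroup.subset_closure hg')
        rw [(hWmem _).mp (show ρ (h * g) v ∈ W from hCW _ (C.mul_mem hhC hgC) v hv) _ (hKD (hTT g hg' h hh))]
        simp [sg, hTT g hg' h hh]
      have inner : ∀ g ∈ T, ∀ h ∈ Subgroup.closure T, ∀ v ∈ W, ρ (g * h) v = ρ (h * g) v := by
        intro g hg' h hh
        induction hh using Subgroup.closure_induction with
        | mem h hh => exact base g hg' h hh
        | one => intro v _; rw [one_mul, mul_one]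
        | mul u w hu hw ihu ihw =>
          intro v hv
          have h1 := ihu (ρ w v) (hCW _ (hTC hw) v hv)
          have h2 := ihw v hv
          simp only [map_mul, Module.End.mul_apply] at h1 h2 ⊢
          rw [h1, h2]
        | inv u hu ih =>
          intro v hv
          have h1 := congrArg (ρ u⁻¹) (ih (ρ u⁻¹ v) (hCW _ (C.inv_mem (hTC hu)) v hv))
          simp only [← Module.End.mul_apply, ← map_mul] at h1
          rw [show u⁻¹ * (g * u * u⁻¹) = u⁻¹ * g by group, show u⁻¹ * (u * g * u⁻¹) = g * u⁻¹ by group] at h1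
          exact h1.symm
      intro g hg' h hh
      refine LinearMap.ext fun v => Subtype.ext ?_
      show ρ (g : H) (ρ (h : H) v) = ρ (h : H) (ρ (g : H) v)
      rw [← Module.End.mul_apply, ← map_mul, ← Module.End.mul_apply, ← map_mul]
      have outer : ∀ g' ∈ Subgroup.closure T, ∀ v ∈ W, ρ (g' * h) v = ρ ((h : H) * g') v := by
        intro g' hg''
        induction hg'' using Subgroup.closure_induction with
        | mem g' hg'' => exact inner g' hg'' _ hh
        | one => intro v _; rw [one_mul, mul_one]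
        | mul u w hu hw ihu ihw =>
          intro v hv
          have h1 := ihu (ρ w v) (hCW _ (hTC hw) v hv)
          have h2 := ihw v hv
          simp only [map_mul, Module.End.mul_apply] at h1 h2 ⊢
          rw [h2, h1]
        | inv u hu ih =>
          intro v hv
          have h1 := congrArg (ρ u⁻¹) (ih (ρ u⁻¹ v) (hCW _ (C.inv_mem (hTC hu)) v hv))
          simp only [← Module.End.mul_apply, ← map_mul] at h1
          rw [show u⁻¹ * (u * (h : H) * u⁻¹) = (h : H) * u⁻¹ by group,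
            show u⁻¹ * ((h : H) * u * u⁻¹) = u⁻¹ * h by group] at h1
          exact h1.symm
      exact outer g hg' v v.2
    set tK : K1 := ⟨t, Subgroup.mem_sup_right htS⟩
    have hnormT : ∀ g ∈ (Subgroup.closure T).subgroupOf K1, tK * g * tK⁻¹ ∈ (Subgroup.closure T).subgroupOf K1 := by
      intro g hg'
      show t * (g : H) * t⁻¹ ∈ Subgroup.closure T
      have : ∀ g' ∈ Subgroup.closure T, t * g' * t⁻¹ ∈ Subgroup.closure T := by
        intro g' hg''
        induction hg'' using Subgroup.closure_induction with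
        | mem g' hg'' =>
          obtain ⟨i, rfl⟩ := hg''
          exact Subgroup.subset_closure ⟨i + 1, by rw [pow_succ']; group⟩
        | one => simp
        | mul u w _ _ ihu ihw =>
          rw [show t * (u * w) * t⁻¹ = t * u * t⁻¹ * (t * w * t⁻¹) by group]
          exact mul_mem ihu ihw
        | inv u _ ih => rw [show t * u⁻¹ * t⁻¹ = (t * u * t⁻¹)⁻¹ by group]; exact inv_mem ih
      exact this _ hg'
    have hfin := commutes_of_deg ρW (PSolvable.isPSolvable_subgroup K1 hsol) hp2 (q := 2) (Ne.symm hp2)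
      ((hC.to_le hTC).comap_of_injective _ K1.subtype_injective) hnormT hn1 hrW (Or.inr hcommW)
      ⟨a', hQK1 (Subgroup.subset_closure ⟨0, by simp⟩)⟩ (Subgroup.subset_closure ⟨0, by simp⟩)
    -- hence the power fixes the isotropic vector
    set y := t ^ p ^ (n - 1) with hy
    have hyS' : y ∈ S := S.pow_mem htS _
    have hyfix : Y (u : C ⧸ Rad) = (u : C ⧸ Rad) := by
      rw [hxy, ← ha', hφi]
      refine QuotientGroup.eq.mpr fun h hh => ?_
      rw [Subgroup.coe_mul, Subgroup.coe_inv]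
      set g' : H := (y * a' * y⁻¹)⁻¹ * a' with hg'def
      have hg'C : g' ∈ C :=
        C.mul_mem (C.inv_mem (hPn _ (Subgroup.mem_inf.mp hyS').1 _ a'.2)) a'.2
      have htriv : ∀ v ∈ W, ρ g' v = v := by
        intro v hv
        have hv' : ρ y⁻¹ v ∈ W := hSW _ (S.inv_mem hyS') v hv
        have h1 := congrArg Subtype.val (LinearMap.congr_fun hfin ⟨ρ y⁻¹ v, hv'⟩)
        change ρ ((tK ^ p ^ (n - 1) : K1) : H) (ρ (a' : H) (ρ y⁻¹ v)) =
          ρ (a' : H) (ρ ((tK ^ p ^ (n - 1) : K1) : H) (ρ y⁻¹ v)) at h1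
        rw [Subgroup.coe_pow, show ((tK : H) ^ p ^ (n - 1)) = y from rfl] at h1
        simp only [← Module.End.mul_apply, ← map_mul] at h1
        rw [show y * ((a' : H) * y⁻¹) = y * a' * y⁻¹ by group, show (a' : H) * (y * y⁻¹) = a' by group] at h1
        have h2 := congrArg (ρ (y * (a' : H) * y⁻¹)⁻¹) h1
        simp only [← Module.End.mul_apply, ← map_mul] at h2
        rw [inv_mul_cancel, map_one, Module.End.one_apply] at h2
        exact h2.symm
      by_contra hK'
      have hd : g' * h * g'⁻¹ * h⁻¹ ∈ D := hcmD _ hg'C h hh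
      have h3 : ρ (g' * h * g'⁻¹ * h⁻¹) v₀ = v₀ := by
        have hinvW : ∀ v ∈ W, ρ g'⁻¹ v = v := fun v hv => by
          conv_lhs => rw [← htriv v hv]
          rw [← Module.End.mul_apply, ← map_mul, inv_mul_cancel, map_one]; rfl
        have hv1 : ρ h⁻¹ v₀ ∈ W := hCW _ (C.inv_mem hh) v₀ hv₀W
        rw [map_mul, Module.End.mul_apply, map_mul, Module.End.mul_apply, hinvW _ hv1, map_mul,
          Module.End.mul_apply, ← Module.End.mul_apply (ρ h), ← map_mul, mul_inv_cancel, map_one,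
          Module.End.one_apply, htriv v₀ hv₀W]
      rw [(hWmem v₀).mp hv₀W _ hd] at h3
      have hK'' : g' * h * g'⁻¹ * h⁻¹ ∉ K := hK'
      simp only [sg, if_neg hK'', neg_one_smul] at h3
      exact hv₀ (hsmul2 v₀ h3)
    refine hu1 (Subtype.ext ?_)
    show (u : C ⧸ Rad) = 1
    obtain ⟨w, hw⟩ := u.2
    change Y w / w = (u : C ⧸ Rad) at hw
    have hk' : ∀ m : ℕ, (Y ^ m) w = w * (u : C ⧸ Rad) ^ m := by
      intro m
      induction m with
      | zero => simp
      | succ m ih =>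
        rw [pow_succ', MulAut.mul_apply, ih, map_mul, map_pow, hyfix, ← div_mul_cancel (Y w) w, hw, pow_succ]
        simp only [mul_comm, mul_assoc]
    have hYp : Y ^ p = 1 := by rw [hxy, ← pow_mul, ← pow_succ, Nat.sub_add_cancel hn1, hx1p]
    have h4 := hk' p
    rw [hYp, MulAut.one_apply, eq_comm, mul_eq_left] at h4
    obtain ⟨m, hm⟩ := hp.out.odd_of_ne_two hp2
    rw [hm, pow_succ, pow_mul, sq, hX2, one_pow, one_mul] at h4
    exact h4
  have hcomm := small_commute hb hb1 hX2 φ.range hSp (hsmall x hx) (hsmall x' hx')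
  -- so the commutator acts trivially modulo the radical
  have hcS : c ∈ S := S.mul_mem (S.mul_mem (S.mul_mem (hyS x hx) (hyS x' hx')) (S.inv_mem (hyS x hx)))
    (S.inv_mem (hyS x' hx'))
  have hφc : φ ⟨c, hcS⟩ = 1 := by
    rw [show (⟨c, hcS⟩ : S) = (⟨_, hyS x hx⟩ * ⟨_, hyS x' hx'⟩) * (⟨_, hyS x hx⟩ : S)⁻¹ *
      (⟨_, hyS x' hx'⟩ : S)⁻¹ from rfl, map_mul, map_mul, map_mul, map_inv, map_inv, hcomm,
      mul_inv_cancel_right, mul_inv_cancel]
  have h1 : (φ ⟨c, hcS⟩) (QuotientGroup.mk (⟨g, hg⟩ : C)) = QuotientGroup.mk (⟨g, hg⟩ : C) := by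
    rw [hφc]; rfl
  have h2 : QuotientGroup.mk' Rad (conjC ⟨c, hcS⟩ ⟨g, hg⟩ * (⟨g, hg⟩ : C)⁻¹) = 1 := by
    rw [map_mul, map_inv]
    exact mul_inv_eq_one.mpr h1
  exact hdK ((QuotientGroup.eq_one_iff _).mp h2 b₀ hb₀C)

/-- The `p ^ (e - 1)`-th powers in a `p`-subgroup commute. -/
theorem powers_commute (ρ : H →* Module.End F V) (hρ : Function.Injective ρ)
    (hsol : Cfsg.IsPSolvable p H) (hO : Cfsg.pCore p H = ⊥) {b : ℕ} (hb : p = 2 ^ b + 1) (hb1 : 1 ≤ b)
    {e : ℕ} (he : 1 ≤ e) (hr : ∀ x : H, (∃ k, x ^ p ^ k = 1) → (ρ x - 1) ^ (p ^ e - 1) = 0)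
    {P : Subgroup H} (hP : IsPGroup p P) {x x' : H} (hx : x ∈ P) (hx' : x' ∈ P) :
    x ^ p ^ (e - 1) * x' ^ p ^ (e - 1) = x' ^ p ^ (e - 1) * x ^ p ^ (e - 1) := by
  classical
  have hp2 : p ≠ 2 := by
    have := Nat.pow_le_pow_right (n := 2) two_pos hb1
    omega
  have hrP : ∀ s ∈ P, (ρ s - 1) ^ (p ^ e - 1) = 0 := fun s hs => hr s (by
    obtain ⟨k, hk⟩ := hP ⟨s, hs⟩
    exact ⟨k, congrArg Subtype.val hk⟩)
  set c := x ^ p ^ (e - 1) * x' ^ p ^ (e - 1) * (x ^ p ^ (e - 1))⁻¹ * (x' ^ p ^ (e - 1))⁻¹ with hcdef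
  have hcP : c ∈ P := P.mul_mem (P.mul_mem (P.mul_mem (P.pow_mem hx _) (P.pow_mem hx' _))
    (P.inv_mem (P.pow_mem hx _))) (P.inv_mem (P.pow_mem hx' _))
  suffices h : c = 1 by
    rw [hcdef, mul_inv_eq_one, mul_inv_eq_iff_eq_mul] at h
    exact h
  set R := Cfsg.pPrimeCore p H with hR
  haveI hRn : R.Normal := Transfer.pPrimeCore_normal p H
  have hPR : P ≤ Subgroup.normalizer (R : Set H) := Subgroup.le_normalizer_of_normal
  have hcop : (Nat.card P).Coprime (Nat.card R) :=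
    PSolvable.coprime_card_of_isPGroup hP (Transfer.pPrimeCore_coprime p)
  haveI : Group.IsNilpotent P := hP.isNilpotent
  have hall : R ≤ Subgroup.centralizer ({c} : Set H) := by
    have hdvd : Nat.card R ∣ Nat.card (R ⊓ Subgroup.centralizer ({c} : Set H) : Subgroup H) := by
      rw [Nat.dvd_iff_prime_pow_dvd_dvd]
      intro q k hq hk
      haveI := Fact.mk hq
      obtain ⟨Q₀, hQ₀⟩ := Coprime.exists_invariant_sylow hPR hcop (Or.inl inferInstance) q
      set Q := (Q₀ : Subgroup R).map R.subtype with hQ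
      have hQq : IsPGroup q Q := Q₀.2.map _
      have hQR : Q ≤ R := Subgroup.map_subtype_le _
      have hcen : Q ≤ Subgroup.centralizer ({c} : Set H) := by
        intro g hg
        rw [Subgroup.mem_centralizer_singleton_iff]
        by_cases hqp : q = p
        · subst hqp
          have : g = 1 := PSolvable.eq_one_of_mem_of_mem hQq (Transfer.pPrimeCore_coprime _) hg (hQR hg)
          rw [this, mul_one, one_mul]
        by_cases hq2 : q = 2
        · subst hq2
          obtain ⟨C₀, hC₀char, hC₀sq, hC₀cl, hC₀cen⟩ := Critical.exists_isCrit (P := Q) hQq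
          haveI := hC₀char
          set C := C₀.map Q.subtype with hCdef
          have hCQ : C ≤ Q := Subgroup.map_subtype_le _
          have hPC : P ≤ Subgroup.normalizer (C : Set H) :=
            PSolvable.le_normalizer_map_of_characteristic hQ₀ C₀
          have hlift : ∀ w : Q, w ∈ C₀ ⊓ Subgroup.centralizer (C₀ : Set Q) →
              (w : H) ∈ C ⊓ Subgroup.centralizer (C : Set H) := by
            intro w hw
            refine ⟨⟨w, hw.1, rfl⟩, Subgroup.mem_centralizer_iff.mpr ?_⟩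
            rintro _ ⟨v, hv, rfl⟩
            exact congrArg Subtype.val (Subgroup.mem_centralizer_iff.mp hw.2 v hv)
          have hsq : ∀ a ∈ C, a * a ∈ C ⊓ Subgroup.centralizer (C : Set H) := by
            rintro _ ⟨a, ha, rfl⟩
            have h1 := hlift _ (hC₀sq a ha)
            rwa [Subgroup.coe_pow, sq] at h1
          have hcl : ∀ a ∈ C, ∀ b ∈ C, a * b * a⁻¹ * b⁻¹ ∈ C ⊓ Subgroup.centralizer (C : Set H) := by
            rintro _ ⟨a, ha, rfl⟩ _ ⟨b, hb, rfl⟩
            exact hlift _ (hC₀cl (Subgroup.commutator_mem_commutator ha (Subgroup.mem_top b)))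
          have hcC : ∀ a ∈ C, c * a * c⁻¹ = a := fun a ha =>
            weight_commutator ρ hρ hsol hb hb1 hP hPC (hQq.to_le hCQ) hsq hcl he hrP hx hx' ha
          -- trivial on a critical subgroup
          have hcg : c * g * c⁻¹ ∈ Q := (Subgroup.mem_normalizer_iff.mp (hQ₀ hcP) g).mp hg
          set d := g⁻¹ * (c * g * c⁻¹) with hd
          have hdQ : d ∈ Q := Q.mul_mem (Q.inv_mem hg) hcg
          have hdC : d ∈ C := by
            refine ⟨⟨d, hdQ⟩, hC₀cen (Subgroup.mem_centralizer_iff.mpr fun v hv => Subtype.ext ?_), rfl⟩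
            show (v : H) * d = d * v
            have hvC : (v : H) ∈ C := ⟨v, hv, rfl⟩
            have h1 : g * v * g⁻¹ ∈ C :=
              ⟨⟨g, hg⟩ * v * (⟨g, hg⟩ : Q)⁻¹, (inferInstance : C₀.Normal).conj_mem _ hv _, rfl⟩
            have h2 := hcC _ h1
            have h3 := hcC _ hvC
            have h4 : c * g * c⁻¹ * v * (c * g * c⁻¹)⁻¹ = g * v * g⁻¹ := by
              calc c * g * c⁻¹ * v * (c * g * c⁻¹)⁻¹
                  = c * g * c⁻¹ * (c * v * c⁻¹) * (c * g * c⁻¹)⁻¹ := by rw [h3]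
                _ = c * (g * v * g⁻¹) * c⁻¹ := by group
                _ = g * v * g⁻¹ := h2
            calc (v : H) * d = g⁻¹ * (g * v * g⁻¹) * (c * g * c⁻¹) := by rw [hd]; group
              _ = g⁻¹ * (c * g * c⁻¹ * v * (c * g * c⁻¹)⁻¹) * (c * g * c⁻¹) := by rw [h4]
              _ = d * v := by rw [hd]; group
          have hk : ∀ k : ℕ, c ^ k * g * (c ^ k)⁻¹ = g * d ^ k := by
            intro k
            induction k with
            | zero => simp
            | succ k ih =>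
              rw [pow_succ' c, show c * c ^ k * g * (c * c ^ k)⁻¹ = c * (c ^ k * g * (c ^ k)⁻¹) * c⁻¹ by group,
                ih, show c * (g * d ^ k) * c⁻¹ = g * (d * (c * d ^ k * c⁻¹)) by rw [hd]; group,
                hcC _ (C.pow_mem hdC k), ← pow_succ']
          obtain ⟨k, hk'⟩ := hP ⟨c, hcP⟩
          have h1 := hk (p ^ k)
          rw [show c ^ p ^ k = 1 from congrArg Subtype.val hk', one_mul, inv_one, mul_one] at h1
          have hdp : d ^ p ^ k = 1 := mul_eq_left.mp h1.symm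
          obtain ⟨j, hj⟩ := hQq ⟨d, hdQ⟩
          have hd1 : d = 1 := orderOf_eq_one_iff.mp (Nat.eq_one_of_dvd_coprimes
            (((Nat.coprime_primes hp.out Nat.prime_two).mpr hp2).pow k j)
            (orderOf_dvd_of_pow_eq_one hdp) (orderOf_dvd_of_pow_eq_one (congrArg Subtype.val hj)))
          rw [hd] at hd1
          exact (mul_inv_eq_iff_eq_mul.mp (inv_mul_eq_one.mp hd1).symm).symm
        · have hs : ∀ s ∈ P, s ^ p ^ (e - 1) * g = g * s ^ p ^ (e - 1) := by
            intro s hs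
            apply hρ
            rw [map_mul, map_mul]
            exact commutes_of_deg ρ hsol hp2 hqp hQq
              (fun h hh => (Subgroup.mem_normalizer_iff.mp (hQ₀ hs) h).mp hh) he (hrP s hs) (Or.inl hq2) g hg
          exact (Commute.mul_left (Commute.mul_left (Commute.mul_left (hs x hx) (hs x' hx'))
            (Commute.inv_left (hs x hx))) (Commute.inv_left (hs x' hx'))).eq.symm
      refine dvd_trans ?_ (Subgroup.card_dvd_of_le (le_inf hQR hcen))
      rw [hQ, Subgroup.card_map_of_injective R.subtype_injective, Q₀.card_eq_multiplicity]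
      exact pow_dvd_pow q ((hq.pow_dvd_iff_le_factorization Nat.card_pos.ne').mp hk)
    have := Subgroup.eq_of_le_of_card_ge inf_le_left (Nat.le_of_dvd Nat.card_pos hdvd)
    exact this ▸ inf_le_right
  have hcR : c ∈ R := TIDegree.centralizer_pPrimeCore_le hsol hO (Subgroup.mem_centralizer_iff.mpr
    fun g hg => Subgroup.mem_centralizer_singleton_iff.mp (hall hg))
  exact PSolvable.eq_one_of_mem_of_mem hP (Transfer.pPrimeCore_coprime p) hcP hcR

end CfsgLib.HallHigman
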