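import Mathlib

/-!
# Dimension bounds for intertwiners of nilpotent operators
-/

set_option autoImplicit false
set_option linter.style.haveILetI false

open Module

namespace CfsgLib.HallHigman

variable {K : Type*} [Field K]

section kernels

variable {M : Type*} [AddCommGroup M] [Module K M] [FiniteDimensional K M] (T : Module.End K M)

/-- The `k`th difference of the ranks of the powers. -/
noncomputable def drop (k : ℕ) : ℕ :=
  finrank K (LinearMap.ker T ⊓ LinearMap.range (T ^ k) : Submodule K M)

theorem rank_succ (k : ℕ) :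
    finrank K (LinearMap.range (T ^ k)) = finrank K (LinearMap.range (T ^ (k + 1))) + drop T k := by
  have h := LinearMap.finrank_range_add_finrank_ker (T.domRestrict (LinearMap.range (T ^ k)))
  rw [← h]
  congr 1
  · rw [LinearMap.range_domRestrict, pow_succ', Module.End.mul_eq_comp, LinearMap.range_comp]
  · rw [LinearMap.ker_domRestrict, drop,
      ← Submodule.finrank_map_subtype_eq _ ((LinearMap.ker T).comap (LinearMap.range (T ^ k)).subtype),
      Submodule.map_comap_subtype, inf_comm]

theorem drop_antitone {j k : ℕ} (h : j ≤ k) : drop T k ≤ drop T j := by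
  refine Submodule.finrank_mono (inf_le_inf_left _ ?_)
  rintro _ ⟨w, rfl⟩
  exact ⟨(T ^ (k - j)) w, by rw [← Module.End.mul_apply, ← pow_add, Nat.add_sub_cancel' h]⟩

theorem finrank_ker_pow (a : ℕ) :
    finrank K (LinearMap.ker (T ^ a)) = ∑ k ∈ Finset.range a, drop T k := by
  induction a with
  | zero =>
    rw [pow_zero, Finset.range_zero, Finset.sum_empty, Module.End.one_eq_id, LinearMap.ker_id,
      finrank_bot]
  | succ a ih =>
    have h1 := LinearMap.finrank_range_add_finrank_ker (T ^ a)
    have h2 := LinearMap.finrank_range_add_finrank_ker (T ^ (a + 1))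
    have h3 := rank_succ T a
    rw [Finset.sum_range_succ]
    omega

theorem mul_ker_pow_ge {a s : ℕ} (hT : T ^ s = 0) (ha : a ≤ s) :
    a * finrank K M ≤ s * finrank K (LinearMap.ker (T ^ a)) := by
  have hM : finrank K M = ∑ k ∈ Finset.range s, drop T k := by
    rw [← finrank_ker_pow, hT, LinearMap.ker_zero, finrank_top]
  rw [finrank_ker_pow, hM, ← Finset.sum_range_add_sum_Ico _ ha]
  have h1 : ∑ k ∈ Finset.Ico a s, drop T k ≤ (s - a) * drop T a := by
    refine le_trans (Finset.sum_le_card_nsmul _ _ _ fun k hk => drop_antitone T (Finset.mem_Ico.mp hk).1) ?_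
    simp
  have h2 : a * drop T a ≤ ∑ k ∈ Finset.range a, drop T k := by
    refine le_trans ?_ (Finset.card_nsmul_le_sum _ _ _ fun k hk => drop_antitone T (Finset.mem_range.mp hk).le)
    simp
  obtain ⟨b, rfl⟩ := Nat.exists_eq_add_of_le ha
  rw [Nat.add_sub_cancel_left] at h1
  nlinarith [h1, h2]

/-- The norm inequality. -/
theorem ker_add_norm_le {P : ℕ} (hP : 0 < P) (hT : T ^ P = 0) :
    finrank K (LinearMap.ker T) + (P - 1) * finrank K (LinearMap.range (T ^ (P - 1))) ≤
      finrank K M := by
  have hM : finrank K M = ∑ k ∈ Finset.range P, drop T k := by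
    rw [← finrank_ker_pow, hT, LinearMap.ker_zero, finrank_top]
  have hlast : finrank K (LinearMap.range (T ^ (P - 1))) = drop T (P - 1) := by
    have := rank_succ T (P - 1)
    rw [Nat.sub_add_cancel hP, hT, LinearMap.range_zero, finrank_bot, zero_add] at this
    exact this
  have h0 : finrank K (LinearMap.ker T) = drop T 0 := by
    have := finrank_ker_pow T 1
    rwa [pow_one, Finset.sum_range_one] at this
  obtain ⟨P, rfl⟩ : ∃ n, P = n + 1 := ⟨P - 1, by omega⟩
  rw [hM, hlast, h0, Finset.sum_range_succ', Nat.add_sub_cancel, add_comm]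
  refine Nat.add_le_add_right ?_ _
  refine le_trans ?_ (Finset.card_nsmul_le_sum (Finset.range P) _ (drop T P)
    fun k hk => drop_antitone T (Finset.mem_range.mp hk))
  simp

end kernels

/-- The intertwiners of two operators. -/
def homT {A X : Type*} [AddCommGroup A] [Module K A] [AddCommGroup X] [Module K X]
    (TA : Module.End K A) (TX : Module.End K X) : Submodule K (A →ₗ[K] X) where
  carrier := {f | f ∘ₗ TA = TX ∘ₗ f}
  add_mem' := fun {f g} hf hg => by
    simp only [Set.mem_setOf_eq] at hf hg ⊢
    rw [LinearMap.add_comp, LinearMap.comp_add, hf, hg]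
  zero_mem' := by simp
  smul_mem' := fun c f hf => by
    simp only [Set.mem_setOf_eq] at hf ⊢
    rw [LinearMap.smul_comp, LinearMap.comp_smul, hf]

theorem mem_homT {A X : Type*} [AddCommGroup A] [Module K A] [AddCommGroup X] [Module K X]
    {TA : Module.End K A} {TX : Module.End K X} {f : A →ₗ[K] X} :
    f ∈ homT TA TX ↔ ∀ w, f (TA w) = TX (f w) :=
  ⟨fun h w => LinearMap.congr_fun h w, fun h => LinearMap.ext h⟩

/-- Many intertwiners. -/
theorem mul_le_homT {X : Type*} [AddCommGroup X] [Module K X] [FiniteDimensional K X]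
    (TX : Module.End K X) {s : ℕ} (hX : TX ^ s = 0) :
    ∀ (n : ℕ) (A : Type*) [AddCommGroup A] [Module K A] [FiniteDimensional K A] (TA : Module.End K A),
      TA ^ s = 0 → finrank K A = n → n * finrank K X ≤ s * finrank K (homT TA TX) := by
  intro n
  induction n using Nat.strong_induction_on with
  | _ n IH =>
  intro A _ _ _ TA hA hn
  rcases Nat.eq_zero_or_pos n with h0 | h0
  · simp [h0]
  classical
  have hex : ∃ k, TA ^ k = 0 := ⟨s, hA⟩
  set a := Nat.find hex with ha
  have ha0 : TA ^ a = 0 := Nat.find_spec hex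
  have has : a ≤ s := Nat.find_min' hex hA
  haveI : Nontrivial A := Module.nontrivial_of_finrank_pos (R := K) (hn ▸ h0)
  have hapos : 0 < a := by
    rcases Nat.eq_zero_or_pos a with e | e
    · rw [e, pow_zero] at ha0; exact absurd ha0 one_ne_zero
    · exact e
  have hlast : TA ^ (a - 1) ≠ 0 := Nat.find_min hex (show a - 1 < a by omega)
  obtain ⟨v, hv⟩ : ∃ v, (TA ^ (a - 1)) v ≠ 0 := by
    by_contra hc; push Not at hc; exact hlast (LinearMap.ext hc)
  obtain ⟨φ, hφ⟩ := Module.Projective.exists_dual_ne_zero K hv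
  have hvan : ∀ i, a ≤ i → ∀ w, (TA ^ i) w = 0 := fun i hi w => by
    rw [← Nat.sub_add_cancel hi, pow_add, ha0, mul_zero, LinearMap.zero_apply]
  -- coordinates on the cyclic summand
  let Φ : A →ₗ[K] (Fin a → K) := LinearMap.pi fun k => φ ∘ₗ (TA ^ (k : ℕ))
  let Ξ : (Fin a → K) →ₗ[K] A := Fintype.linearCombination K (fun i : Fin a => (TA ^ (i : ℕ)) v)
  have hΦΞ : Function.Injective (Φ ∘ₗ Ξ) := by
    rw [← LinearMap.ker_eq_bot, LinearMap.ker_eq_bot']
    intro c hc
    by_contra hne
    have hne' : (Finset.univ.filter fun i => c i ≠ 0).Nonempty := by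
      obtain ⟨i, hi⟩ := Function.ne_iff.mp hne; exact ⟨i, by simpa using hi⟩
    obtain ⟨i0, hi0, hmin⟩ := Finset.exists_min_image _ (fun i : Fin a => (i : ℕ)) hne'
    have hk : a - 1 - (i0 : ℕ) < a := by omega
    have h1 := congrFun hc ⟨_, hk⟩
    simp only [Φ, Ξ, LinearMap.comp_apply, LinearMap.pi_apply, Fintype.linearCombination_apply,
      map_sum, map_smul, Pi.zero_apply] at h1
    rw [Finset.sum_eq_single i0] at h1
    · rw [← Module.End.mul_apply, ← pow_add, show a - 1 - (i0 : ℕ) + (i0 : ℕ) = a - 1 by omega,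
        smul_eq_mul] at h1
      exact (Finset.mem_filter.mp hi0).2 ((mul_eq_zero.mp h1).resolve_right hφ)
    · intro i _ hi
      by_cases hci : c i = 0
      · simp [hci]
      · have := hmin i (Finset.mem_filter.mpr ⟨Finset.mem_univ _, hci⟩)
        have hlt : (i0 : ℕ) < i := lt_of_le_of_ne this (fun e => hi (Fin.ext e.symm))
        rw [← Module.End.mul_apply, ← pow_add, hvan _ (by omega), map_zero, smul_zero]
    · exact fun h => absurd (Finset.mem_univ _) h
  have hΦΞs : Function.Surjective (Φ ∘ₗ Ξ) := LinearMap.injective_iff_surjective.mp hΦΞ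
  set A' := LinearMap.ker Φ with hA'
  have hinv : ∀ w ∈ A', TA w ∈ A' := by
    intro w hw
    rw [hA', LinearMap.mem_ker] at hw ⊢
    funext k
    show φ ((TA ^ (k : ℕ)) (TA w)) = 0
    rw [← Module.End.mul_apply, ← pow_succ]
    by_cases hk : (k : ℕ) + 1 < a
    · exact congrFun hw ⟨_, hk⟩
    · rw [hvan _ (by omega), map_zero]
  let T' : Module.End K A' := TA.restrict hinv
  let Ψ : ((Fin a → K) × A') →ₗ[K] A := Ξ.coprod A'.subtype
  have hΨ : Function.Bijective Ψ := by
    constructor
    · rw [← LinearMap.ker_eq_bot, LinearMap.ker_eq_bot']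
      rintro ⟨c, u⟩ h
      have h1 : Ξ c + (u : A) = 0 := h
      have hc : c = 0 := hΦΞ (by
        have h2 := congrArg Φ h1
        rw [map_add, map_zero, show Φ u = 0 from u.2, add_zero] at h2
        simpa using h2)
      subst hc
      rw [map_zero, zero_add] at h1
      exact Prod.ext rfl (Subtype.ext h1)
    · intro w
      obtain ⟨c, hc⟩ := hΦΞs (Φ w)
      have hc' : Φ (Ξ c) = Φ w := hc
      exact ⟨(c, ⟨w - Ξ c, by rw [hA', LinearMap.mem_ker, map_sub, hc', sub_self]⟩),
        show Ξ c + (w - Ξ c) = w by abel⟩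
  let e : ((Fin a → K) × A') ≃ₗ[K] A := LinearEquiv.ofBijective Ψ hΨ
  have he : ∀ c u, e (c, u) = Ξ c + (u : A) := fun c u => rfl
  have hdim : finrank K A' < n := by
    have := e.finrank_eq
    rw [Module.finrank_prod, Module.finrank_fin_fun, hn] at this
    omega
  have hT' : T' ^ s = 0 := by
    refine LinearMap.ext fun u => Subtype.ext ?_
    have key : ∀ j : ℕ, (((T' ^ j) u : A') : A) = (TA ^ j) u := by
      intro j
      induction j with
      | zero => rfl
      | succ j ih => rw [pow_succ', pow_succ', Module.End.mul_apply, Module.End.mul_apply, ← ih]; rfl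
    rw [key, hA]; rfl
  have ihA := IH _ hdim A' T' hT' rfl
  -- the intertwiners
  let Bld : (X × (A' →ₗ[K] X)) →ₗ[K] (A →ₗ[K] X) :=
    { toFun := fun wg => ((Fintype.linearCombination K (fun i : Fin a => (TX ^ (i : ℕ)) wg.1)).coprod wg.2) ∘ₗ
          e.symm.toLinearMap
      map_add' := fun p q => by
        refine LinearMap.ext fun x => ?_
        simp [Fintype.linearCombination_apply, smul_add, Finset.sum_add_distrib]
        abel
      map_smul' := fun r p => by
        refine LinearMap.ext fun x => ?_
        simp [Fintype.linearCombination_apply, Finset.smul_sum, smul_comm r] }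
  have hBld : ∀ w g c u, Bld (w, g) (e (c, u)) =
      (∑ i, c i • (TX ^ (i : ℕ)) w) + g u := fun w g c u => by
    show ((Fintype.linearCombination K (fun i : Fin a => (TX ^ (i : ℕ)) w)).coprod g)
      (e.symm (e (c, u))) = _
    rw [e.symm_apply_apply, LinearMap.coprod_apply, Fintype.linearCombination_apply]
  let R : Submodule K (X × (A' →ₗ[K] X)) := (LinearMap.ker (TX ^ a)).prod (homT T' TX)
  have hmap : ∀ r ∈ R, Bld r ∈ homT TA TX := by
    rintro ⟨w, g⟩ ⟨hw, hg⟩
    rw [SetLike.mem_coe, LinearMap.mem_ker] at hw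
    have hgen : ∀ i : ℕ, Bld (w, g) ((TA ^ i) v) = (TX ^ i) w := by
      intro i
      by_cases hi : i < a
      · have h0 := hBld w g (Pi.single ⟨i, hi⟩ 1) 0
        rw [he, show Ξ (Pi.single ⟨i, hi⟩ 1) = (TA ^ i) v by
          simp [Ξ, Fintype.linearCombination_apply, Pi.single_apply],
          ZeroMemClass.coe_zero, add_zero, map_zero, add_zero] at h0
        rw [h0]
        simp [Pi.single_apply]
      · rw [hvan i (by omega), map_zero, ← Nat.sub_add_cancel (show a ≤ i by omega), pow_add,
          Module.End.mul_apply, hw, map_zero]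
    have hu : ∀ u : A', Bld (w, g) (u : A) = g u := fun u => by
      have h0 := hBld w g 0 u
      rw [he, map_zero, zero_add] at h0
      rw [h0]; simp
    rw [mem_homT]
    intro x
    obtain ⟨⟨c, u⟩, rfl⟩ := e.surjective x
    rw [he, map_add, map_add, map_add, map_add]
    congr 1
    · simp only [Ξ, Fintype.linearCombination_apply, map_sum, map_smul]
      refine Finset.sum_congr rfl fun i _ => ?_
      rw [← Module.End.mul_apply, ← pow_succ', hgen, hgen, pow_succ', Module.End.mul_apply]
    · rw [hu, show TA (u : A) = ((T' u : A') : A) from rfl, hu]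
      exact mem_homT.mp hg u
  have hinj : Function.Injective (Bld.restrict hmap) := by
    rw [← LinearMap.ker_eq_bot, LinearMap.ker_eq_bot']
    rintro ⟨⟨w, g⟩, hr⟩ h
    have h1 : Bld (w, g) = 0 := congrArg Subtype.val h
    have hw : w = 0 := by
      have h2 := hBld w g (Pi.single ⟨0, hapos⟩ 1) 0
      rw [h1] at h2
      simpa [Pi.single_apply] using h2.symm
    have hg : g = 0 := LinearMap.ext fun u => by
      have h2 := hBld w g 0 u
      rw [h1] at h2
      simpa using h2.symm
    exact Subtype.ext (Prod.ext hw hg)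
  have hle := LinearMap.finrank_le_finrank_of_injective hinj
  have hR : finrank K R = finrank K (LinearMap.ker (TX ^ a)) + finrank K (homT T' TX) := by
    let er : R ≃ₗ[K] (LinearMap.ker (TX ^ a) × homT T' TX) :=
      { toFun := fun x => (⟨x.1.1, x.2.1⟩, ⟨x.1.2, x.2.2⟩)
        invFun := fun x => ⟨(x.1.1, x.2.1), x.1.2, x.2.2⟩
        left_inv := fun x => rfl
        right_inv := fun x => rfl
        map_add' := fun x y => rfl
        map_smul' := fun r x => rfl }
    rw [er.finrank_eq, Module.finrank_prod]
  have hsum : n = a + finrank K A' := by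
    have := e.finrank_eq
    rw [Module.finrank_prod, Module.finrank_fin_fun, hn] at this
    omega
  rw [hR] at hle
  calc n * finrank K X = a * finrank K X + finrank K A' * finrank K X := by rw [hsum, add_mul]
    _ ≤ s * finrank K (LinearMap.ker (TX ^ a)) + s * finrank K (homT T' TX) :=
        Nat.add_le_add (mul_ker_pow_ge TX hX has) ihA
    _ ≤ _ := by rw [← mul_add]; exact Nat.mul_le_mul_left s hle

/-- A nilpotent operator of index at most `s` has a centraliser of dimension at least `N² / s`. -/
theorem sq_le_mul_centralizer {X : Type*} [AddCommGroup X] [Module K X] [FiniteDimensional K X]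
    (T : Module.End K X) {s : ℕ} (hT : T ^ s = 0) :
    finrank K X ^ 2 ≤ s * finrank K (homT T T) := by
  have := mul_le_homT T hT (finrank K X) X T hT rfl
  rwa [← sq] at this

end CfsgLib.HallHigman
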