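import Cfsg.Agent.Lib.HallHigman.PLength
import Cfsg.Prelude.Def_LocalEven

/-!
Away from the exception, `p`-length above one forces a section `C_p ≀ C_p` in the Sylow
`p`-subgroups.
-/

set_option autoImplicit false
set_option linter.style.haveILetI false
set_option linter.unusedSectionVars false

open scoped commutatorElement

namespace CfsgLib.HallHigman

variable {p : ℕ} [hp : Fact p.Prime]

/-- The shape of `C_p ≀ C_p`. -/
def IsWr (p : ℕ) (W : Type*) [Group W] : Prop :=
  ∃ (B : Subgroup W) (t : W), B.Normal ∧ IsMulCommutative B ∧ (∀ b ∈ B, b ^ p = 1) ∧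
    Nat.card B = p ^ p ∧ orderOf t = p ∧ t ∉ B ∧ Nat.card W = p ^ (p + 1) ∧
    Nat.card ↥(B ⊓ Subgroup.centralizer ({t} : Set W)) = p

theorem IsWr.of_equiv {X W : Type*} [Group X] [Group W] (e : X ≃* W) (h : IsWr p X) : IsWr p W := by
  obtain ⟨B, t, hB, hc, hexp, hcard, ht, htB, hX, hfix⟩ := h
  refine ⟨B.map e.toMonoidHom, e t, hB.map _ e.surjective, ?_, ?_, ?_, ?_, ?_, ?_, ?_⟩
  · refine ⟨⟨?_⟩⟩
    rintro ⟨_, a, ha, rfl⟩ ⟨_, b, hb, rfl⟩
    refine Subtype.ext ?_
    show e a * e b = e b * e a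
    rw [← map_mul, ← map_mul]
    exact congrArg e (congrArg Subtype.val (hc.is_comm.comm ⟨a, ha⟩ ⟨b, hb⟩))
  · rintro _ ⟨b, hb, rfl⟩
    rw [← map_pow, hexp b hb, map_one]
  · rw [Subgroup.card_map_of_injective (f := e.toMonoidHom) e.injective, hcard]
  · rw [e.orderOf_eq, ht]
  · exact fun hm => htB ((Subgroup.mem_map_iff_mem (f := e.toMonoidHom) e.injective).mp hm)
  · rw [← Nat.card_congr e.toEquiv, hX]
  · have : B.map e.toMonoidHom ⊓ Subgroup.centralizer ({e t} : Set W) =
        (B ⊓ Subgroup.centralizer ({t} : Set X)).map e.toMonoidHom := by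
      ext w
      obtain ⟨a, rfl⟩ := e.surjective w
      rw [show e a = e.toMonoidHom a from rfl, Subgroup.mem_map_iff_mem e.injective,
        Subgroup.mem_inf, Subgroup.mem_inf, Subgroup.mem_map_iff_mem e.injective,
        Subgroup.mem_centralizer_singleton_iff, Subgroup.mem_centralizer_singleton_iff]
      refine and_congr_right fun _ => ?_
      show e a * e t = e t * e a ↔ a * t = t * a
      rw [← map_mul, ← map_mul, e.injective.eq_iff]
    rw [this, Subgroup.card_map_of_injective (f := e.toMonoidHom) e.injective, hfix]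

/-- The last iterate of `a ↦ σ a / a` is the norm. -/
theorem iterate_facts {A : Type*} [CommGroup A] [Finite A] (hA : ∀ a : A, a ^ p = 1) (σ : MulAut A)
    (hσ : σ ^ p = 1) (D : A →* A) (hD : ∀ a, D a = σ a / a) (a : A) :
    D^[p] a = 1 ∧
      ∀ f : ℕ → A, f 0 = 1 → (∀ i, f (i + 1) = a * σ (f i)) → f p = D^[p - 1] a := by
  classical
  rcases subsingleton_or_nontrivial A with hs | hnt
  · exact ⟨Subsingleton.elim _ _, fun f _ _ => Subsingleton.elim _ _⟩
  letI : Module (ZMod p) (Additive A) :=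
    AddCommGroup.zmodModule (n := p) (G := Additive A) fun v =>
      Additive.toMul.injective (hA (Additive.toMul v))
  haveI : Nontrivial (Additive A) := inferInstanceAs (Nontrivial A)
  haveI : CharP (Module.End (ZMod p) (Additive A)) p := charP_end p (Additive A)
  let ρ : MulAut A →* Module.End (ZMod p) (Additive A) := endOfAut (MonoidHom.id (MulAut A))
  have hit : ∀ k, Additive.ofMul (D^[k] a) = ((ρ σ - 1) ^ k) (Additive.ofMul a) := by
    intro k
    induction k with
    | zero => rfl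
    | succ k ih =>
      rw [Function.iterate_succ_apply', hD, ofMul_div, pow_succ', Module.End.mul_apply, ← ih,
        LinearMap.sub_apply, Module.End.one_apply]
      rfl
  refine ⟨?_, fun f h0 hs => ?_⟩
  · apply Additive.ofMul.injective
    have h1 : (ρ σ - 1) ^ p = 0 := by
      rw [sub_pow_char_of_commute p (Commute.one_right _), ← map_pow, hσ, map_one, one_pow, sub_self]
    rw [hit, h1]
    rfl
  · apply Additive.ofMul.injective
    have hgeom : (ρ σ - 1) ^ (p - 1) = ∑ i ∈ Finset.range p, ρ σ ^ i := by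
      have h := sub_one_pow_eq_geom (p := p) (ρ σ) 1
      simpa using h
    rw [hit, hgeom]
    have key : ∀ N, Additive.ofMul (f N) = (∑ i ∈ Finset.range N, ρ σ ^ i) (Additive.ofMul a) := by
      intro N
      induction N with
      | zero => rw [h0]; rfl
      | succ N ih =>
        rw [hs, ofMul_mul, show Additive.ofMul (σ (f N)) = ρ σ (Additive.ofMul (f N)) from rfl, ih,
          Finset.sum_range_succ', LinearMap.add_apply, pow_zero, Module.End.one_apply, add_comm,
          LinearMap.sum_apply, LinearMap.sum_apply, map_sum]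
        congr 1
        refine Finset.sum_congr rfl fun i _ => ?_
        rw [pow_succ']
        rfl
    exact key p

/-- A chain `a, D a, …` of full length spans a subgroup of order `p ^ p`. -/
theorem chain_card {A : Type*} [CommGroup A] [Finite A] (hA : ∀ a : A, a ^ p = 1) (D : A →* A) (a : A)
    (h1 : D^[p] a = 1) (h2 : D^[p - 1] a ≠ 1) :
    ∃ B : Subgroup A, a ∈ B ∧ (∀ b ∈ B, D b ∈ B) ∧ Nat.card B = p ^ p ∧
      Nat.card ↥(B ⊓ D.ker) = p ∧ D^[p - 1] a ∈ B ⊓ D.ker := by
  classical
  let C : ℕ → Subgroup A := fun j => Subgroup.closure ((fun i => D^[i] a) '' Set.Ici j)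
  have hone : ∀ i, D^[i] (1 : A) = 1 := fun i => iterate_map_one D i
  have hhigh : ∀ i, p ≤ i → D^[i] a = 1 := fun i hi => by
    rw [show i = i - p + p by omega, Function.iterate_add_apply, h1, hone]
  have hCp : C p = ⊥ := by
    simp only [C, Subgroup.closure_eq_bot_iff]
    rintro _ ⟨i, hi, rfl⟩
    exact hhigh i hi
  have hmapC : ∀ j, (C j).map D = C (j + 1) := by
    intro j
    simp only [C, MonoidHom.map_closure, Set.image_image]
    congr 1
    ext x
    constructor
    · rintro ⟨i, hi, rfl⟩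
      exact ⟨i + 1, Nat.succ_le_succ hi, Function.iterate_succ_apply' _ _ _⟩
    · rintro ⟨i, hi, rfl⟩
      refine ⟨i - 1, Nat.le_sub_one_of_lt (Nat.lt_of_succ_le hi), ?_⟩
      show D (D^[i - 1] a) = D^[i] a
      rw [← Function.iterate_succ_apply' D (i - 1) a,
        show (i - 1).succ = i by have : j + 1 ≤ i := hi; omega]
  have hdec : ∀ j, C j = Subgroup.zpowers (D^[j] a) ⊔ C (j + 1) := by
    intro j
    simp only [C, Subgroup.zpowers_eq_closure, ← Subgroup.closure_union, Set.singleton_union]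
    congr 1
    ext x
    constructor
    · rintro ⟨i, hi, rfl⟩
      rcases (Nat.lt_or_eq_of_le (Set.mem_Ici.mp hi)) with h | h
      · exact Or.inr ⟨i, h, rfl⟩
      · exact Or.inl (by rw [h])
    · rintro (rfl | ⟨i, hi, rfl⟩)
      · exact ⟨j, Set.mem_Ici.mpr le_rfl, rfl⟩
      · exact ⟨i, Nat.le_of_succ_le hi, rfl⟩
  have hnot : ∀ j, j < p → D^[j] a ∉ C (j + 1) := by
    intro j hj hmem
    refine h2 ?_
    have hk : ∀ k, D^[k + j] a ∈ C (j + 1 + k) := by
      intro k
      induction k with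
      | zero => simpa using hmem
      | succ k ih =>
        rw [show j + 1 + (k + 1) = j + 1 + k + 1 by omega, ← hmapC,
          show k + 1 + j = k + j + 1 by omega, Function.iterate_succ_apply']
        exact ⟨_, ih, rfl⟩
    have := hk (p - 1 - j)
    rwa [show p - 1 - j + j = p - 1 by omega, show j + 1 + (p - 1 - j) = p by omega, hCp,
      Subgroup.mem_bot] at this
  have hcard : ∀ k, k ≤ p → Nat.card (C (p - k)) = p ^ k := by
    intro k
    induction k with
    | zero => intro _; rw [Nat.sub_zero, hCp, Subgroup.card_bot, pow_zero]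
    | succ k ih =>
      intro hk
      set j := p - (k + 1) with hj
      have hj1 : j + 1 = p - k := by omega
      have hinf : Subgroup.zpowers (D^[j] a) ⊓ C (j + 1) = ⊥ := by
        rw [eq_bot_iff]
        intro x hx
        obtain ⟨hx1, hx2⟩ := Subgroup.mem_inf.mp hx
        obtain ⟨i, rfl⟩ := Subgroup.mem_zpowers_iff.mp hx1
        rw [Subgroup.mem_bot]
        set c := D^[j] a with hc
        have hco : orderOf c = p := orderOf_eq_prime (hA c) fun e => hnot j (by omega)
          (by rw [← hc, e]; exact one_mem _)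
        rw [← orderOf_dvd_iff_zpow_eq_one, hco]
        by_contra hdvd
        obtain ⟨u, v, huv⟩ := ((Int.prime_iff_natAbs_prime.mpr (by simpa using hp.out) :
          Prime (p : ℤ)).coprime_iff_not_dvd.mpr hdvd)
        refine hnot j (by omega) ?_
        have : c = (c ^ i) ^ v := by
          conv_lhs => rw [← zpow_one c, ← huv, zpow_add, mul_comm u, zpow_mul, zpow_natCast, hA,
            one_zpow, one_mul, mul_comm v, zpow_mul]
        rw [← hc, this]
        exact (C (j + 1)).zpow_mem hx2 v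
      have hprod := Subgroup.card_mul_index (C (j + 1))
      have h3 := Coprime.card_sup_mul_card_inf (K := C (j + 1)) (S := Subgroup.zpowers (D^[j] a))
        Subgroup.le_normalizer_of_normal
      rw [sup_comm, ← hdec, inf_comm, hinf, Subgroup.card_bot, mul_one, Nat.card_zpowers, hj1,
        ih (by omega), orderOf_eq_prime (hA _) (fun e => hnot j (by omega) (by rw [e]; exact one_mem _))]
        at h3
      rw [h3, pow_succ]
  refine ⟨C 0, Subgroup.subset_closure ⟨0, Set.mem_Ici.mpr le_rfl, rfl⟩, fun b hb => ?_, ?_, ?_, ?_⟩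
  · have h3 : D b ∈ C 1 := by rw [← hmapC]; exact ⟨b, hb, rfl⟩
    rw [hdec 0]
    exact Subgroup.mem_sup_right h3
  · simpa using hcard p le_rfl
  · let g := D.comp (C 0).subtype
    have hr : g.range = C 1 := by
      rw [MonoidHom.range_comp, Subgroup.range_subtype, hmapC]
    have hk : g.ker.map (C 0).subtype = C 0 ⊓ D.ker := by
      ext x
      constructor
      · rintro ⟨y, hy, rfl⟩
        exact ⟨y.2, hy⟩
      · rintro ⟨hx1, hx2⟩
        exact ⟨⟨x, hx1⟩, hx2, rfl⟩
    rw [← hk, Subgroup.card_map_of_injective (C 0).subtype_injective]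
    have h3 := g.ker.card_mul_index
    rw [Subgroup.index_ker, hr] at h3
    have h4 := hcard (p - 1) (Nat.sub_le p 1)
    rw [show p - (p - 1) = 1 by have := hp.out.one_le; omega] at h4
    have h5 := hcard p le_rfl
    rw [Nat.sub_self] at h5
    rw [h4, h5] at h3
    have h6 : p ^ p = p * p ^ (p - 1) := by
      rw [← pow_succ', Nat.sub_add_cancel hp.out.one_le]
    rw [h6] at h3
    exact Nat.eq_of_mul_eq_mul_right (Nat.pow_pos hp.out.pos) h3
  · refine ⟨Subgroup.subset_closure ⟨p - 1, Nat.zero_le _, rfl⟩, ?_⟩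
    show D (D^[p - 1] a) = 1
    rw [← Function.iterate_succ_apply' D (p - 1) a,
      show (p - 1).succ = p by have := hp.out.one_le; omega, h1]

variable {Q : Type*} [Group Q] [Finite Q]

/-- A full Jordan block of an element of order `p` modulo `A` gives a wreath section. -/
theorem wreath_section (A : Subgroup Q) [A.Normal] (hc : ∀ a ∈ A, ∀ b ∈ A, a * b = b * a)
    (hexp : ∀ a ∈ A, a ^ p = 1) (y : Q) (hyA : y ∉ A) (hyp : y ^ p ∈ A) (v : Q) (hv : v ∈ A)
    (hne : (v * y) ^ p * (y ^ p)⁻¹ ≠ 1) :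
    ∃ (K R : Subgroup Q) (_ : (R.subgroupOf K).Normal), IsPGroup p K ∧ IsWr p (K ⧸ R.subgroupOf K) := by
  classical
  letI : CommGroup A := { (inferInstance : Group A) with
    mul_comm := fun a b => Subtype.ext (hc a a.2 b b.2) }
  have hA : ∀ a : A, a ^ p = 1 := fun a => Subtype.ext (hexp a a.2)
  set σ : MulAut A := MulAut.conjNormal y with hσdef
  have hσc : ∀ a : A, Subtype.val (σ a) = y * a * y⁻¹ := fun a => MulAut.conjNormal_apply y a
  have hσ : σ ^ p = 1 := by
    rw [hσdef, ← map_pow]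
    refine MulEquiv.ext fun a => Subtype.ext ?_
    rw [MulAut.conjNormal_apply, hc _ hyp _ a.2, mul_inv_cancel_right]
    rfl
  let D : A →* A := σ.toMonoidHom / MonoidHom.id A
  have hD : ∀ a, D a = σ a / a := fun a => rfl
  obtain ⟨h1, h2⟩ := iterate_facts hA σ hσ D hD ⟨v, hv⟩
  let w : ℕ → A := fun N => Nat.rec (motive := fun _ => A) 1 (fun _ u => ⟨v, hv⟩ * σ u) N
  have hw : ∀ (N : ℕ), Subtype.val (w N) = (v * y) ^ N * (y ^ N)⁻¹ := by
    intro N
    induction N with
    | zero => simp [w]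
    | succ N ih =>
      show (v * Subtype.val (σ (w N))) = _
      rw [hσc, ih, pow_succ', pow_succ' y]
      group
  have hlast : D^[p - 1] ⟨v, hv⟩ ≠ 1 := by
    rw [← h2 w rfl (fun i => rfl)]
    intro e
    exact hne (by rw [← hw, e]; rfl)
  obtain ⟨B, hvB, hDB, hBcard, hfix, hN⟩ := chain_card hA D ⟨v, hv⟩ h1 hlast
  -- replace `y` to make its `p`-th power avoid `B`
  obtain ⟨y', hy'σ, hy'A, hy'p, hy'B⟩ : ∃ y' : Q, MulAut.conjNormal y' = σ ∧ y' ∉ A ∧ y' ^ p ∈ A ∧
      ∀ b ∈ B, (b : Q) = y' ^ p → y' ^ p = 1 := by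
    by_cases hin : ∃ b ∈ B, (b : Q) = y ^ p
    swap
    · exact ⟨y, rfl, hyA, hyp, fun b hb e => absurd ⟨b, hb, e⟩ hin⟩
    obtain ⟨b, hb, hby⟩ := hin
    have hbk : b ∈ B ⊓ D.ker := ⟨hb, by
      show D b = 1
      rw [hD, div_eq_one]
      refine Subtype.ext ?_
      rw [hσc, hby, (Commute.self_pow y p).eq, mul_inv_cancel_right]⟩
    set u : A := D^[p - 1] ⟨v, hv⟩ with hu
    have hgen : Subgroup.zpowers u = B ⊓ D.ker :=
      Subgroup.eq_of_le_of_card_ge (Subgroup.zpowers_le.mpr hN)
        (by rw [hfix, Nat.card_zpowers, orderOf_eq_prime (hA u) hlast])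
    obtain ⟨k, hk⟩ := mem_powers_iff_mem_zpowers.mpr (hgen ▸ hbk)
    change u ^ k = b at hk
    obtain ⟨k', hk'⟩ : ∃ k' : ℕ, u ^ k' = b⁻¹ := by
      refine ⟨k * (p - 1), ?_⟩
      rw [pow_mul, hk]
      refine eq_inv_of_mul_eq_one_left ?_
      rw [← pow_succ, Nat.sub_add_cancel hp.out.one_le, hA]
    set a : A := ⟨v, hv⟩ ^ k' with ha
    refine ⟨(a : Q) * y, ?_, ?_, ?_, ?_⟩
    · refine MulEquiv.ext fun z => Subtype.ext ?_
      rw [MulAut.conjNormal_apply, hσc,
        show (a : Q) * y * z * ((a : Q) * y)⁻¹ = (a : Q) * (y * z * y⁻¹) * (a : Q)⁻¹ by group,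
        ← hσc, hc _ a.2 _ (σ z).2, mul_inv_cancel_right]
    · intro h
      exact hyA (by simpa using A.mul_mem (A.inv_mem a.2) h)
    all_goals
      have hpow : ((a : Q) * y) ^ p = 1 := by
        let f : ℕ → A := fun N => Nat.rec (motive := fun _ => A) 1 (fun _ u => a * σ u) N
        have hf : ∀ (N : ℕ), Subtype.val (f N) = ((a : Q) * y) ^ N * (y ^ N)⁻¹ := by
          intro N
          induction N with
          | zero => simp [f]
          | succ N ih =>
            show ((a : Q) * Subtype.val (σ (f N))) = _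
            rw [hσc, ih, pow_succ', pow_succ' y]
            group
        have h3 : f p = b⁻¹ := by
          rw [(iterate_facts hA σ hσ D hD a).2 f rfl (fun i => rfl), ha,
            iterate_map_pow D, ← hu, hk']
        have h4 := hf p
        rw [h3, ← hby, Subgroup.coe_inv] at h4
        calc ((a : Q) * y) ^ p = ((a : Q) * y) ^ p * (b : Q)⁻¹ * (b : Q) := by group
          _ = 1 := by rw [← h4, inv_mul_cancel]
    · rw [hpow]; exact one_mem _
    · exact fun _ _ _ => hpow
  -- the section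
  set B' : Subgroup Q := B.map A.subtype with hB'
  have hB'A : B' ≤ A := Subgroup.map_subtype_le B
  have hy'c : ∀ a : A, Subtype.val (σ a) = y' * a * y'⁻¹ := fun a => by
    rw [← hy'σ]; exact MulAut.conjNormal_apply y' a
  have hyN : y' ∈ Subgroup.normalizer (B' : Set Q) := by
    have hsub : B'.map (MulAut.conj y').toMonoidHom ≤ B' := by
      rintro _ ⟨_, ⟨b, hb, rfl⟩, rfl⟩
      refine ⟨σ b, ?_, hy'c b⟩
      rw [show σ b = D b * b by rw [hD, div_mul_cancel]]
      exact B.mul_mem (hDB b hb) hb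
    exact (Subgroup.mem_normalizer_iff_map_conj_eq).mpr (Subgroup.eq_of_le_of_card_ge hsub
      (le_of_eq (Subgroup.card_map_of_injective (f := (MulAut.conj y').toMonoidHom)
        (MulAut.conj y').injective).symm))
  set K := B' ⊔ Subgroup.zpowers y' with hK
  set R := Subgroup.zpowers (y' ^ p) with hR
  have hRc : K ≤ Subgroup.centralizer (R : Set Q) := by
    have h0 : Commute y' (y' ^ p) := Commute.self_pow y' p
    refine sup_le (fun b hb => ?_) (Subgroup.zpowers_le.mpr ?_)
    all_goals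
      rw [Subgroup.mem_centralizer_iff]
      intro r hr
      obtain ⟨i, rfl⟩ := Subgroup.mem_zpowers_iff.mp hr
    · exact hc _ (A.zpow_mem hy'p i) _ (hB'A hb)
    · exact (h0.zpow_right i).symm.eq
  have hRK : R ≤ K := Subgroup.zpowers_le.mpr
    (Subgroup.mem_sup_right (Subgroup.npow_mem_zpowers y' p))
  haveI hRn : (R.subgroupOf K).Normal := (Subgroup.normal_subgroupOf_iff_le_normalizer hRK).mpr
    (hRc.trans (Subgroup.centralizer_le_normalizer _))
  have hB'R : ∀ b ∈ B', b ∈ R → b = 1 := by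
    intro b hb hbR
    obtain ⟨i, rfl⟩ := Subgroup.mem_zpowers_iff.mp hbR
    by_cases hz : y' ^ p = 1
    · rw [hz, one_zpow]
    · by_contra hne
      have ho : orderOf (y' ^ p) = p := orderOf_eq_prime (hexp _ hy'p) hz
      have h5 : Subgroup.zpowers ((y' ^ p) ^ i) = R :=
        Subgroup.eq_of_le_of_card_ge (Subgroup.zpowers_le.mpr hbR)
          (by rw [hR, Nat.card_zpowers, Nat.card_zpowers, ho,
            orderOf_eq_prime (hexp _ (A.zpow_mem hy'p i)) hne])
      obtain ⟨b', hb', e⟩ := (h5 ▸ Subgroup.zpowers_le.mpr hb : R ≤ B') (Subgroup.mem_zpowers (y' ^ p))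
      exact hz (hy'B b' hb' e)
  refine ⟨K, R, hRn, ?_, ?_⟩
  · have hAp : IsPGroup p A := fun a => ⟨1, by rw [pow_one]; exact hA a⟩
    refine (IsPGroup.to_sup_of_normal_left hAp ?_).to_le (sup_le_sup_right hB'A _)
    have hy2 : y' ^ p ^ 2 = 1 := by rw [pow_two, pow_mul, hexp _ hy'p]
    rintro ⟨z, hz⟩
    obtain ⟨i, rfl⟩ := Subgroup.mem_zpowers_iff.mp hz
    refine ⟨2, Subtype.ext ?_⟩
    show (y' ^ i) ^ p ^ 2 = 1
    rw [← zpow_natCast, ← zpow_mul, mul_comm i, zpow_mul, zpow_natCast, hy2, one_zpow]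
  let π := QuotientGroup.mk' (R.subgroupOf K)
  let jB : B' →* K := Subgroup.inclusion le_sup_left
  let yK : K := ⟨y', Subgroup.mem_sup_right (Subgroup.mem_zpowers y')⟩
  set BX : Subgroup (K ⧸ R.subgroupOf K) := (π.comp jB).range with hBX
  set t := π yK with ht
  have hinj : Function.Injective (π.comp jB) := by
    rw [injective_iff_map_eq_one]
    intro b hb
    exact Subtype.ext (hB'R b b.2 ((QuotientGroup.eq_one_iff _).mp hb : jB b ∈ R.subgroupOf K))
  have htp : t ^ p = 1 := by
    rw [ht, ← map_pow]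
    exact (QuotientGroup.eq_one_iff _).mpr (Subgroup.mem_zpowers (y' ^ p))
  have htB : t ∉ BX := by
    rintro ⟨b, hb⟩
    have h6' : (jB b)⁻¹ * yK ∈ R.subgroupOf K := QuotientGroup.eq.mp hb
    have h6 : (b : Q)⁻¹ * y' ∈ R := h6'
    exact hy'A (by simpa using A.mul_mem (hB'A b.2) ((Subgroup.zpowers_le.mpr hy'p) h6))
  have hto : orderOf t = p := orderOf_eq_prime htp fun e => htB (e ▸ one_mem _)
  have hBXeq : BX = (B'.subgroupOf K).map π := by
    rw [hBX, MonoidHom.range_comp]
    congr 1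
    ext x
    exact ⟨fun ⟨b, e⟩ => e ▸ b.2, fun h => ⟨⟨x, h⟩, rfl⟩⟩
  haveI hBn : BX.Normal := by
    rw [hBXeq]
    refine Subgroup.Normal.map ((Subgroup.normal_subgroupOf_iff_le_normalizer le_sup_left).mpr ?_) π
      (QuotientGroup.mk'_surjective _)
    exact sup_le Subgroup.le_normalizer (Subgroup.zpowers_le.mpr hyN)
  have hBc : Nat.card BX = p ^ p := by
    rw [hBX, Nat.card_congr (MonoidHom.ofInjective hinj).toEquiv.symm, hB',
      Subgroup.card_map_of_injective A.subtype_injective, hBcard]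
  refine ⟨BX, t, hBn, ?_, ?_, hBc, hto, htB, ?_, ?_⟩
  · refine ⟨⟨?_⟩⟩
    rintro ⟨_, a, rfl⟩ ⟨_, b, rfl⟩
    refine Subtype.ext ?_
    show π.comp jB a * π.comp jB b = π.comp jB b * π.comp jB a
    rw [← map_mul, ← map_mul]
    exact congrArg _ (Subtype.ext (hc _ (hB'A a.2) _ (hB'A b.2)))
  · rintro _ ⟨b, rfl⟩
    rw [← map_pow, show b ^ p = 1 from Subtype.ext (hexp _ (hB'A b.2)), map_one]
  · have htop : Subgroup.zpowers t ⊔ BX = ⊤ := by
      rw [hBXeq, ht, ← MonoidHom.map_zpowers, ← Subgroup.map_sup, sup_comm,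
        show B'.subgroupOf K ⊔ Subgroup.zpowers yK = ⊤ from ?_,
        Subgroup.map_top_of_surjective π (QuotientGroup.mk'_surjective _)]
      rw [show Subgroup.zpowers yK = (Subgroup.zpowers y').subgroupOf K from ?_,
        ← Subgroup.subgroupOf_sup le_sup_left le_sup_right]
      exact Subgroup.subgroupOf_self (H := K)
      apply Subgroup.map_injective K.subtype_injective
      rw [MonoidHom.map_zpowers, Subgroup.subgroupOf_map_subtype, inf_eq_left.mpr le_sup_right]
      rfl
    have h7 := Coprime.card_sup_mul_card_inf (K := BX) (S := Subgroup.zpowers t)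
      Subgroup.le_normalizer_of_normal
    have hinf : Subgroup.zpowers t ⊓ BX = ⊥ := by
      rw [eq_bot_iff]
      intro z hz
      by_contra hz1
      rw [Subgroup.mem_bot] at hz1
      obtain ⟨hzt, hzB⟩ := Subgroup.mem_inf.mp hz
      have h8 : Subgroup.zpowers z = Subgroup.zpowers t := by
        refine Subgroup.eq_of_le_of_card_ge (Subgroup.zpowers_le.mpr hzt) ?_
        rw [Nat.card_zpowers, Nat.card_zpowers, hto]
        have h9 : orderOf z ∣ p :=
          (Subgroup.orderOf_dvd_natCard _ hzt).trans (by rw [Nat.card_zpowers, hto])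
        rcases (Nat.dvd_prime hp.out).mp h9 with h | h
        · exact absurd (orderOf_eq_one_iff.mp h) hz1
        · exact h.ge
      exact htB ((h8 ▸ Subgroup.zpowers_le.mpr hzB : Subgroup.zpowers t ≤ BX) (Subgroup.mem_zpowers t))
    rw [sup_comm BX, inf_comm BX, htop, hinf, Subgroup.card_bot, mul_one, Subgroup.card_top, hBc,
      Nat.card_zpowers, hto] at h7
    rw [h7, pow_succ]
  · have hkey : ∀ b : B', π.comp jB b ∈ Subgroup.centralizer ({t} : Set _) ↔
        ∀ a : A, (a : Q) = b → a ∈ D.ker := by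
      intro b
      rw [Subgroup.mem_centralizer_singleton_iff]
      constructor
      · intro h a ha
        have h0 : π (jB b * yK) = π (yK * jB b) := by rw [map_mul, map_mul]; exact h
        have h6' : (jB b * yK)⁻¹ * (yK * jB b) ∈ R.subgroupOf K := QuotientGroup.eq.mp h0
        have h6 : ((jB b : Q) * y')⁻¹ * (y' * (jB b : Q)) ∈ R := h6'
        have h10 : ((jB b : Q) * y')⁻¹ * (y' * (jB b : Q)) = y'⁻¹ * ((b : Q)⁻¹ * (y' * b * y'⁻¹)) * y' := by
          show ((b : Q) * y')⁻¹ * (y' * (b : Q)) = _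
          group
        rw [h10] at h6
        have h11 : (b : Q)⁻¹ * (y' * b * y'⁻¹) ∈ R := by
          have h12 := R.mul_mem (R.mul_mem h6 (one_mem R)) (one_mem R)
          obtain ⟨i, hi⟩ := Subgroup.mem_zpowers_iff.mp h6
          refine Subgroup.mem_zpowers_iff.mpr ⟨i, ?_⟩
          have hcomm : Commute y' ((y' ^ p) ^ i) := (Commute.self_pow y' p).zpow_right i
          calc (y' ^ p) ^ i = y' * (y' ^ p) ^ i * y'⁻¹ := by rw [hcomm.eq, mul_inv_cancel_right]
            _ = _ := by rw [hi]; group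
        obtain ⟨b₀, hb₀, hb₀e⟩ := b.2
        have hab : a = b₀ := Subtype.ext (ha.trans hb₀e.symm)
        have h13 : (b : Q)⁻¹ * (y' * b * y'⁻¹) ∈ B' :=
          B'.mul_mem (B'.inv_mem b.2) ((Subgroup.mem_normalizer_iff.mp hyN b).mp b.2)
        have h14 := hB'R _ h13 h11
        show D a = 1
        rw [hD, div_eq_one]
        refine Subtype.ext ?_
        rw [hy'c, ha]
        exact (inv_mul_eq_one.mp h14).symm
      · intro h
        obtain ⟨b₀, hb₀, hb₀e⟩ := b.2
        have h15 : σ b₀ = b₀ := div_eq_one.mp (h b₀ hb₀e : D b₀ = 1)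
        have h16 : y' * (b : Q) * y'⁻¹ = b := by
          have := congrArg Subtype.val h15
          rw [hy'c, show ((b₀ : A) : Q) = b from hb₀e] at this
          exact this
        show π (jB b) * π yK = π yK * π (jB b)
        rw [← map_mul, ← map_mul]
        exact congrArg π (Subtype.ext (mul_inv_eq_iff_eq_mul.mp h16).symm)
    have heq : BX ⊓ Subgroup.centralizer ({t} : Set _) =
        (((B ⊓ D.ker).map A.subtype).subgroupOf B').map (π.comp jB) := by
      ext z
      constructor
      · rintro ⟨⟨b, rfl⟩, hz⟩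
        obtain ⟨b₀, hb₀, hb₀e⟩ := b.2
        exact ⟨b, ⟨b₀, ⟨hb₀, (hkey b).mp hz b₀ hb₀e⟩, hb₀e⟩, rfl⟩
      · rintro ⟨b, ⟨b₀, ⟨-, hb₀⟩, hb₀e⟩, rfl⟩
        exact ⟨⟨b, rfl⟩, (hkey b).mpr fun a ha => (Subtype.ext (ha.trans hb₀e.symm) : a = b₀) ▸ hb₀⟩
    rw [heq, Subgroup.card_map_of_injective hinj,
      Nat.card_congr (Subgroup.subgroupOfEquivOfLe (Subgroup.map_mono inf_le_left)).toEquiv,
      Subgroup.card_map_of_injective A.subtype_injective, hfix]

variable {G : Type*} [Group G] [Finite G]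

/-- Away from the exception, `p`-length above one gives a wreath section in a Sylow subgroup. -/
theorem pLengthLE_one (hsol : Cfsg.IsPSolvable p G) (hex : ¬ Exception p G) (P : Sylow p G)
    (hwr : ∀ (W : Type) [Group W] [Finite W], IsWr p W → ¬ Cfsg.Involves W ↥(P : Subgroup G)) :
    Cfsg.PLengthLE p 1 G := by
  classical
  refine pLengthLE_of_mem 1 fun z hz => ?_
  rw [show 2 * 1 = 2 * (0 + 1) from rfl, upperPSeries_odd_succ, Subgroup.mem_comap]
  set U := (Cfsg.upperPSeries p G (2 * 0 + 1)).1 with hU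
  set f := QuotientGroup.mk' U with hf
  have hsurj : Function.Surjective f := QuotientGroup.mk'_surjective U
  haveI := Fitting.pCore_normal (G := G ⧸ U) p
  set O := Cfsg.pCore p (G ⧸ U) with hO
  by_contra hno
  obtain ⟨k, hk⟩ := hz
  have hex' : ∃ i, f z ^ p ^ i ∈ O := ⟨k, by rw [← map_pow, hk, map_one]; exact one_mem _⟩
  obtain ⟨i, hi⟩ : ∃ i, Nat.find hex' = i + 1 := by
    refine ⟨Nat.find hex' - 1, ?_⟩
    have : Nat.find hex' ≠ 0 := fun e => hno (by
      have := Nat.find_spec hex'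
      rwa [e, pow_zero, pow_one] at this)
    omega
  set y := f z ^ p ^ i with hy
  have hyO : y ∉ O := Nat.find_min hex' (by omega)
  have hypO : y ^ p ^ 1 ∈ O := by
    rw [pow_one, hy, ← pow_mul, ← pow_succ, ← hi]
    exact Nat.find_spec hex'
  rcases layer (PSolvable.isPSolvable_of_surjective f hsurj hsol) (pPrimeCore_quotient_odd 0) y 1 le_rfl
    hypO (by rwa [Nat.sub_self, pow_zero, pow_one]) with ⟨v, hv, hne⟩ | hexc
  swap
  · exact hex (Exception.of_surjective f hsurj hexc)
  rw [pow_one] at hypO hne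
  set Φ := (frattini ↥O).map O.subtype with hΦ
  haveI : Φ.Normal := PSolvable.normal_map_of_characteristic O _
  set π := QuotientGroup.mk' Φ with hπ
  have hπs : Function.Surjective π := QuotientGroup.mk'_surjective Φ
  haveI : (O.map π).Normal := Subgroup.Normal.map inferInstance π hπs
  have hΦO : Φ ≤ O := Subgroup.map_subtype_le _
  have hyπ : π y ∉ O.map π := by
    rintro ⟨o, ho, e⟩
    exact hyO (by simpa using O.mul_mem ho (hΦO (QuotientGroup.eq.mp e)))
  have hOp : IsPGroup p O := Fitting.pCore_isPGroup p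
  obtain ⟨hcomm, hpow⟩ := PSolvable.commutator_le_frattini hOp
  obtain ⟨K, R, hRn, hKp, hwrK⟩ := wreath_section (O.map π)
    (by
      rintro _ ⟨a, ha, rfl⟩ _ ⟨b, hb, rfl⟩
      rw [← map_mul, ← map_mul]
      refine QuotientGroup.eq.mpr ⟨⁅(⟨b, hb⟩ : O)⁻¹, (⟨a, ha⟩ : O)⁻¹⁆,
        hcomm (Subgroup.commutator_mem_commutator (Subgroup.mem_top _) (Subgroup.mem_top _)), ?_⟩
      show b⁻¹ * a⁻¹ * b⁻¹⁻¹ * a⁻¹⁻¹ = (a * b)⁻¹ * (b * a)
      group)
    (by
      rintro _ ⟨a, ha, rfl⟩
      rw [← map_pow]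
      exact (QuotientGroup.eq_one_iff _).mpr ⟨⟨a, ha⟩ ^ p, hpow _, rfl⟩)
    (π y) hyπ (by rw [← map_pow]; exact ⟨_, hypO, rfl⟩) (π v) ⟨v, hv, rfl⟩
    (by
      rw [← map_mul, ← map_pow, ← map_pow, ← map_inv, ← map_mul]
      exact fun h => hne ((QuotientGroup.eq_one_iff _).mp h))
  -- transport the section into `P`
  let Ψ := π.comp f
  have hΨ : Function.Surjective Ψ := hπs.comp hsurj
  obtain ⟨S, hS⟩ := hKp.exists_le_sylow
  obtain ⟨c, hc⟩ := MulAction.exists_smul_eq ((G ⧸ U) ⧸ Φ) (P.mapSurjective hΨ) S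
  obtain ⟨g, rfl⟩ := hΨ c
  let χ : ↥(P : Subgroup G) →* _ := (MulAut.conj (Ψ g)).toMonoidHom.comp (Ψ.comp (P : Subgroup G).subtype)
  have hχ : K ≤ χ.range := by
    refine hS.trans (le_of_eq ?_)
    rw [← hc, MonoidHom.range_comp, MonoidHom.range_comp, Subgroup.range_subtype]
    rfl
  let χK : K.comap χ →* K := (χ.comp (K.comap χ).subtype).codRestrict K fun x => x.2
  have hχK : Function.Surjective χK := by
    rintro ⟨k, hk⟩
    obtain ⟨x, rfl⟩ := hχ hk
    exact ⟨⟨x, hk⟩, rfl⟩
  let θ := (QuotientGroup.mk' (R.subgroupOf K)).comp χK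
  have hθ : Function.Surjective θ := (QuotientGroup.mk'_surjective _).comp hχK
  let W : Type := {_i : Fin (Nat.card (K ⧸ R.subgroupOf K)) // True}
  let e : W ≃ K ⧸ R.subgroupOf K :=
    (Equiv.subtypeUnivEquiv fun _ => trivial).trans (Finite.equivFin (K ⧸ R.subgroupOf K)).symm
  letI : Group W := e.group
  let em : W ≃* K ⧸ R.subgroupOf K := e.mulEquiv
  set R' := θ.ker.map (K.comap χ).subtype with hR'
  have hR'eq : R'.subgroupOf (K.comap χ) = θ.ker := by
    rw [hR', Subgroup.subgroupOf, Subgroup.comap_map_eq_self_of_injective (K.comap χ).subtype_injective]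
  haveI hR'n : (R'.subgroupOf (K.comap χ)).Normal := hR'eq ▸ inferInstance
  exact hwr W (hwrK.of_equiv em.symm) ⟨K.comap χ, R', hR'n,
    ⟨((QuotientGroup.quotientMulEquivOfEq hR'eq).trans
      (QuotientGroup.quotientKerEquivOfSurjective θ hθ)).trans em.symm⟩⟩

end CfsgLib.HallHigman
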